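import Cfsg.Agent.Base
import Cfsg.Agent.H32.IndKer
import Cfsg.Agent.H32.Gallagher
import Cfsg.Agent.H32.CliffordCorr

/-! Induction commutes with inflation along a surjective homomorphism; small lemmas on
homogeneous restrictions. -/

set_option autoImplicit false

open Cfsg H28 H33

namespace H32

theorem avg_comp_surjective {Γ G : Type*} [Group Γ] [Fintype Γ] [Group G] [Fintype G]
    (f : Γ →* G) (hf : Function.Surjective f) (F : G → ℂ) :
    (Nat.card Γ : ℂ)⁻¹ * ∑ x, F (f x) = (Nat.card G : ℂ)⁻¹ * ∑ g, F g := by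
  have := classInner_comp_surjective f hf F (fun _ => 1)
  rwa [classInner_one_right, classInner_one_right] at this

theorem card_inv_eq_index_mul {G : Type*} [Group G] [Finite G] (H : Subgroup G) :
    (Nat.card H : ℂ)⁻¹ = H.index * (Nat.card G : ℂ)⁻¹ := by
  have h1 := natCard_ne_zero H
  have h2 : (H.index : ℂ) ≠ 0 := by exact_mod_cast H.index_ne_zero_of_finite
  rw [← H.card_mul_index, Nat.cast_mul]
  field_simp

/-- induction commutes with inflation -/
theorem indFun_comp_surjective {Γ G : Type*} [Group Γ] [Fintype Γ] [Group G] [Fintype G]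
    (f : Γ →* G) (hf : Function.Surjective f) {T : Subgroup Γ} {H : Subgroup G}
    (hH : ∀ x, f x ∈ H ↔ x ∈ T) {θ : T → ℂ} {θ' : H → ℂ}
    (hθ : ∀ (t : T) (h : H), f t = h → θ' h = θ t) (x : Γ) :
    indFun H θ' (f x) = indFun T θ x := by
  have hT : T = H.comap f := by ext y; exact (hH y).symm
  have h0 : ∀ y, extendByZero T θ y = extendByZero H θ' (f y) := fun y => by
    by_cases hy : y ∈ T
    · rw [ext0_of_mem _ _ hy, ext0_of_mem _ _ ((hH y).2 hy)]
      exact (hθ ⟨y, hy⟩ ⟨f y, _⟩ rfl).symm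
    · rw [ext0_of_not_mem _ _ hy, ext0_of_not_mem _ _ (mt (hH y).1 hy)]
  have hi : T.index = H.index := by rw [hT, H.index_comap_of_surjective hf]
  rw [indFun_apply, indFun_apply, card_inv_eq_index_mul, card_inv_eq_index_mul, hi, mul_assoc,
    mul_assoc, ← avg_comp_surjective f hf fun g => extendByZero H θ' (g⁻¹ * f x * g)]
  simp only [h0, map_mul, map_inv]

theorem indFun_comap {Γ G : Type*} [Group Γ] [Fintype Γ] [Group G] [Fintype G]
    (f : Γ →* G) (hf : Function.Surjective f) (H : Subgroup G) (θ : H → ℂ) (x : Γ) :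
    indFun (H.comap f) (fun t => θ ⟨f t, t.2⟩) x = indFun H θ (f x) :=
  (indFun_comp_surjective f hf (fun _ => Iff.rfl) (fun t h e => by
    congr 1; exact Subtype.ext e.symm) x).symm

/-- if the inflation of a character is induced from `T`, the character is induced from the image
of `T` -/
theorem exists_indFun_descend {Γ G : Type*} [Group Γ] [Fintype Γ] [Group G] [Fintype G]
    (f : Γ →* G) (hf : Function.Surjective f) {χ : G → ℂ} (h1 : χ 1 ≠ 0) {T : Subgroup Γ}
    {θ : T → ℂ} (hθ : IsCharacter T θ) (h : indFun T θ = fun x => χ (f x)) :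
    f.ker ≤ T ∧ ∃ θ' : T.map f → ℂ, IsCharacter _ θ' ∧ indFun (T.map f) θ' = χ ∧
      ∀ t : T, θ' ⟨f t, Subgroup.mem_map_of_mem f t.2⟩ = θ t := by
  have h0 : θ 1 ≠ 0 := fun e => h1 (by
    have := congrFun h 1
    rw [indFun_apply_one, e, mul_zero, map_one] at this
    exact this.symm)
  have hk : f.ker ≤ (charKer θ).map T.subtype := by
    refine le_trans ?_ (charKer_indFun_le_map hθ h0)
    rw [h]; exact ker_le_charKer f
  have hkT : f.ker ≤ T := hk.trans (Subgroup.map_subtype_le _)
  obtain ⟨θ', h2, h3⟩ := hθ.exists_descend (f.subgroupMap T) (f.subgroupMap_surjective T) (by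
    intro t ht
    have : (t : Γ) ∈ f.ker := congrArg Subtype.val ht
    obtain ⟨s, hs, e⟩ := hk this
    rwa [show t = s from Subtype.ext e.symm])
  refine ⟨hkT, θ', h2, ?_, h3⟩
  funext g
  obtain ⟨x, rfl⟩ := hf g
  rw [← congrFun h x]
  refine indFun_comp_surjective f hf (fun y => ?_) (fun t k e => ?_) x
  · rw [← Subgroup.mem_comap, Subgroup.comap_map_eq_self hkT]
  · rw [← h3]; congr 1; exact Subtype.ext e.symm

variable {G : Type*} [Group G]

/-- a factor of an irreducible product of characters is irreducible -/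
theorem isIrrCharacter_of_mul [Finite G] {β ζ : G → ℂ} (hβ : IsCharacter G β)
    (hζ : IsCharacter G ζ) (h : IsIrrCharacter G (β * ζ)) : IsIrrCharacter G ζ := by
  have := Fintype.ofFinite G
  have h1 : β 1 * ζ 1 ≠ 0 := h.apply_one_ne_zero
  obtain ⟨η, hη, h2⟩ := hζ.exists_constituent (by rintro rfl; simp at h1)
  have h3 := hζ.sub_irr hη h2
  have h4 : β * ζ = β * η + β * (ζ - η) := by ring
  rw [h4] at h
  rcases h.eq_zero_or_eq_zero_of_add (hβ.mul hη.isCharacter) (hβ.mul h3) with h5 | h5
  · exact absurd (congrFun h5 1) (mul_ne_zero (left_ne_zero_of_mul h1) hη.apply_one_ne_zero)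
  · have h6 : (ζ - η) 1 = 0 := (mul_eq_zero.1 (congrFun h5 1)).resolve_left (left_ne_zero_of_mul h1)
    rwa [sub_eq_zero.1 (h3.eq_zero_of_apply_one h6)]

theorem eq_smul_of_classInner_of_degree [Fintype G] {χ θ : G → ℂ} (hχ : IsCharacter G χ)
    (hθ : IsIrrCharacter G θ) {m : ℕ} (h : classInner χ θ = m) (h1 : χ 1 = m * θ 1) :
    χ = (m : ℂ) • θ := by
  have h2 := hχ.sub_smul_irr hθ m (by rw [h]; simp)
  exact sub_eq_zero.1 (h2.eq_zero_of_apply_one (by simp [h1]))

/-- a character whose restriction to `A ≤ B` is irreducible cannot vanish on `B \ A` -/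
theorem le_of_res_irr_of_vanish [Finite G] {θ : G → ℂ} (hθ : IsCharacter G θ) {A B : Subgroup G}
    (hAB : A ≤ B) (hA : IsIrrCharacter A fun a : A => θ a) (h : ∀ b ∈ B, b ∉ A → θ b = 0) :
    B ≤ A := by
  have := Fintype.ofFinite B
  have := Fintype.ofFinite (A.subgroupOf B)
  have hB : IsIrrCharacter B fun b : B => θ b :=
    (hθ.restrict B).irr_of_comp (Subgroup.inclusion hAB) hA
  have h1 := (classInner_res_self_eq_index_iff (H := A.subgroupOf B) hB).2 fun b hb => h b b.2 hb
  have h2 := (isIrrCharacter_subgroupOf hAB hA).classInner_self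
  rw [← Subgroup.subgroupOf_eq_top, ← Subgroup.index_eq_one]
  exact_mod_cast h1.symm.trans h2

/-- the irreducible constituent of a homogeneous character is determined -/
theorem eq_of_homogeneous [Fintype G] {χ φ θ : G → ℂ} {e : ℂ} (hφ : IsIrrCharacter G φ)
    (hθ : IsIrrCharacter G θ) (h : χ = e • φ) (hc : classInner χ θ ≠ 0) : φ = θ := by
  rw [h, classInner_smul_left] at hc
  exact hφ.eq_of_classInner_ne_zero hθ (right_ne_zero_of_mul hc)

theorem classInner_self_of_homogeneous [Fintype G] {χ φ : G → ℂ} {e : ℕ} (hφ : IsIrrCharacter G φ)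
    (h : χ = (e : ℂ) • φ) : classInner χ χ = (e ^ 2 : ℕ) := by
  rw [h, classInner_smul_left, classInner_smul_right, hφ.classInner_self]
  simp [pow_two]

theorem inertia_eq_top_of_homogeneous {N : Subgroup G} [N.Normal] {χ : G → ℂ}
    (hχ : IsClassFunction G χ) {φ : N → ℂ} {e : ℂ} (he : e ≠ 0)
    (h : (fun n : N => χ n) = e • φ) : inertia φ = ⊤ := by
  rw [eq_top_iff]
  intro g _
  rw [mem_inertia]
  have := cj_res (N := N) hχ g
  rw [h, cj_smul] at this
  exact smul_right_injective _ he this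

end H32
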