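import Cfsg.Agent.Base
import Cfsg.Agent.H32.IndSurj
import Cfsg.Agent.H28.Degree
import Cfsg.Agent.H28.ConjCount

/-! Characters lying over a linear character of a central subgroup; special classes. -/

set_option autoImplicit false

open Cfsg H28 H33
open scoped ComplexConjugate

namespace H32

variable {G : Type*} [Group G]

theorem normal_of_le_center {N : Subgroup G} (hN : N ≤ Subgroup.center G) : N.Normal :=
  ⟨fun n hn g => by rw [Subgroup.mem_center_iff.1 (hN hn) g]; simpa using hn⟩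

theorem comm_of_le_center {N : Subgroup G} (hN : N ≤ Subgroup.center G) (a b : N) :
    a * b = b * a := Subtype.ext (Subgroup.mem_center_iff.1 (hN b.2) a)

theorem inertia_eq_top_of_le_center {N : Subgroup G} [N.Normal] (hN : N ≤ Subgroup.center G)
    (ψ : N → ℂ) : inertia ψ = ⊤ :=
  inertia_eq_top_iff.2 fun g n => by
    congr 1
    exact Subtype.ext (by simp [Subgroup.mem_center_iff.1 (hN n.2) g])

variable [Finite G]

theorem res_eq_of_le_center {N : Subgroup G} [Fintype N] (hN : N ≤ Subgroup.center G) {ψ : N → ℂ}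
    (hψ : IsIrrCharacter N ψ) {χ : G → ℂ} (hχ : IsIrrCharacter G χ)
    (h : classInner (fun n : N => χ n) ψ ≠ 0) :
    classInner (fun n : N => χ n) ψ = χ 1 ∧ ∀ n : N, χ n = χ 1 * ψ n := by
  have := normal_of_le_center hN
  have := Fintype.ofFinite G
  have h1 := clifford_of_invariant hχ hψ (inertia_eq_top_of_le_center hN ψ) h
  have h2 : χ 1 = classInner (fun n : N => χ n) ψ * ψ 1 := congrFun h1 1
  rw [hψ.apply_one_of_comm (comm_of_le_center hN), mul_one] at h2
  exact ⟨h2.symm, fun n => by rw [h2]; exact congrFun h1 n⟩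

theorem apply_mul_of_le_center {N : Subgroup G} [Fintype N] (hN : N ≤ Subgroup.center G)
    {ψ : N → ℂ} (hψ : IsIrrCharacter N ψ) {χ : G → ℂ} (hχ : IsIrrCharacter G χ)
    (h : classInner (fun n : N => χ n) ψ ≠ 0) (n : N) (g : G) : χ (n * g) = ψ n * χ g := by
  rw [apply_mul_of_mem_charCenter hχ.apply_one_ne_zero (hχ.center_le_charCenter (hN n.2)),
    (res_eq_of_le_center hN hψ hχ h).2 n, mul_div_cancel_left₀ _ hχ.apply_one_ne_zero]

theorem eq_zero_of_commutator_mem {N : Subgroup G} [Fintype N] (hN : N ≤ Subgroup.center G)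
    {ψ : N → ℂ} (hψ : IsIrrCharacter N ψ) {χ : G → ℂ} (hχ : IsIrrCharacter G χ)
    (h : classInner (fun n : N => χ n) ψ ≠ 0) {g x : G} (hc : x⁻¹ * g⁻¹ * x * g ∈ N)
    (hne : ψ ⟨_, hc⟩ ≠ 1) : χ g = 0 := by
  have h1 := apply_mul_of_le_center hN hψ hχ h ⟨_, hc⟩ g⁻¹
  have h2 : x⁻¹ * g⁻¹ * x * g * g⁻¹ = x⁻¹ * g⁻¹ * x := by group
  rw [h2, hχ.isClassFunction.apply_conj'] at h1
  have h3 : χ g⁻¹ = 0 := by
    by_contra h3
    exact hne (mul_right_cancel₀ h3 (h1.symm.trans (one_mul _).symm))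
  rwa [hχ.isCharacter.apply_inv, map_eq_zero] at h3

open Classical in
/-- second orthogonality relation over a central character -/
theorem sum_over_mul_conj {N : Subgroup G} [Fintype N] (hN : N ≤ Subgroup.center G)
    {ψ : N → ℂ} (hψ : IsIrrCharacter N ψ) (g h : G) :
    (Nat.card N : ℂ) * ∑ χ ∈ Finset.univ.filter
      (fun χ : IrrCharacter G => classInner (fun n : N => χ.1 n) ψ ≠ 0), χ.1 g * conj (χ.1 h) =
      ∑ z : N, conj (ψ z) * (Nat.card {x : G // x * h * x⁻¹ = z * g} : ℂ) := by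
  simp only [← column_orthogonality_card, Finset.mul_sum]
  rw [Finset.sum_comm, Finset.sum_filter]
  refine Finset.sum_congr rfl fun χ _ => ?_
  have h1 : ∀ z : N, conj (ψ z) * (χ.1 (z * g) * conj (χ.1 h)) =
      (χ.1 z * conj (ψ z)) * ((χ.1 1)⁻¹ * (χ.1 g * conj (χ.1 h))) := fun z => by
    rw [apply_mul_of_mem_charCenter χ.2.apply_one_ne_zero (χ.2.center_le_charCenter (hN z.2))]
    ring
  simp only [h1, ← Finset.sum_mul]
  rw [← card_mul_classInner]
  split_ifs with h0
  · rw [(res_eq_of_le_center hN hψ χ.2 h0).1]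
    have := χ.2.apply_one_ne_zero
    field_simp
  · rw [not_not.1 h0]; simp

open Classical in
theorem sum_over_norm_sq_of_special {N : Subgroup G} [Fintype N] (hN : N ≤ Subgroup.center G)
    {ψ : N → ℂ} (hψ : IsIrrCharacter N ψ) {g : G}
    (hg : ∀ x : G, x⁻¹ * g⁻¹ * x * g ∈ N → x * g = g * x) :
    (Nat.card N : ℂ) * ∑ χ ∈ Finset.univ.filter
      (fun χ : IrrCharacter G => classInner (fun n : N => χ.1 n) ψ ≠ 0), χ.1 g * conj (χ.1 g) =
      Nat.card (Subgroup.centralizer ({g} : Set G)) := by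
  rw [sum_over_mul_conj hN hψ, Finset.sum_eq_single 1]
  · rw [hψ.apply_one_of_comm (comm_of_le_center hN), OneMemClass.coe_one, one_mul,
      card_conjugators (IsConj.refl g)]
    simp
  · intro z _ hz
    have : IsEmpty {x : G // x * g * x⁻¹ = z * g} := ⟨fun ⟨x, h5⟩ => hz (Subtype.ext (by
      have h1 : x * g⁻¹ * x⁻¹ * g = (z : G)⁻¹ := by
        have h2 : x * g⁻¹ * x⁻¹ = (z * g)⁻¹ := by rw [← h5]; group
        rw [h2, ← Subgroup.mem_center_iff.1 (hN z.2) g]
        group
      have h3 := hg x⁻¹ (by rw [inv_inv, h1]; exact N.inv_mem z.2)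
      have h4 : x * g * x⁻¹ = g := by rw [mul_assoc, ← h3]; group
      rw [h4] at h5
      simpa using h5))⟩
    simp
  · simp

/-- over every central character there is an irreducible character not vanishing at a special
element -/
theorem exists_over_apply_ne_zero {N : Subgroup G} [Fintype N] (hN : N ≤ Subgroup.center G)
    {ψ : N → ℂ} (hψ : IsIrrCharacter N ψ) {g : G}
    (hg : ∀ x : G, x⁻¹ * g⁻¹ * x * g ∈ N → x * g = g * x) :
    ∃ χ, IsIrrCharacter G χ ∧ classInner (fun n : N => χ n) ψ ≠ 0 ∧ χ g ≠ 0 := by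
  classical
  by_contra h
  push Not at h
  have h1 := sum_over_norm_sq_of_special hN hψ hg
  rw [Finset.sum_eq_zero fun χ hχ => by
    rw [h χ.1 χ.2 (Finset.mem_filter.1 hχ).2, zero_mul], mul_zero] at h1
  exact natCard_ne_zero _ h1.symm

theorem card_centralizer_of_special {N : Subgroup G} [N.Normal]
    {g : G} (hg : ∀ x : G, x⁻¹ * g⁻¹ * x * g ∈ N → x * g = g * x) :
    Nat.card (Subgroup.centralizer ({g} : Set G)) =
      Nat.card N * Nat.card (Subgroup.centralizer ({(g : G ⧸ N)} : Set (G ⧸ N))) := by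
  have h1 : Subgroup.centralizer ({g} : Set G) =
      (Subgroup.centralizer ({(g : G ⧸ N)} : Set (G ⧸ N))).comap (QuotientGroup.mk' N) := by
    ext x
    rw [Subgroup.mem_comap, mem_centralizer_singleton, mem_centralizer_singleton,
      QuotientGroup.mk'_apply, ← QuotientGroup.mk_mul, ← QuotientGroup.mk_mul]
    refine ⟨fun h => by rw [h], fun h => hg x ?_⟩
    rw [eq_comm, QuotientGroup.eq] at h
    simpa [mul_assoc] using h
  have h2 := (Subgroup.centralizer ({g} : Set G)).card_mul_index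
  rw [h1, Subgroup.index_comap_of_surjective _ (QuotientGroup.mk'_surjective N), ← h1,
    ← N.card_mul_index, N.index_eq_card,
    ← (Subgroup.centralizer ({(g : G ⧸ N)} : Set (G ⧸ N))).card_mul_index, ← mul_assoc] at h2
  exact Nat.eq_of_mul_eq_mul_right (Nat.pos_of_ne_zero Subgroup.index_ne_zero_of_finite) h2

theorem sum_card_centralizer_filter [Fintype G] (P : ConjClasses G → Prop) [DecidablePred P] :
    ∑ g : G, (if P (ConjClasses.mk g) then Nat.card (Subgroup.centralizer ({g} : Set G)) else 0) =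
      Nat.card {C // P C} * Nat.card G := by
  classical
  have : Fintype (ConjClasses G) := Fintype.ofFinite _
  rw [sum_eq_sum_conjClasses _ fun a b hab => by
    rw [ConjClasses.mk_eq_mk_iff_isConj.2 hab, card_centralizer_eq_of_isConj hab]]
  have h1 : ∀ C : ConjClasses G, ConjClasses.mk (Quotient.out C) = C := Quotient.out_eq
  simp only [h1, smul_eq_mul, mul_ite, mul_zero, Subgroup.index_mul_card]
  rw [← Finset.sum_filter, Finset.sum_const, smul_eq_mul, Nat.card_eq_fintype_card (α := {C // P C}),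
    Fintype.card_subtype]

omit [Finite G] in
theorem special_of_isConj_mk {N : Subgroup G} [hn : N.Normal] (hN : N ≤ Subgroup.center G) {g h : G}
    (hc : IsConj (g : G ⧸ N) h) (hg : ∀ x : G, x⁻¹ * g⁻¹ * x * g ∈ N → x * g = g * x) (x : G)
    (hx : x⁻¹ * h⁻¹ * x * h ∈ N) : x * h = h * x := by
  obtain ⟨c, hc⟩ := isConj_iff.1 hc
  obtain ⟨c, rfl⟩ := QuotientGroup.mk_surjective c
  rw [← QuotientGroup.mk_inv, ← QuotientGroup.mk_mul, ← QuotientGroup.mk_mul,
    QuotientGroup.eq] at hc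
  obtain ⟨n, hn', rfl⟩ : ∃ n ∈ N, h = c * g * c⁻¹ * n := ⟨_, hc, by group⟩
  have hz := Subgroup.mem_center_iff.1 (hN hn')
  have h1 : x⁻¹ * (c * g * c⁻¹ * n)⁻¹ * x * (c * g * c⁻¹ * n) =
      c * ((c⁻¹ * x * c)⁻¹ * g⁻¹ * (c⁻¹ * x * c) * g) * c⁻¹ := by
    calc _ = x⁻¹ * n⁻¹ * ((c * g⁻¹ * c⁻¹ * x * c * g * c⁻¹) * n) := by group
      _ = _ := by rw [hz]; group
  have h2 := hg (c⁻¹ * x * c) (by
    have := hn.conj_mem _ (h1 ▸ hx) c⁻¹
    simpa [mul_assoc] using this)
  calc x * (c * g * c⁻¹ * n) = c * (c⁻¹ * x * c * g) * c⁻¹ * n := by group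
    _ = c * g * c⁻¹ * (x * n) := by rw [h2]; group
    _ = _ := by rw [hz]; group

/-- the number of irreducible characters over a faithful central character is the number of
special classes -/
theorem card_over_eq_card_special {N : Subgroup G} [N.Normal] [Fintype N]
    (hN : N ≤ Subgroup.center G) {ψ : N → ℂ} (hψ : IsIrrCharacter N ψ)
    (hf : ∀ n : N, ψ n = ψ 1 → n = 1) :
    Nat.card {χ : IrrCharacter G // classInner (fun n : N => χ.1 n) ψ ≠ 0} =
      Nat.card {C : ConjClasses (G ⧸ N) // ∃ g : G, ConjClasses.mk (g : G ⧸ N) = C ∧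
        ∀ x : G, x⁻¹ * g⁻¹ * x * g ∈ N → x * g = g * x} := by
  classical
  have := Fintype.ofFinite G
  have := Fintype.ofFinite (G ⧸ N)
  let P : ConjClasses (G ⧸ N) → Prop := fun C => ∃ g : G, ConjClasses.mk (g : G ⧸ N) = C ∧
    ∀ x : G, x⁻¹ * g⁻¹ * x * g ∈ N → x * g = g * x
  let F : G ⧸ N → ℕ := fun q =>
    if P (ConjClasses.mk q) then Nat.card (Subgroup.centralizer ({q} : Set (G ⧸ N))) else 0
  have h1 : ∀ g : G, ∑ χ ∈ Finset.univ.filter
      (fun χ : IrrCharacter G => classInner (fun n : N => χ.1 n) ψ ≠ 0), χ.1 g * conj (χ.1 g) =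
      F g := fun g => by
    by_cases hg : ∀ x : G, x⁻¹ * g⁻¹ * x * g ∈ N → x * g = g * x
    · have h2 := sum_over_norm_sq_of_special hN hψ hg
      rw [card_centralizer_of_special hg, Nat.cast_mul] at h2
      rw [mul_left_cancel₀ (natCard_ne_zero N) h2]
      simp only [F]
      rw [if_pos ⟨g, rfl, hg⟩]
    · simp only [F]
      rw [if_neg fun ⟨g', e, hg'⟩ =>
        hg (special_of_isConj_mk hN (ConjClasses.mk_eq_mk_iff_isConj.1 e) hg'), Nat.cast_zero]
      push Not at hg
      obtain ⟨x, hx, hne⟩ := hg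
      refine Finset.sum_eq_zero fun χ hχ => ?_
      rw [eq_zero_of_commutator_mem hN hψ χ.2 (Finset.mem_filter.1 hχ).2 hx fun h => hne ?_,
        zero_mul]
      rw [← hψ.apply_one_of_comm (comm_of_le_center hN)] at h
      have h3 : x⁻¹ * g⁻¹ * x * g = 1 := congrArg Subtype.val (hf _ h)
      calc x * g = g * x * (x⁻¹ * g⁻¹ * x * g) := by group
        _ = g * x := by rw [h3, mul_one]
  have h2 := avg_comp_surjective (QuotientGroup.mk' N) (QuotientGroup.mk'_surjective N)
    fun q => (F q : ℂ)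
  simp only [QuotientGroup.mk'_apply, ← h1] at h2
  rw [Finset.sum_comm, Finset.mul_sum, ← Nat.cast_sum,
    show ∑ x, F x = _ from sum_card_centralizer_filter P,
    Finset.sum_congr rfl fun χ _ => (classInner_def _ _).symm.trans χ.2.classInner_self,
    Finset.sum_const, Nat.cast_mul, mul_comm (Nat.card {C // P C} : ℂ), ← mul_assoc,
    inv_mul_cancel₀ (natCard_ne_zero _), one_mul, nsmul_eq_mul, mul_one, Nat.cast_inj] at h2
  rw [← h2, Nat.card_eq_fintype_card, Fintype.card_subtype]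

end H32
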