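import Cfsg.Agent.Base
import Cfsg.Agent.H40.GlSolv
import Cfsg.Agent.H40.GlP2
import Cfsg.Agent.H29.GalChar
import Cfsg.Agent.H28.Degree
import Cfsg.Agent.H32.CliffordCorr
import Cfsg.Agent.H32.DegreeRatio
import Cfsg.Agent.H32.DetExt
import Cfsg.Agent.H32.GoingDown
import Cfsg.Agent.H32.IndSurj

/-! Clifford theory for subgroups of a fixed ambient group (tools for McKay counts). -/

set_option autoImplicit false

namespace H32

open Cfsg H28 H29 H33 H40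

variable {Γ : Type*} [Group Γ]

/-- normalizer -/
abbrev Nm (K : Subgroup Γ) : Subgroup Γ := Subgroup.normalizer (K : Set Γ)

/-- centralizer -/
abbrev Ct (K : Subgroup Γ) : Subgroup Γ := Subgroup.centralizer (K : Set Γ)

/-- a function on `K`, viewed on `K.subgroupOf G` -/
abbrev sg (G : Subgroup Γ) {K : Subgroup Γ} (θ : K → ℂ) : K.subgroupOf G → ℂ :=
  fun x => θ ⟨(x : G), x.2⟩

/-- `θ` extends to a character of `U` -/
def Ext {K U : Subgroup Γ} (h : K ≤ U) (θ : K → ℂ) : Prop :=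
  ∃ ψ : U → ℂ, IsCharacter U ψ ∧ res h ψ = θ

theorem Ext.mono {K U V : Subgroup Γ} {h : K ≤ U} {θ : K → ℂ} (h1 : Ext h θ) (hKV : K ≤ V)
    (hVU : V ≤ U) : Ext hKV θ := by
  obtain ⟨ψ, hψ, rfl⟩ := h1
  exact ⟨res hVU ψ, isCharacter_res hVU hψ, rfl⟩

theorem Ext.of_res {K E U : Subgroup Γ} (hKE : K ≤ E) {h : E ≤ U} {η : E → ℂ} (h1 : Ext h η) :
    Ext (hKE.trans h) (res hKE η) := by
  obtain ⟨ψ, hψ, rfl⟩ := h1
  exact ⟨ψ, hψ, rfl⟩

theorem ext_congr {K U V : Subgroup Γ} (e : U = V) (h : K ≤ U) (h' : K ≤ V) (θ : K → ℂ) :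
    Ext h θ ↔ Ext h' θ := by subst e; rfl

theorem ext_refl {K : Subgroup Γ} {θ : K → ℂ} (hθ : IsCharacter K θ) : Ext le_rfl θ :=
  ⟨θ, hθ, rfl⟩

theorem inertia_sg {K G : Subgroup Γ} (h : K ≤ G) (hG : G ≤ Nm K) [(K.subgroupOf G).Normal]
    (θ : K → ℂ) : inertia (sg G θ) = (invSub K θ).subgroupOf G := by
  ext g
  rw [mem_inertia_iff, Subgroup.mem_subgroupOf, mem_invSub]
  refine ⟨fun H => ⟨hG g.2, fun a b e => ?_⟩, fun H n => H.2 _ _ rfl⟩
  have := H ⟨⟨a, h a.2⟩, a.2⟩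
  rw [← show θ ⟨_, _⟩ = θ a from this]
  exact congrArg θ (Subtype.ext e)

theorem inertia_sg_eq_top {K G : Subgroup Γ} (h : K ≤ G) (hG : G ≤ Nm K)
    [(K.subgroupOf G).Normal] {θ : K → ℂ} (hθ : InvAll K G θ) : inertia (sg G θ) = ⊤ := by
  rw [inertia_sg h hG, Subgroup.subgroupOf_eq_top]
  exact fun g hg => ⟨hG hg, hθ g hg⟩

theorem invAll_res {K U : Subgroup Γ} (h : K ≤ U) {ψ : U → ℂ} (hψ : IsClassFunction U ψ) :
    InvAll K U (res h ψ) := fun _ hx => (invBy_of_mem hψ hx).res h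

theorem invAll_self {K : Subgroup Γ} {θ : K → ℂ} (hθ : IsClassFunction K θ) : InvAll K K θ :=
  fun _ hx => invBy_of_mem hθ hx

theorem invAll_iff_le {K P : Subgroup Γ} (hP : P ≤ Nm K) {θ : K → ℂ} :
    InvAll K P θ ↔ P ≤ invSub K θ :=
  ⟨fun h x hx => ⟨hP hx, h x hx⟩, fun h x hx => (h hx).2⟩

variable [Finite Γ]

theorem mult_ne_zero_iff {K G : Subgroup Γ} [Fintype K] (h : K ≤ G) {χ : G → ℂ} {θ : K → ℂ}
    (hχ : IsCharacter G χ) (hθ : IsCharacter K θ) :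
    mult h χ θ ≠ 0 ↔ classInner (res h χ) θ ≠ 0 := by
  rw [mult_spec h hχ hθ, Nat.cast_ne_zero]

theorem mult_sg {K G : Subgroup Γ} [Fintype (K.subgroupOf G)] (h : K ≤ G) {χ : G → ℂ}
    {θ : K → ℂ} (hχ : IsCharacter G χ) (hθ : IsCharacter K θ) :
    classInner (fun x : K.subgroupOf G => χ x) (sg G θ) = mult h χ θ := by
  have := Fintype.ofFinite K
  rw [← mult_spec h hχ hθ, ← H40.classInner_subgroupOf h]

theorem mult_cjn_of_mem {K G : Subgroup Γ} (h : K ≤ G) (hG : G ≤ Nm K) {χ : G → ℂ}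
    (hχ : IsClassFunction G χ) (θ : K → ℂ) {g : Γ} (hg : g ∈ G) :
    mult h χ (cjn (hG hg) θ) = mult h χ θ := by
  rw [← mult_cjn h (Subgroup.le_normalizer hg) (hG hg) χ θ,
    (invBy_iff_cjn _).1 (invBy_of_mem hχ hg)]

theorem exists_cjn_of_mult {K G : Subgroup Γ} (h : K ≤ G) (hG : G ≤ Nm K) {χ : G → ℂ}
    (hχ : IsIrrCharacter G χ) {θ φ : K → ℂ} (hθ : IsIrrCharacter K θ) (hφ : IsIrrCharacter K φ)
    (h1 : mult h χ θ ≠ 0) (h2 : mult h χ φ ≠ 0) : ∃ (g : Γ) (hg : g ∈ G), φ = cjn (hG hg) θ := by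
  have := Fintype.ofFinite K
  exact exists_cjn_of_constituent h hG hχ hθ hφ
    ((mult_ne_zero_iff h hχ.isCharacter hθ.isCharacter).1 h1)
    ((mult_ne_zero_iff h hχ.isCharacter hφ.isCharacter).1 h2)

theorem exists_mult_over {K G : Subgroup Γ} (h : K ≤ G) {θ : K → ℂ} (hθ : IsIrrCharacter K θ) :
    ∃ χ : G → ℂ, IsIrrCharacter G χ ∧ mult h χ θ ≠ 0 := by
  have := Fintype.ofFinite K
  obtain ⟨χ, h1, h2⟩ := exists_irr_over' h hθ
  exact ⟨χ, h1, (mult_ne_zero_iff h h1.isCharacter hθ.isCharacter).2 h2⟩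

theorem exists_mult_under {K G : Subgroup Γ} (h : K ≤ G) {χ : G → ℂ} (hχ : IsIrrCharacter G χ) :
    ∃ θ : K → ℂ, IsIrrCharacter K θ ∧ mult h χ θ ≠ 0 := by
  have := Fintype.ofFinite K
  obtain ⟨θ, h1, h2⟩ := exists_constituent_res' h hχ
  exact ⟨θ, h1, (mult_ne_zero_iff h hχ.isCharacter h1.isCharacter).2 h2⟩

theorem mult_of_invAll {L K G : Subgroup Γ} (hLK : L ≤ K) (hKG : K ≤ G) (hG : G ≤ Nm L)
    {ν : L → ℂ} (hν : IsIrrCharacter L ν) (hinv : InvAll L G ν) {χ : G → ℂ}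
    (hχ : IsIrrCharacter G χ) (h1 : mult (hLK.trans hKG) χ ν ≠ 0) {θ : K → ℂ}
    (hθ : IsIrrCharacter K θ) (h2 : mult hKG χ θ ≠ 0) : mult hLK θ ν ≠ 0 := by
  obtain ⟨ν', h3, h4⟩ := exists_mult_under hLK hθ
  obtain ⟨g, hg, e⟩ := exists_cjn_of_mult _ hG hχ hν h3 h1
    (mult_trans_ne_zero hLK hKG hχ.isCharacter hθ h3.isCharacter h2 h4)
  rwa [e, (invBy_iff_cjn _).1 (hinv g hg)] at h4

theorem res_eq_smul_of_invAll {K G : Subgroup Γ} (h : K ≤ G) (hG : G ≤ Nm K) {θ : K → ℂ}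
    (hθ : IsIrrCharacter K θ) (hinv : InvAll K G θ) {χ : G → ℂ} (hχ : IsIrrCharacter G χ)
    (h1 : mult h χ θ ≠ 0) : res h χ = (mult h χ θ : ℂ) • θ := by
  classical
  have := Fintype.ofFinite Γ
  have := Subgroup.normal_subgroupOf_of_le_normalizer hG
  have h2 := mult_sg h hχ.isCharacter hθ.isCharacter
  have h3 := clifford_of_invariant hχ (isIrr_subgroupOf h hθ) (inertia_sg_eq_top h hG hinv)
    (by rw [h2]; exact Nat.cast_ne_zero.2 h1)
  rw [h2] at h3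
  funext k
  exact congrFun h3 ⟨⟨k, h k.2⟩, k.2⟩

theorem mult_dvd_relIndex {K G : Subgroup Γ} (h : K ≤ G) (hG : G ≤ Nm K) {θ : K → ℂ}
    (hθ : IsIrrCharacter K θ) {χ : G → ℂ} (hχ : IsIrrCharacter G χ) (h1 : mult h χ θ ≠ 0) :
    mult h χ θ ∣ K.relIndex G := by
  classical
  have := Fintype.ofFinite Γ
  have := Subgroup.normal_subgroupOf_of_le_normalizer hG
  exact (ramification_dvd_relIndex hχ (isIrr_subgroupOf h hθ)
    (mult_sg h hχ.isCharacter hθ.isCharacter) h1).trans (Subgroup.relIndex_dvd_index_of_normal _ _)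

theorem charDegree_eq_of_mult {K G : Subgroup Γ} (h : K ≤ G) (hG : G ≤ Nm K) {θ : K → ℂ}
    (hθ : IsIrrCharacter K θ) {χ : G → ℂ} (hχ : IsIrrCharacter G χ) (h1 : mult h χ θ ≠ 0) :
    charDegree χ = mult h χ θ * (invSub K θ).relIndex G * charDegree θ := by
  classical
  have := Fintype.ofFinite Γ
  have := Subgroup.normal_subgroupOf_of_le_normalizer hG
  have h2 := mult_sg h hχ.isCharacter hθ.isCharacter
  have h3 := clifford_degree hχ (isIrr_subgroupOf h hθ) (by rw [h2]; exact Nat.cast_ne_zero.2 h1)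
  rw [h2, inertia_sg h hG] at h3
  refine charDegree_eq ?_
  rw [h3]
  push_cast
  rw [hθ.cast_charDegree]
  rfl

theorem exists_charDegree_eq_mul {K G : Subgroup Γ} (h : K ≤ G) (hG : G ≤ Nm K) {θ : K → ℂ}
    (hθ : IsIrrCharacter K θ) {χ : G → ℂ} (hχ : IsIrrCharacter G χ) (h1 : mult h χ θ ≠ 0) :
    ∃ k, k ∣ K.relIndex G ∧ charDegree χ = k * charDegree θ := by
  classical
  have := Fintype.ofFinite Γ
  have := Subgroup.normal_subgroupOf_of_le_normalizer hG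
  have h2 := mult_sg h hχ.isCharacter hθ.isCharacter
  obtain ⟨k, h3, h4⟩ := exists_degree_eq_mul_of_constituent hχ (isIrr_subgroupOf h hθ)
    (by rw [h2]; exact Nat.cast_ne_zero.2 h1)
  refine ⟨k, h3, charDegree_eq ?_⟩
  rw [h4]
  push_cast
  rw [hθ.cast_charDegree]
  rfl

theorem res_eq_of_charDegree_eq {K G : Subgroup Γ} (h : K ≤ G) {θ : K → ℂ}
    (hθ : IsIrrCharacter K θ) {χ : G → ℂ} (hχ : IsCharacter G χ) (h1 : mult h χ θ ≠ 0)
    (hd : charDegree χ = charDegree θ) : res h χ = θ := by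
  have := Fintype.ofFinite K
  have h2 := mult_spec h hχ hθ.isCharacter
  have hr := isCharacter_res h hχ
  have h3 := charDegree_eq_sum_mult h hχ
  have h4 : mult h χ θ * charDegree θ ≤ charDegree χ := by
    have h7 := Finset.single_le_sum (s := Finset.univ)
      (f := fun β : IrrCharacter K => mult h χ β * charDegree β.1)
      (fun _ _ => Nat.zero_le _) (Finset.mem_univ (⟨θ, hθ⟩ : IrrCharacter K))
    exact h7.trans h3.ge
  have h5 : mult h χ θ = 1 := by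
    have := hθ.charDegree_pos
    rw [hd] at h4
    have h6 : mult h χ θ ≤ 1 := by nlinarith
    omega
  have := eq_smul_of_classInner_of_degree hr hθ (m := 1) (by rw [h2, h5]) (by
    rw [← hθ.cast_charDegree, ← hd, hχ.cast_charDegree, Nat.cast_one, one_mul]; rfl)
  simpa using this

theorem mult_res_self {K G : Subgroup Γ} (h : K ≤ G) {χ : G → ℂ}
    (hr : IsIrrCharacter K (res h χ)) : mult h χ (res h χ) = 1 := by
  have := Fintype.ofFinite K
  exact mult_eq h (by rw [hr.classInner_self, Nat.cast_one])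

theorem eq_of_mult_of_res_irr {K G : Subgroup Γ} (h : K ≤ G) {χ : G → ℂ} (hχ : IsCharacter G χ)
    (hr : IsIrrCharacter K (res h χ)) {θ : K → ℂ} (hθ : IsIrrCharacter K θ)
    (h1 : mult h χ θ ≠ 0) : res h χ = θ := by
  have := Fintype.ofFinite K
  exact hr.eq_of_classInner_ne_zero hθ ((mult_ne_zero_iff h hχ hθ.isCharacter).1 h1)

theorem irr_of_res_irr {K G : Subgroup Γ} (h : K ≤ G) {χ : G → ℂ} (hχ : IsCharacter G χ)
    (hr : IsIrrCharacter K (res h χ)) : IsIrrCharacter G χ :=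
  hχ.irr_of_comp (Subgroup.inclusion h) hr

section gal
variable (σ : ℂ →+* ℂ)

/-- Galois conjugate of a function -/
abbrev gl {X : Type*} (χ : X → ℂ) : X → ℂ := fun g => σ (χ g)

theorem mult_gl {K G : Subgroup Γ} (h : K ≤ G) {χ : G → ℂ} {θ : K → ℂ}
    (hχ : IsCharacter G χ) (hθ : IsCharacter K θ) : mult h (gl σ χ) (gl σ θ) = mult h χ θ := by
  have := Fintype.ofFinite K
  refine mult_eq h ?_
  have := classInner_gal (res h χ) hθ.isGeneralizedCharacter σ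
  rw [mult_spec h hχ hθ, map_natCast] at this
  exact this

end gal

/-- The characters counted in the (Galois-)McKay equality. -/
def McSet (p : ℕ) (σ : ℂ →+* ℂ) {L G : Subgroup Γ} (h : L ≤ G) (ν : L → ℂ)
    (χ : IrrCharacter G) : Prop :=
  ¬ p ∣ charDegree χ.1 ∧ gl σ χ.1 = χ.1 ∧ mult h χ.1 ν ≠ 0

/-- The number of `σ`-fixed `p'`-degree characters of `G` over `ν`. -/
noncomputable def cnt (p : ℕ) (σ : ℂ →+* ℂ) {L G : Subgroup Γ} (h : L ≤ G) (ν : L → ℂ) : ℕ :=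
  Nat.card {χ // McSet p σ h ν χ}

theorem cnt_congr (p : ℕ) (σ : ℂ →+* ℂ) {L G G' : Subgroup Γ} (e : G = G') (h : L ≤ G)
    (h' : L ≤ G') (ν : L → ℂ) : cnt p σ h ν = cnt p σ h' ν := by subst e; rfl

/-- Clifford correspondence, counting form. -/
theorem cnt_inertia {p : ℕ} (hp : p.Prime) (σ : ℂ →+* ℂ) {L T G : Subgroup Γ} (hLT : L ≤ T)
    (hTG : T ≤ G) (hG : G ≤ Nm L) {ν : L → ℂ} (hν : IsIrrCharacter L ν) (hσ : gl σ ν = ν)
    (hT : T = G ⊓ invSub L ν) (hpT : ¬ p ∣ T.relIndex G) :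
    cnt p σ hLT ν = cnt p σ (hLT.trans hTG) ν := by
  classical
  have := Fintype.ofFinite Γ
  have := Subgroup.normal_subgroupOf_of_le_normalizer hG
  have hLG := hLT.trans hTG
  have hν' := isIrr_subgroupOf hLG hν
  have hT' : T.subgroupOf G = inertia (sg G ν) := by
    rw [inertia_sg hLG hG, hT, Subgroup.inf_subgroupOf_left]
  have hNT : L.subgroupOf G ≤ T.subgroupOf G := Subgroup.subgroupOf_mono G hLT
  have key : ∀ {ψ : T → ℂ}, IsIrrCharacter T ψ →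
      classInner (fun n : L.subgroupOf G => sg G ψ ⟨n, hNT n.2⟩) (sg G ν) = mult hLT ψ ν :=
    fun hψ => by
      rw [← mult_spec hLT hψ.isCharacter hν.isCharacter, ← H40.classInner_subgroupOf hLG]
  have key' : ∀ {ψ : T → ℂ}, IsIrrCharacter T ψ → mult hLT ψ ν ≠ 0 →
      classInner (fun n : L.subgroupOf G => sg G ψ ⟨n, hNT n.2⟩) (sg G ν) ≠ 0 :=
    fun hψ h => by rw [key hψ]; exact Nat.cast_ne_zero.2 h
  have hdeg : ∀ {ψ : T → ℂ}, IsIrrCharacter T ψ →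
      charDegree (indFun (T.subgroupOf G) (sg G ψ)) = T.relIndex G * charDegree ψ := fun hψ =>
    (isIrr_subgroupOf hTG hψ).isCharacter.charDegree_indFun
  have hgl : ∀ ψ : T → ℂ, gl σ (indFun (T.subgroupOf G) (sg G ψ)) =
      indFun (T.subgroupOf G) (sg G (gl σ ψ)) := fun ψ =>
    funext fun g => (indFun_ringHom _ _ σ g).symm
  have sginj : ∀ ψ ψ' : T → ℂ, sg G ψ = sg G ψ' → ψ = ψ' := fun ψ ψ' e =>
    funext fun t => congrFun e ⟨⟨t, hTG t.2⟩, t.2⟩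
  let F : {ψ // McSet p σ hLT ν ψ} → {χ // McSet p σ hLG ν χ} := fun ψ =>
    have h1 := cliffordCorr_irr hν' hT' hNT (isIrr_subgroupOf hTG ψ.1.2) (key' ψ.1.2 ψ.2.2.2)
    ⟨⟨indFun (T.subgroupOf G) (sg G ψ.1.1), h1.1⟩, by
      rw [hdeg ψ.1.2, hp.dvd_mul, not_or]; exact ⟨hpT, ψ.2.1⟩, by rw [hgl, ψ.2.2.1], by
      have h2 := h1.2
      rw [mult_sg hLG h1.1.isCharacter hν.isCharacter, key ψ.1.2, Nat.cast_inj] at h2
      rw [h2]; exact ψ.2.2.2⟩
  refine Nat.card_congr (Equiv.ofBijective F ⟨fun a b e => ?_, fun χ => ?_⟩)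
  · exact Subtype.ext (Subtype.ext (sginj _ _ (cliffordCorr_inj hν' hT' hNT
      (isIrr_subgroupOf hTG a.1.2) (isIrr_subgroupOf hTG b.1.2) (key' a.1.2 a.2.2.2)
      (key' b.1.2 b.2.2.2) (congrArg (fun x => x.1.1) e))))
  · obtain ⟨ψ, hψ, e, h1⟩ := cliffordCorr_surj hν' hT' hNT χ.1.2 (by
      rw [mult_sg hLG χ.1.2.isCharacter hν.isCharacter]; exact Nat.cast_ne_zero.2 χ.2.2.2)
    obtain ⟨ψ, rfl⟩ : ∃ ψ' : T → ℂ, ψ = sg G ψ' := ⟨fun t => ψ ⟨⟨t, hTG t.2⟩, t.2⟩, rfl⟩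
    have hψ' : IsIrrCharacter T ψ := isIrrCharacter_of_subgroupOf hTG hψ
    rw [mult_sg hLG χ.1.2.isCharacter hν.isCharacter, key hψ', Nat.cast_inj] at h1
    have h2 : mult hLT ψ ν ≠ 0 := h1 ▸ χ.2.2.2
    refine ⟨⟨⟨ψ, hψ'⟩, fun hd => χ.2.1 ?_, ?_, h2⟩, Subtype.ext (Subtype.ext e)⟩
    · rw [← e, hdeg hψ']; exact hd.mul_left _
    · refine sginj _ _ (cliffordCorr_inj hν' hT' hNT (isIrr_subgroupOf hTG (hψ'.gal σ)) hψ
        (key' (hψ'.gal σ) ?_) (key' hψ' h2) ?_)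
      · rwa [← hσ, mult_gl σ hLT hψ'.isCharacter hν.isCharacter]
      · rw [← hgl, e, χ.2.2.1]

omit [Finite Γ] in
theorem card_eq_of_orbit {A A' B B' : Type*} [Finite A] [Finite A'] [Finite B] (R : A → B → Prop)
    (R' : A' → B' → Prop) (s : B → B → Prop) (s' : B' → B' → Prop) (hs : Equivalence s)
    (e : B ≃ B') (he : ∀ b c, s b c ↔ s' (e b) (e c)) (hA : ∀ a, ∃ b, ∀ c, R a c ↔ s b c)
    (hA' : ∀ a, ∃ b, ∀ c, R' a c ↔ s' b c)
    (hcard : ∀ b, Nat.card {a // R a b} = Nat.card {a // R' a (e b)}) :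
    Nat.card A = Nat.card A' := by
  classical
  let S : Setoid B := ⟨s, hs⟩
  choose f hf using hA
  choose f' hf' using hA'
  let g : A → Quotient S := fun a => Quotient.mk S (f a)
  let g' : A' → Quotient S := fun a => Quotient.mk S (e.symm (f' a))
  have := Fintype.ofFinite (Quotient S)
  rw [← Nat.card_congr (Equiv.sigmaFiberEquiv g), ← Nat.card_congr (Equiv.sigmaFiberEquiv g'),
    Nat.card_sigma, Nat.card_sigma]
  refine Finset.sum_congr rfl fun q _ => ?_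
  obtain ⟨b, rfl⟩ := Quotient.exists_rep q
  have h1 : ∀ a, g a = Quotient.mk S b ↔ R a b := fun a => by rw [hf]; exact Quotient.eq
  have h2 : ∀ a, g' a = Quotient.mk S b ↔ R' a (e b) := fun a => by
    rw [hf', ← e.apply_symm_apply (f' a), ← he]; exact Quotient.eq
  simp only [h1, h2, hcard]

section sylow
variable {p : ℕ} [hp : Fact p.Prime]

theorem exists_invAll_under {K G S : Subgroup Γ} (h : K ≤ G) (hG : G ≤ Nm K) (hS : IsPGroup p S)
    (hSG : S ≤ G) {χ : G → ℂ} (hχ : IsIrrCharacter G χ) (hd : ¬ p ∣ charDegree χ) :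
    ∃ θ : K → ℂ, IsIrrCharacter K θ ∧ InvAll K S θ ∧ mult h χ θ ≠ 0 := by
  obtain ⟨θ, hθ, h1⟩ := exists_mult_under h hχ
  obtain ⟨c, hc, h2⟩ := exists_conj_le_of_not_dvd_relIndex (X := invSub K θ) (H := G) (Q := S)
    (fun hh => hd (by
      rw [charDegree_eq_of_mult h hG hθ hχ h1]; exact (hh.mul_left _).mul_right _)) hS hSG
  exact ⟨cjn (hG hc) θ, isIrr_cjn _ hθ, fun s hs => invBy_cjn _ (h2 s hs).2,
    by rwa [mult_cjn_of_mem h hG hχ.isClassFunction θ hc]⟩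

theorem mem_Nm_of_conj_le {S : Subgroup Γ} {m : Γ} (h : ∀ s ∈ S, m * s * m⁻¹ ∈ S) : m ∈ Nm S :=
  Subgroup.mem_normalizer_fintype h

theorem exists_cjn_Nm_of_invAll {K G S : Subgroup Γ} (h : K ≤ G) (hG : G ≤ Nm K)
    (hS : IsPGroup p S) (hSG : S ≤ G) (hSyl : ¬ p ∣ S.relIndex G) {χ : G → ℂ}
    (hχ : IsIrrCharacter G χ) {θ φ : K → ℂ} (hθ : IsIrrCharacter K θ) (hφ : IsIrrCharacter K φ)
    (h1 : mult h χ θ ≠ 0) (h2 : mult h χ φ ≠ 0) (i1 : InvAll K S θ) (i2 : InvAll K S φ) :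
    ∃ (m : Γ) (hm : m ∈ G ⊓ Nm S), φ = cjn (hG hm.1) θ := by
  obtain ⟨g, hg, rfl⟩ := exists_cjn_of_mult h hG hχ hθ hφ h1 h2
  have hSI : S ≤ G ⊓ invSub K θ := le_inf hSG ((invAll_iff_le (hSG.trans hG)).1 i1)
  obtain ⟨c, hc, h3⟩ := exists_conj_le_of_not_dvd_relIndex (X := S) (H := G ⊓ invSub K θ)
    (Q := S.map (MulAut.conj g).toMonoidHom)
    (fun hh => hSyl (hh.trans (Dvd.intro _ (Subgroup.relIndex_mul_relIndex _ _ _ hSI inf_le_left))))
    (hS.map _) (by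
      rintro _ ⟨s, hs, rfl⟩
      have hgs : g * s * g⁻¹ ∈ G := G.mul_mem (G.mul_mem hg (hSG hs)) (G.inv_mem hg)
      refine ⟨hgs, hG hgs, ?_⟩
      have := invBy_cjn (s := g * s * g⁻¹) (Subgroup.inv_mem _ (hG hg)) (χ := cjn (hG hg) θ)
        (by simpa [mul_assoc] using i2 s hs)
      rwa [cjn_inv_cjn] at this)
  refine ⟨c * g, ⟨G.mul_mem hc.1 hg, mem_Nm_of_conj_le fun s hs => ?_⟩, ?_⟩
  · have := h3 _ ⟨s, hs, rfl⟩
    simpa [mul_assoc] using this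
  · rw [← cjn_cjn hc.2.1 (hG hg), (invBy_iff_cjn _).1 hc.2.2]

end sylow

end H32
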