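import Cfsg.Agent.Base
import Cfsg.Agent.H32.McA
import Cfsg.Agent.H18.PSolv

/-! Reduction of (Galois-)McKay counts in `p`-solvable groups to a base case. -/

set_option autoImplicit false

namespace H32

open Cfsg H28 H29 H33 H40

theorem mem_of_pow_mem_of_coprime {G : Type*} [Group G] {H : Subgroup G} {x : G} {a b : ℕ}
    (hab : a.Coprime b) (ha : x ^ a ∈ H) (hb : x ^ b ∈ H) : x ∈ H := by
  have e : x = (x ^ a) ^ (Nat.gcdA a b) * (x ^ b) ^ (Nat.gcdB a b) := by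
    rw [← zpow_natCast, ← zpow_natCast, ← zpow_mul, ← zpow_mul, ← zpow_add, ← Nat.gcd_eq_gcd_ab,
      hab.gcd_eq_one]
    simp
  rw [e]
  exact H.mul_mem (H.zpow_mem ha _) (H.zpow_mem hb _)

variable {Γ : Type*} [Group Γ] [Finite Γ] {p : ℕ} [hp : Fact p.Prime] {σ : ℂ →+* ℂ}

omit [Finite Γ] hp in
theorem not_dvd_relIndex_of_le {S M G : Subgroup Γ} (hSM : S ≤ M) (hMG : M ≤ G)
    (h : ¬ p ∣ S.relIndex G) : ¬ p ∣ S.relIndex M := fun hh =>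
  h (hh.trans (Dvd.intro _ (Subgroup.relIndex_mul_relIndex _ _ _ hSM hMG)))

omit [Finite Γ] hp in
theorem not_dvd_relIndex_of_le' {S M G : Subgroup Γ} (hSM : S ≤ M)
    (h : ¬ p ∣ S.relIndex G) : ¬ p ∣ M.relIndex G := fun hh =>
  h (hh.trans (Subgroup.relIndex_dvd_of_le_left G hSM))

omit hp in
theorem relIndex_lt_of_lt_right {L M G : Subgroup Γ} (hLM : L ≤ M) (hMG : M ≤ G) (h : M ≠ G) :
    L.relIndex M < L.relIndex G := by
  rw [← Subgroup.relIndex_mul_relIndex _ _ _ hLM hMG]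
  have h1 : M.relIndex G ≠ 1 := fun e => h (le_antisymm hMG (Subgroup.relIndex_eq_one.1 e))
  have h2 : M.relIndex G ≠ 0 := Subgroup.index_ne_zero_of_finite
  have h3 : L.relIndex M ≠ 0 := Subgroup.index_ne_zero_of_finite
  exact lt_mul_of_one_lt_right (Nat.pos_of_ne_zero h3) (by omega)

omit hp in
theorem relIndex_lt_of_lt_left {L M G : Subgroup Γ} (hLM : L ≤ M) (hMG : M ≤ G) (h : L ≠ M) :
    M.relIndex G < L.relIndex G := by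
  rw [← Subgroup.relIndex_mul_relIndex _ _ _ hLM hMG]
  have h1 : L.relIndex M ≠ 1 := fun e => h (le_antisymm hLM (Subgroup.relIndex_eq_one.1 e))
  have h2 : M.relIndex G ≠ 0 := Subgroup.index_ne_zero_of_finite
  have h3 : L.relIndex M ≠ 0 := Subgroup.index_ne_zero_of_finite
  exact lt_mul_of_one_lt_left (Nat.pos_of_ne_zero h2) (by omega)

omit [Finite Γ] hp in
theorem Nm_inf_le_Nm_sup {A B : Subgroup Γ} : Nm A ⊓ Nm B ≤ Nm (A ⊔ B) :=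
  Subgroup.normalizer_inf_normalizer_le_normalizer_sup A B

omit [Finite Γ] hp in
theorem Nm_inf_le_Nm_inf {A B : Subgroup Γ} : Nm A ⊓ Nm B ≤ Nm (A ⊓ B) :=
  Subgroup.inf_normalizer_le_normalizer_inf

theorem gl_eq_of_invAll {k : ℕ} (hσ : ∀ z, σ^[p ^ k] z = z) {K G S : Subgroup Γ} (h : K ≤ G)
    (hG : G ≤ Nm K) (hS : IsPGroup p S) (hSG : S ≤ G) (hSyl : ¬ p ∣ S.relIndex G) {χ : G → ℂ}
    (hχ : IsIrrCharacter G χ) (hg : gl σ χ = χ) {θ : K → ℂ} (hθ : IsIrrCharacter K θ)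
    (h1 : mult h χ θ ≠ 0) (i1 : InvAll K S θ) : gl σ θ = θ := by
  obtain ⟨m, hm, e⟩ := exists_cjn_Nm_of_invAll h hG hS hSG hSyl hχ hθ (hθ.gal σ) h1
    (by rwa [← hg, mult_gl σ h hχ.isCharacter hθ.isCharacter])
    i1 (fun s hs a b e => congrArg σ (i1 s hs a b e))
  have key : ∀ n : ℕ, (fun x => σ^[n] (θ x)) = cjn (Subgroup.pow_mem _ (hG hm.1) n) θ := by
    intro n
    induction n with
    | zero => rw [cjn_congr _ (Subgroup.one_mem _) (pow_zero m), cjn_one]; rfl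
    | succ n ih =>
      rw [cjn_congr _ (Subgroup.mul_mem _ (hG hm.1) (Subgroup.pow_mem _ (hG hm.1) n))
        (pow_succ' m n), ← cjn_cjn (hG hm.1) (Subgroup.pow_mem _ (hG hm.1) n), ← e]
      funext x
      rw [Function.iterate_succ_apply', congrFun ih x]
      rfl
  have h2 : m ^ p ^ k ∈ invSub K θ := ⟨Subgroup.pow_mem _ (hG hm.1) _, (invBy_iff_cjn _).2 (by
    rw [← key]; funext x; exact hσ _)⟩
  have h3 : m ^ S.relIndex (G ⊓ Nm S) ∈ invSub K θ :=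
    (invAll_iff_le (hSG.trans hG)).1 i1 (pow_relIndex_mem' inf_le_right hm)
  have h4 := mem_of_pow_mem_of_coprime ((hp.out.coprime_iff_not_dvd.2
    (not_dvd_relIndex_of_le (le_inf hSG Subgroup.le_normalizer) inf_le_left hSyl)).pow_left k) h2 h3
  exact e.trans ((invBy_iff_cjn _).1 h4.2)

/-- `S`-invariant members of `McSet` on a normal subgroup -/
abbrev McInv (p : ℕ) (σ : ℂ →+* ℂ) {L K : Subgroup Γ} (S : Subgroup Γ) (h : L ≤ K) (ν : L → ℂ) :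
    Type _ := {θ : IrrCharacter K // McSet p σ h ν θ ∧ InvAll K S θ.1}

theorem orbit_spec {k : ℕ} (hσ : ∀ z, σ^[p ^ k] z = z) {L K G S : Subgroup Γ} (hLK : L ≤ K)
    (hKG : K ≤ G) (hGL : G ≤ Nm L) (hG : G ≤ Nm K) (hS : IsPGroup p S) (hSG : S ≤ G)
    (hSyl : ¬ p ∣ S.relIndex G) {ν : L → ℂ} (hν : IsIrrCharacter L ν) (hinv : InvAll L G ν)
    (χ : {χ // McSet p σ (hLK.trans hKG) ν χ}) :
    ∃ θ : McInv p σ S hLK ν, ∀ φ : McInv p σ S hLK ν, mult hKG χ.1.1 φ.1.1 ≠ 0 ↔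
      ∃ (m : Γ) (hm : m ∈ G ⊓ Nm S), φ.1.1 = cjn (hG hm.1) θ.1.1 := by
  obtain ⟨θ, hθ, h1, h2⟩ := exists_invAll_under hKG hG hS hSG χ.1.2 χ.2.1
  obtain ⟨d, -, hd⟩ := exists_charDegree_eq_mul hKG hG hθ χ.1.2 h2
  refine ⟨⟨⟨θ, hθ⟩, ⟨fun h => χ.2.1 (hd ▸ h.mul_left _),
    gl_eq_of_invAll hσ hKG hG hS hSG hSyl χ.1.2 χ.2.2.1 hθ h2 h1,
    mult_of_invAll hLK hKG hGL hν hinv χ.1.2 χ.2.2.2 hθ h2⟩, h1⟩, fun φ => ⟨fun h => ?_, ?_⟩⟩
  · exact exists_cjn_Nm_of_invAll hKG hG hS hSG hSyl χ.1.2 hθ φ.1.2 h2 h h1 φ.2.2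
  · rintro ⟨m, hm, e⟩
    rwa [e, mult_cjn_of_mem hKG hG χ.1.2.isClassFunction θ hm.1]

omit hp in
theorem card_over_eq_cnt {L K G : Subgroup Γ} (hLK : L ≤ K) (hKG : K ≤ G) {ν : L → ℂ}
    (hν : IsIrrCharacter L ν) {θ : K → ℂ} (hθ : IsIrrCharacter K θ) (h : mult hLK θ ν ≠ 0) :
    Nat.card {χ : {χ // McSet p σ (hLK.trans hKG) ν χ} // mult hKG χ.1.1 θ ≠ 0} =
      cnt p σ hKG θ :=
  Nat.card_congr
    { toFun := fun χ => ⟨χ.1.1, χ.1.2.1, χ.1.2.2.1, χ.2⟩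
      invFun := fun χ => ⟨⟨χ.1, χ.2.1, χ.2.2.1,
        mult_trans_ne_zero hLK hKG χ.1.2.isCharacter hθ hν.isCharacter χ.2.2.2 h⟩, χ.2.2.2⟩
      left_inv := fun _ => rfl
      right_inv := fun _ => rfl }

theorem cnt_eq_of_equiv {k : ℕ} (hσ : ∀ z, σ^[p ^ k] z = z) {L K K' G G' S : Subgroup Γ}
    (hLK : L ≤ K) (hKG : K ≤ G) (hGL : G ≤ Nm L) (hG : G ≤ Nm K) (hLK' : L ≤ K') (hKG' : K' ≤ G')
    (hG' : G' ≤ Nm K') (hGG : G' ≤ G) (hS : IsPGroup p S) (hSG : S ≤ G')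
    (hSyl : ¬ p ∣ S.relIndex G) (hN : G ⊓ Nm S ≤ G') {ν : L → ℂ} (hν : IsIrrCharacter L ν)
    (hinv : InvAll L G ν) (e : McInv p σ S hLK ν ≃ McInv p σ S hLK' ν)
    (he : ∀ (θ φ : McInv p σ S hLK ν) (m : Γ) (hm : m ∈ G') (_ : m ∈ Nm S),
      φ.1.1 = cjn (hG (hGG hm)) θ.1.1 ↔ (e φ).1.1 = cjn (hG' hm) (e θ).1.1)
    (hc : ∀ θ, cnt p σ hKG θ.1.1 = cnt p σ hKG' (e θ).1.1) :
    cnt p σ (hLK.trans hKG) ν = cnt p σ (hLK'.trans hKG') ν := by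
  refine card_eq_of_orbit (A := {χ // McSet p σ (hLK.trans hKG) ν χ})
    (A' := {χ // McSet p σ (hLK'.trans hKG') ν χ}) (B := McInv p σ S hLK ν)
    (B' := McInv p σ S hLK' ν) (fun χ φ => mult hKG χ.1.1 φ.1.1 ≠ 0)
    (fun χ φ => mult hKG' χ.1.1 φ.1.1 ≠ 0)
    (fun θ φ => ∃ (m : Γ) (hm : m ∈ G ⊓ Nm S), φ.1.1 = cjn (hG hm.1) θ.1.1)
    (fun θ φ => ∃ (m : Γ) (hm : m ∈ G' ⊓ Nm S), φ.1.1 = cjn (hG' hm.1) θ.1.1) ⟨?_, ?_, ?_⟩ e ?_
    (orbit_spec hσ hLK hKG hGL hG hS (hSG.trans hGG) hSyl hν hinv)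
    (orbit_spec hσ hLK' hKG' (hGG.trans hGL) hG' hS hSG (not_dvd_relIndex_of_le hSG hGG hSyl) hν
      (hinv.mono hGG)) ?_
  · exact fun θ => ⟨1, Subgroup.one_mem _, (cjn_one _).symm⟩
  · rintro θ φ ⟨m, hm, e⟩
    exact ⟨m⁻¹, Subgroup.inv_mem _ hm, by rw [e, cjn_inv_cjn]⟩
  · rintro θ φ ψ ⟨m, hm, e⟩ ⟨m', hm', e'⟩
    exact ⟨m * m', Subgroup.mul_mem _ hm hm', by rw [e', e, cjn_cjn]⟩
  · intro θ φ
    exact ⟨fun ⟨m, hm, h⟩ => ⟨m, ⟨hN hm, hm.2⟩, (he θ φ m (hN hm) hm.2).1 h⟩,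
      fun ⟨m, hm, h⟩ => ⟨m, ⟨hGG hm.1, hm.2⟩, (he θ φ m hm.1 hm.2).2 h⟩⟩
  · intro θ
    rw [card_over_eq_cnt hLK hKG hν θ.1.2 θ.2.1.2.2,
      card_over_eq_cnt hLK' hKG' hν (e θ).1.2 (e θ).2.1.2.2, hc]

/-- The base case of the reduction. -/
def McBase (p : ℕ) (σ : ℂ →+* ℂ) (Γ : Type*) [Group Γ] [Finite Γ] : Prop :=
  ∀ (L K G S : Subgroup Γ) (hLK : L ≤ K) (hKG : K ≤ G), G ≤ Nm L → G ≤ Nm K → IsPGroup p S →
    S ≤ G → ¬ p ∣ S.relIndex G → ¬ p ∣ L.relIndex K → G ≤ Nm (K ⊔ S) →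
    ∀ ν : L → ℂ, IsIrrCharacter L ν → InvAll L G ν → gl σ ν = ν →
    ∀ hLN : L ≤ G ⊓ Nm (L ⊔ S), cnt p σ (hLK.trans hKG) ν = cnt p σ hLN ν

theorem exists_normal_step (hΓ : IsPSolvable p Γ) {L G : Subgroup Γ} (h : L ≤ G) (hG : G ≤ Nm L)
    (hne : L ≠ G) : ∃ K : Subgroup Γ, L ≤ K ∧ L ≠ K ∧ K ≤ G ∧ G ≤ Nm K ∧
      ((∃ m, L.relIndex K = p ^ m) ∨ ¬ p ∣ L.relIndex K) := by
  have := Subgroup.normal_subgroupOf_of_le_normalizer hG
  obtain ⟨M, hM, h1, -, h2⟩ := H18.isPSolvable_exists_normal_between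
    (H18.isPSolvable_subgroup hΓ G) (N := L.subgroupOf G) (K := ⊤)
    (lt_top_iff_ne_top.2 fun e => hne (le_antisymm h (Subgroup.subgroupOf_eq_top.1 e)))
  obtain ⟨K, hKG, rfl⟩ : ∃ K, K ≤ G ∧ M = K.subgroupOf G :=
    ⟨M.map G.subtype, Subgroup.map_subtype_le _,
      (Subgroup.comap_map_eq_self_of_injective G.subtype_injective M).symm⟩
  rw [Subgroup.relIndex_subgroupOf hKG] at h2
  refine ⟨K, fun x hx => h1.le (show (⟨x, h hx⟩ : G) ∈ L.subgroupOf G from hx), ?_, hKG,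
    Subgroup.le_normalizer_of_normal_subgroupOf hKG, h2.imp id fun h3 => ?_⟩
  · rintro rfl; exact h1.ne rfl
  · exact hp.out.coprime_iff_not_dvd.1 h3.symm

theorem le_sup_of_relIndex_pow {L K G S : Subgroup Γ} (hLK : L ≤ K) (hKG : K ≤ G)
    (hG : G ≤ Nm K) (hSG : S ≤ G) (hSyl : ¬ p ∣ S.relIndex G) {m : ℕ}
    (hm : L.relIndex K = p ^ m) : K ≤ L ⊔ S := by
  have hPG : L ⊔ S ≤ G := sup_le (hLK.trans hKG) hSG
  have h1 : (L ⊔ S).relIndex K ∣ p ^ m := hm ▸ Subgroup.relIndex_dvd_of_le_left K le_sup_left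
  have h2 : ¬ p ∣ (L ⊔ S).relIndex K := by
    intro hd
    apply not_dvd_relIndex_of_le' (le_sup_right : S ≤ L ⊔ S) hSyl
    have := Subgroup.normal_subgroupOf_of_le_normalizer hG
    have h3 : (L ⊔ S).relIndex K = (L ⊔ S).relIndex ((L ⊔ S) ⊔ K) := by
      have e1 := Subgroup.relIndex_mul_relIndex ((L ⊔ S) ⊓ K) (L ⊔ S) ((L ⊔ S) ⊔ K)
        inf_le_left le_sup_left
      have e2 := Subgroup.relIndex_mul_relIndex ((L ⊔ S) ⊓ K) K ((L ⊔ S) ⊔ K)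
        inf_le_right le_sup_right
      have e3 : K.relIndex ((L ⊔ S) ⊔ K) = K.relIndex (L ⊔ S) := by
        have hle : (L ⊔ S) ⊔ K ≤ G := sup_le hPG hKG
        rw [← Subgroup.relIndex_subgroupOf hle, Subgroup.subgroupOf_sup hPG hKG,
          Subgroup.relIndex_sup_right, Subgroup.relIndex_subgroupOf hPG]
      rw [Subgroup.inf_relIndex_left] at e1
      rw [Subgroup.inf_relIndex_right, e3, ← e1, mul_comm] at e2
      exact Nat.eq_of_mul_eq_mul_left (Nat.pos_of_ne_zero Subgroup.index_ne_zero_of_finite) e2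
    rw [h3] at hd
    exact hd.trans (Dvd.intro _ (Subgroup.relIndex_mul_relIndex _ _ _ le_sup_left
      (sup_le hPG hKG)))
  exact Subgroup.relIndex_eq_one.1 (Nat.eq_one_of_dvd_coprimes
    ((hp.out.coprime_iff_not_dvd.2 h2).pow_left m) h1 dvd_rfl)

theorem cnt_normalizer_of_base {k : ℕ} (hσ : ∀ z, σ^[p ^ k] z = z) (hΓ : IsPSolvable p Γ)
    (hb : McBase p σ Γ) {S : Subgroup Γ} (hS : IsPGroup p S) (n : ℕ) :
    ∀ (L G : Subgroup Γ) (hLG : L ≤ G), L.relIndex G = n → G ≤ Nm L → S ≤ G →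
      ¬ p ∣ S.relIndex G → ∀ ν : L → ℂ, IsIrrCharacter L ν → InvAll L S ν → gl σ ν = ν →
      ∀ hLN : L ≤ G ⊓ Nm (L ⊔ S), cnt p σ hLG ν = cnt p σ hLN ν := by
  induction n using Nat.strong_induction_on with
  | _ n ih =>
  intro L G hLG hn hG hSG hSyl ν hν hinv hg hLN
  have hLNm : L ≤ Nm (L ⊔ S) := le_sup_left.trans Subgroup.le_normalizer
  have hSNm : S ≤ Nm (L ⊔ S) := le_sup_right.trans Subgroup.le_normalizer
  by_cases hT : G ⊓ invSub L ν = G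
  swap
  · have hLI : L ≤ invSub L ν := le_invSub hν.isClassFunction
    have hSI : S ≤ invSub L ν := (invAll_iff_le (hSG.trans hG)).1 hinv
    have hLT : L ≤ G ⊓ invSub L ν := le_inf hLG hLI
    have hST : S ≤ G ⊓ invSub L ν := le_inf hSG hSI
    have h1 := cnt_inertia hp.out σ hLT inf_le_left hG hν hg rfl
      (not_dvd_relIndex_of_le' hST hSyl)
    have h2 := ih _ (hn ▸ relIndex_lt_of_lt_right hLT inf_le_left hT) L _ hLT rfl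
      (inf_le_left.trans hG) hST (not_dvd_relIndex_of_le hST inf_le_left hSyl) ν hν hinv hg
      (le_inf hLT hLNm)
    have h3 := cnt_inertia hp.out σ (T := G ⊓ Nm (L ⊔ S) ⊓ invSub L ν) (G := G ⊓ Nm (L ⊔ S))
      (le_inf hLN hLI) inf_le_left (inf_le_left.trans hG) hν hg rfl
      (not_dvd_relIndex_of_le' (le_inf (le_inf hSG hSNm) hSI)
        (not_dvd_relIndex_of_le (le_inf hSG hSNm) inf_le_left hSyl))
    rw [← h1, h2, ← h3]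
    exact cnt_congr _ _ (inf_right_comm _ _ _) _ _ _
  have hinvG : InvAll L G ν := (invAll_iff_le hG).2 (inf_eq_left.1 hT)
  by_cases hLe : L = G
  · refine cnt_congr _ _ (inf_eq_left.2 ?_).symm _ _ _
    rw [← hLe]; exact hLNm
  obtain ⟨K, hLK, hne, hKG, hGK, hK⟩ := exists_normal_step hΓ hLG hG hLe
  have hKM : K ≤ G ⊓ Nm (K ⊔ S) := le_inf hKG (le_sup_left.trans Subgroup.le_normalizer)
  have hSM : S ≤ G ⊓ Nm (K ⊔ S) := le_inf hSG (le_sup_right.trans Subgroup.le_normalizer)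
  by_cases hM : G ⊓ Nm (K ⊔ S) = G
  · rcases hK with ⟨m, hm⟩ | hK
    · have h1 : K ⊔ S = L ⊔ S := le_antisymm
        (sup_le (le_sup_of_relIndex_pow hLK hKG hGK hSG hSyl hm) le_sup_right)
        (sup_le_sup_right hLK _)
      rw [h1] at hM
      exact cnt_congr _ _ hM.symm _ _ _
    · exact hb L K G S hLK hKG hG hGK hS hSG hSyl hK (inf_eq_left.1 hM) ν hν hinvG hg hLN
  · have h1 := cnt_eq_of_equiv hσ hLK hKG hG hGK hLK hKM (inf_le_left.trans hGK) inf_le_left hS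
      hSM hSyl (fun x hx => ⟨hx.1, Nm_inf_le_Nm_sup ⟨hGK hx.1, hx.2⟩⟩) hν hinvG (Equiv.refl _)
      (fun _ _ _ _ _ => Iff.rfl) fun θ => ih _ (hn ▸ relIndex_lt_of_lt_left hLK hKG hne) K G hKG
        rfl hGK hSG hSyl θ.1.1 θ.1.2 θ.2.2 θ.2.1.2.1 hKM
    have h2 := ih _ (hn ▸ relIndex_lt_of_lt_right (hLK.trans hKM) inf_le_left hM) L _
      (hLK.trans hKM) rfl (inf_le_left.trans hG) hSM (not_dvd_relIndex_of_le hSM inf_le_left hSyl)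
      ν hν hinv hg (le_inf (hLK.trans hKM) hLNm)
    rw [h1, h2]
    refine cnt_congr _ _ (le_antisymm (inf_le_inf_right _ inf_le_left) fun x hx =>
      ⟨⟨hx.1, ?_⟩, hx.2⟩) _ _ _
    have := Nm_inf_le_Nm_sup ⟨hGK hx.1, hx.2⟩
    rwa [← sup_assoc, sup_eq_left.2 hLK] at this

end H32
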