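import Cfsg.Agent.Base
import Cfsg.Agent.H32.McB
import Cfsg.Agent.H32.Cover
import Cfsg.Agent.H32.CentralChar

/-! Gallagher's count: the number of irreducible characters over an invariant `θ` is the number
of `θ`-good classes of the quotient. -/

set_option autoImplicit false

namespace H32

open Cfsg H28 H29 H33 H40

theorem conjClasses_map_bijective {A B : Type*} [Group A] [Group B] (e : A ≃* B) :
    Function.Bijective (ConjClasses.map e.toMonoidHom) := by
  refine ⟨fun a b h => ?_, ConjClasses.map_surjective e.surjective⟩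
  obtain ⟨a, rfl⟩ := ConjClasses.mk_surjective a
  obtain ⟨b, rfl⟩ := ConjClasses.mk_surjective b
  have h1 : IsConj (e a) (e b) := ConjClasses.mk_eq_mk_iff_isConj.1 h
  have h2 := e.symm.toMonoidHom.map_isConj h1
  simp only [MulEquiv.toMonoidHom_eq_coe, MonoidHom.coe_coe, MulEquiv.symm_apply_apply] at h2
  exact ConjClasses.mk_eq_mk_iff_isConj.2 h2

/-- `θ` extends to the subgroup `U` -/
def ExtTo {G : Type*} [Group G] {N : Subgroup G} (θ : N → ℂ) (U : Subgroup G) : Prop :=
  ∃ ψ : U → ℂ, IsCharacter U ψ ∧ ∀ (n : N) (h : (n : G) ∈ U), ψ ⟨n, h⟩ = θ n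

namespace Cover

universe u

variable {G : Type u} [Group G] [Finite G] {N : Subgroup G} [hN : N.Normal] {ϑ : N → ℂ}
  (C : Cover N ϑ)

/-- commuting in the central model is the same as extendibility -/
theorem commutator_mem_range_iff (hϑ : IsIrrCharacter N ϑ) {x g : C.Γ}
    (hc : C.π (x⁻¹ * g⁻¹ * x * g) ∈ N) {U : Subgroup G}
    (hU : U = N ⊔ Subgroup.closure {C.π x, C.π g}) :
    x⁻¹ * g⁻¹ * x * g ∈ C.ν.range ↔ ExtTo ϑ U := by
  classical
  have hNU : N ≤ U := hU ▸ le_sup_left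
  have hx : C.π x ∈ U := hU ▸ Subgroup.mem_sup_right (Subgroup.subset_closure (by simp))
  have hg : C.π g ∈ U := hU ▸ Subgroup.mem_sup_right (Subgroup.subset_closure (by simp))
  let W : Subgroup C.Γ := U.comap C.π
  let ι : N →* W := C.ν.codRestrict W fun n => by
    rw [Subgroup.mem_comap, C.π_ν]; exact hNU n.2
  let πW : W →* U := (C.π.comp W.subtype).codRestrict U fun w => w.2
  have hπW : Function.Surjective πW := fun u => by
    obtain ⟨γ, hγ⟩ := C.π_surj u
    exact ⟨⟨γ, by rw [Subgroup.mem_comap, hγ]; exact u.2⟩, Subtype.ext hγ⟩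
  have hker : ∀ a : C.π.ker, (a : C.Γ) ∈ W := fun a => by
    rw [Subgroup.mem_comap, a.2]; exact U.one_mem
  have h1 : C.th 1 ≠ 0 := C.th_irr.apply_one_ne_zero
  constructor
  · intro hr
    -- the quotient `W / ν(N)` is abelian
    let q := QuotientGroup.mk' C.ν.range
    have hab : ∀ a ∈ W, ∀ b ∈ W, q a * q b = q b * q a := by
      have hZ : ∀ a, C.π a ∈ N → q a ∈ Subgroup.center _ := fun a ha =>
        C.comap_le_comap_center ha
      have hxg : q x * q g = q g * q x := by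
        rw [← map_mul, ← map_mul, eq_comm, QuotientGroup.mk'_apply, QuotientGroup.mk'_apply,
          QuotientGroup.eq]
        simpa [mul_assoc] using hr
      have hle : ∀ t : C.Γ ⧸ C.ν.range, Commute t (q x) → Commute t (q g) →
          ∀ b ∈ W, Commute t (q b) := fun t h2 h3 b hb => by
        let M : Subgroup C.Γ := (Subgroup.centralizer {t}).comap q
        have hk : C.π.ker ≤ M := fun a ha => by
          rw [Subgroup.mem_comap, mem_centralizer_singleton]
          exact (Subgroup.mem_center_iff.1 (hZ a (by rw [ha]; exact N.one_mem)) t).symm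
        have h4 : U ≤ M.map C.π := by
          rw [hU]
          refine sup_le (fun n hn => ⟨C.ν ⟨n, hn⟩, ?_, C.π_ν _⟩) ?_
          · change _ ∈ M
            rw [Subgroup.mem_comap, mem_centralizer_singleton]
            exact (Subgroup.mem_center_iff.1 (hZ _ (by rw [C.π_ν]; exact hn)) t).symm
          · rw [Subgroup.closure_le]
            rintro _ (rfl | rfl)
            · exact ⟨x, mem_centralizer_singleton.2 h2.symm, rfl⟩
            · exact ⟨g, mem_centralizer_singleton.2 h3.symm, rfl⟩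
        have h5 : b ∈ M := by
          rw [← Subgroup.comap_map_eq_self hk]
          exact h4 hb
        exact (mem_centralizer_singleton.1 h5).symm
      intro a ha b hb
      exact hle (q a) (hle (q x) (Commute.refl _) hxg a ha).symm
        (hle (q g) hxg.symm (Commute.refl _) a ha).symm b hb
    -- extend `lam⁻¹`
    let Wq : Subgroup (C.Γ ⧸ C.ν.range) := W.map q
    letI : CommGroup Wq := { (inferInstance : Group Wq) with
      mul_comm := by
        rintro ⟨_, a, ha, rfl⟩ ⟨_, b, hb, rfl⟩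
        exact Subtype.ext (hab a ha b hb) }
    letI : CommGroup C.π.ker := { (inferInstance : Group C.π.ker) with
      mul_comm := fun a b => Subtype.ext (Subgroup.mem_center_iff.1 (C.ker_le_center b.2) a) }
    let j : C.π.ker →* Wq := (q.comp C.π.ker.subtype).codRestrict Wq fun a =>
      ⟨a, hker a, rfl⟩
    have hj : Function.Injective j := by
      rw [injective_iff_map_eq_one]
      intro a ha
      have h2 : (a : C.Γ) ∈ C.ν.range := (QuotientGroup.eq_one_iff _).1 (congrArg Subtype.val ha)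
      have h3 : (a : C.Γ) ∈ C.π.ker ⊓ C.ν.range := ⟨a.2, h2⟩
      rw [C.ker_inf_range] at h3
      exact Subtype.ext h3
    obtain ⟨μ, hμ⟩ := exists_hom_units_comp_eq j hj C.lam⁻¹
    let r : W →* Wq := (q.comp W.subtype).codRestrict Wq fun w => ⟨w, w.2, rfl⟩
    have hch : IsCharacter W fun w => ((μ.comp r) w : ℂ) * C.th w :=
      (isIrrCharacter_of_hom (μ.comp r)).isCharacter.mul (C.th_irr.isCharacter.restrict W)
    obtain ⟨ψ, hψ, hψ'⟩ := hch.exists_descend πW hπW fun a ha => by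
      have ha' : (a : C.Γ) ∈ C.π.ker := congrArg Subtype.val ha
      rw [hch.mem_charKer]
      have h2 := C.th_mul ⟨a, ha'⟩ 1
      have h3 : μ (r a) = (C.lam ⟨a, ha'⟩)⁻¹ := hμ ⟨a, ha'⟩
      rw [mul_one] at h2
      simp only [MonoidHom.comp_apply, map_one, Units.val_one, one_mul, OneMemClass.coe_one]
      rw [h2, h3, ← mul_assoc, ← Units.val_mul, inv_mul_cancel, Units.val_one, one_mul]
    refine ⟨ψ, hψ, fun n hn => ?_⟩
    have h2 : (⟨n, hn⟩ : U) = πW (ι n) := Subtype.ext (C.π_ν n).symm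
    have h3 : r (ι n) = 1 := Subtype.ext ((QuotientGroup.eq_one_iff _).2 ⟨n, rfl⟩)
    rw [h2, hψ', MonoidHom.comp_apply, h3, map_one, Units.val_one, one_mul]
    exact C.th_ν n
  · rintro ⟨ψ, hψ, hψ'⟩
    have := Fintype.ofFinite N
    have hι : Function.Injective ι := fun a b h => C.ν_injective (congrArg Subtype.val h)
    have hn : ι.range.Normal := ⟨by
      rintro _ ⟨n, rfl⟩ w
      exact ⟨_, Subtype.ext (C.conj_ν w n).symm⟩⟩
    obtain ⟨f, hf1, hf2⟩ := exists_linear_of_ext ι hι hn (C.th_irr.isCharacter.restrict W)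
      (hψ.comp πW) (by
        have : (fun n : N => C.th (ι n)) = ϑ := funext C.th_ν
        rw [this]; exact hϑ) fun n => by
        have h2 : πW (ι n) = ⟨n, hNU n.2⟩ := Subtype.ext (C.π_ν n)
        rw [h2, hψ']
        exact (C.th_ν n).symm
    obtain ⟨a, n, han⟩ := C.exists_eq_mul_of_mem hc
    have h2 : f ⟨a, hker a⟩ = 1 := by
      have h3 : (⟨x, hx⟩ : W)⁻¹ * (⟨g, hg⟩ : W)⁻¹ * ⟨x, hx⟩ * ⟨g, hg⟩ = ⟨a, hker a⟩ * ι n :=
        Subtype.ext han
      have h4 := congrArg f h3
      simp only [map_mul, map_inv, hf1, mul_one] at h4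
      rw [← h4, mul_comm (f _)⁻¹ (f _)⁻¹]
      group
    have h3 := hf2 ⟨a, hker a⟩
    have h4 := hf2 1
    have h5 : πW ⟨a, hker a⟩ = 1 := Subtype.ext a.2
    have h6 := C.th_mul a 1
    rw [mul_one] at h6
    rw [h5, h2] at h3
    rw [map_one, map_one, h3] at h4
    simp only [Units.val_one, one_mul, OneMemClass.coe_one] at h4
    rw [h6] at h4
    have h7 : C.lam a = 1 := Units.ext (mul_right_cancel₀ h1 (h4.trans (one_mul _).symm))
    have h8 : a = 1 := C.lam_injective (h7.trans (map_one _).symm)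
    rw [han, h8]
    simp

end Cover

/-- Gallagher's theorem: the number of irreducible characters over an invariant `θ` is the
number of `θ`-good classes. -/
theorem card_over_eq_card_good {G Q : Type*} [Group G] [Finite G] [Group Q] (f : G →* Q)
    (hf : Function.Surjective f) {N : Subgroup G} [hn : N.Normal] [Fintype N] (hN : f.ker = N)
    {θ : N → ℂ} (hθ : IsIrrCharacter N θ) (hinv : inertia θ = ⊤) :
    Nat.card {χ : IrrCharacter G // classInner (fun n : N => χ.1 n) θ ≠ 0} =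
      Nat.card {K : ConjClasses Q // ∃ q, ConjClasses.mk q = K ∧
        ∀ y, Commute y q → ExtTo θ ((Subgroup.closure {y, q}).comap f)} := by
  classical
  have := Fintype.ofFinite G
  obtain ⟨C⟩ := nonempty_cover hθ hinv
  have hfN : ∀ g, f g = 1 ↔ g ∈ N := fun g => by rw [← hN, MonoidHom.mem_ker]
  let ρ : C.Γ ⧸ C.ν.range →* Q := QuotientGroup.lift _ (f.comp C.π) (by
    rintro _ ⟨n, rfl⟩
    rw [MonoidHom.mem_ker, MonoidHom.comp_apply, C.π_ν, hfN]
    exact n.2)
  have hρa : ∀ γ : C.Γ, ρ γ = f (C.π γ) := fun _ => rfl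
  have hρ : Function.Surjective ρ := fun x => by
    obtain ⟨g, rfl⟩ := hf x
    obtain ⟨γ, rfl⟩ := C.π_surj g
    exact ⟨γ, rfl⟩
  have hc : ρ.ker ≤ Subgroup.center _ := fun x hx => by
    obtain ⟨γ, rfl⟩ := QuotientGroup.mk_surjective x
    exact C.comap_le_comap_center ((hfN _).1 hx)
  let j : C.π.ker →* ρ.ker :=
    ((QuotientGroup.mk' C.ν.range).comp C.π.ker.subtype).codRestrict _ fun a => by
      change f (C.π a) = 1
      rw [a.2, map_one]
  have hj : Function.Bijective j := by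
    constructor
    · rw [injective_iff_map_eq_one]
      intro a ha
      have h2 : (a : C.Γ) ∈ C.ν.range := (QuotientGroup.eq_one_iff _).1 (congrArg Subtype.val ha)
      have h3 : (a : C.Γ) ∈ C.π.ker ⊓ C.ν.range := ⟨a.2, h2⟩
      rw [C.ker_inf_range] at h3
      exact Subtype.ext h3
    · rintro ⟨x, hx⟩
      obtain ⟨γ, rfl⟩ := QuotientGroup.mk_surjective x
      obtain ⟨a, n, rfl⟩ := C.exists_eq_mul_of_mem ((hfN _).1 hx)
      refine ⟨a, Subtype.ext ?_⟩
      change ((a : C.Γ) : C.Γ ⧸ C.ν.range) = ((a * C.ν n : C.Γ) : C.Γ ⧸ C.ν.range)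
      rw [QuotientGroup.eq]
      simp
  let lam : ρ.ker →* ℂˣ := C.lam⁻¹.comp (MulEquiv.ofBijective j hj).symm.toMonoidHom
  have hlam : ∀ a, lam (j a) = (C.lam a)⁻¹ := fun a => by
    change (C.lam ((MulEquiv.ofBijective j hj).symm (MulEquiv.ofBijective j hj a)))⁻¹ = _
    rw [MulEquiv.symm_apply_apply]
  have := Fintype.ofFinite (C.Γ ⧸ C.ν.range)
  have := Fintype.ofFinite C.Γ
  have hirr := isIrrCharacter_of_hom lam
  have h1 : C.th 1 ≠ 0 := C.th_irr.apply_one_ne_zero
  have key := card_over_eq_card_special hc hirr fun z hz => by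
    obtain ⟨a, rfl⟩ := hj.2 z
    rw [map_one, Units.val_inj, hlam, inv_eq_one] at hz
    rw [C.lam_injective (hz.trans (map_one _).symm), map_one]
  -- the characters
  have hR : ∀ β : {β : IrrCharacter (C.Γ ⧸ C.ν.range) //
      classInner (fun z : ρ.ker => β.1 z) (fun z => (lam z : ℂ)) ≠ 0},
      ∃ χ : {χ : IrrCharacter G // classInner (fun n : N => χ.1 n) θ ≠ 0},
        ∀ γ : C.Γ, χ.1.1 (C.π γ) = β.1.1 γ * C.th γ := fun β => by
    have h2 := gallagher_irr C.th_irr.isCharacter (C.isIrrCharacter_th_range hθ) β.1.2.inflate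
      (le_charKer_inflate _ _)
    obtain ⟨χ, hχ, hχ'⟩ := h2.exists_descend C.π C.π_surj fun a ha => by
      rw [h2.mem_charKer]
      have h3 := (res_eq_of_le_center hc hirr β.1.2 β.2).2 (j ⟨a, ha⟩)
      have h4 := C.th_mul ⟨a, ha⟩ 1
      rw [mul_one] at h4
      rw [hlam] at h3
      change β.1.1 a * C.th a = β.1.1 1 * C.th 1
      change β.1.1 a = _ at h3
      rw [h3, h4, mul_assoc, ← mul_assoc _ _ (C.th 1), ← Units.val_mul, inv_mul_cancel,
        Units.val_one, one_mul]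
    refine ⟨⟨⟨χ, hχ⟩, ?_⟩, hχ'⟩
    have h3 : (fun n : N => χ n) = β.1.1 1 • θ := funext fun n => by
      have h4 := hχ' (C.ν n)
      have h5 : ((C.ν n : C.Γ) : C.Γ ⧸ C.ν.range) = 1 := (QuotientGroup.eq_one_iff _).2 ⟨n, rfl⟩
      rw [C.π_ν] at h4
      rw [h4, Pi.mul_apply, h5, C.th_ν]
      rfl
    change classInner (fun n : N => χ n) θ ≠ 0
    rw [h3, classInner_smul_left, hθ.classInner_self, mul_one]
    exact β.1.2.apply_one_ne_zero
  choose F hF using hR
  have hFb : Function.Bijective F := by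
    constructor
    · intro β β' e
      have h2 : (fun γ : C.Γ => β.1.1 γ) * C.th = (fun γ : C.Γ => β'.1.1 γ) * C.th :=
        funext fun γ => by rw [Pi.mul_apply, Pi.mul_apply, ← hF, ← hF, e]
      have h3 := gallagher_inj C.th_irr.isCharacter (C.isIrrCharacter_th_range hθ) β.1.2.inflate
        β'.1.2.inflate (le_charKer_inflate _ _) (le_charKer_inflate _ _) h2
      refine Subtype.ext (Subtype.ext (funext fun x => ?_))
      obtain ⟨γ, rfl⟩ := QuotientGroup.mk_surjective x
      exact congrFun h3 γ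
    · intro χ
      obtain ⟨β, hβ, hβk, hβχ⟩ := C.exists_factor hθ χ.1.2 χ.2
      obtain ⟨β', hβ', hβ''⟩ := hβ.exists_quotient _ hβk
      have h2 : (fun z : ρ.ker => β' z) = β' 1 • fun z => (lam z : ℂ) := funext fun z => by
        obtain ⟨a, rfl⟩ := hj.2 z
        have h3 := hβχ a
        have h4 := hβχ 1
        have h5 := C.th_mul a 1
        rw [mul_one] at h5
        rw [a.2, ← map_one C.π, h4, h5, ← mul_assoc, mul_left_inj' h1] at h3
        change β' (a : C.Γ) = β' (1 : C.Γ) * (lam (j a) : ℂ)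
        rw [hβ'', hβ'', hlam, h3, mul_assoc, ← Units.val_mul, mul_inv_cancel, Units.val_one,
          mul_one]
      refine ⟨⟨⟨β', hβ'⟩, ?_⟩, Subtype.ext (Subtype.ext (funext fun g => ?_))⟩
      · change classInner (fun z : ρ.ker => β' z) _ ≠ 0
        rw [h2, classInner_smul_left, hirr.classInner_self, mul_one]
        exact hβ'.apply_one_ne_zero
      · obtain ⟨γ, rfl⟩ := C.π_surj g
        rw [hF, hβχ]
        exact congrArg (· * _) (hβ'' γ)
  rw [← Nat.card_eq_of_bijective F hFb]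
  refine key.trans ?_
  -- the classes
  let e := QuotientGroup.quotientKerEquivOfSurjective ρ hρ
  have hgood : ∀ γ : C.Γ, (∀ x : C.Γ ⧸ C.ν.range, x⁻¹ * (γ : C.Γ ⧸ C.ν.range)⁻¹ * x * γ ∈ ρ.ker →
      x * γ = γ * x) ↔
      ∀ y, Commute y (ρ γ) → ExtTo θ ((Subgroup.closure {y, ρ γ}).comap f) := fun γ => by
    have hU : ∀ x : C.Γ, (Subgroup.closure {ρ x, ρ γ}).comap f =
        N ⊔ Subgroup.closure {C.π x, C.π γ} := fun x => by
      have h2 := Subgroup.comap_map_eq f (Subgroup.closure {C.π x, C.π γ})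
      rw [hN, sup_comm, MonoidHom.map_closure, Set.image_pair] at h2
      exact h2
    have hcm : ∀ x : C.Γ, Commute (ρ x) (ρ γ) ↔ C.π (x⁻¹ * γ⁻¹ * x * γ) ∈ N := fun x => by
      rw [← hfN, ← hρa]
      simp only [QuotientGroup.mk_mul, QuotientGroup.mk_inv, map_mul, map_inv]
      rw [commute_iff_eq, mul_assoc, mul_assoc, ← mul_assoc _ _ (_ * _), ← mul_inv_rev,
        inv_mul_eq_one, eq_comm]
    have hcq : ∀ x : C.Γ, (x * γ : C.Γ ⧸ C.ν.range) = γ * x ↔ x⁻¹ * γ⁻¹ * x * γ ∈ C.ν.range :=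
      fun x => by
        rw [← QuotientGroup.mk_mul, ← QuotientGroup.mk_mul, eq_comm, QuotientGroup.eq]
        simp [mul_assoc]
    constructor
    · intro h y hy
      obtain ⟨x, rfl⟩ := hρ y
      obtain ⟨x, rfl⟩ := QuotientGroup.mk_surjective x
      have h2 := (hcm x).1 hy
      exact (C.commutator_mem_range_iff hθ h2 (hU x)).1 ((hcq x).1 (h x ((hfN _).2 h2)))
    · intro h x hx
      obtain ⟨x, rfl⟩ := QuotientGroup.mk_surjective x
      have h2 : C.π (x⁻¹ * γ⁻¹ * x * γ) ∈ N := (hfN _).1 hx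
      exact (hcq x).2 ((C.commutator_mem_range_iff hθ h2 (hU x)).2 (h _ ((hcm x).2 h2)))
  refine Nat.card_congr (Equiv.subtypeEquiv
    (Equiv.ofBijective _ (conjClasses_map_bijective e)) fun K => ?_)
  constructor
  · rintro ⟨g, rfl, hg⟩
    obtain ⟨γ, rfl⟩ := QuotientGroup.mk_surjective g
    exact ⟨ρ γ, rfl, (hgood γ).1 hg⟩
  · rintro ⟨q, hq, hg⟩
    obtain ⟨g, rfl⟩ := hρ q
    obtain ⟨γ, rfl⟩ := QuotientGroup.mk_surjective g
    exact ⟨γ, (conjClasses_map_bijective e).1 hq, (hgood γ).2 hg⟩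

/-- Comparison of the numbers of characters over invariant characters, from extendibility over
abelian sections. -/
theorem card_over_eq_of_ext {Γ : Type*} [Group Γ] [Finite Γ] {E T E' T' : Subgroup Γ}
    (hET : E ≤ T) (hT : T ≤ Nm E) (hTT : T' ≤ T) (hE' : E' = E ⊓ T') (hET' : E' ≤ T')
    (hmul : ∀ t ∈ T, ∃ e ∈ E, ∃ n ∈ T', t = e * n) {η : E → ℂ} (hη : IsIrrCharacter E η)
    (hi : InvAll E T η) {η' : E' → ℂ} (hη' : IsIrrCharacter E' η') (hi' : InvAll E' T' η')
    (hext : ∀ (U : Subgroup Γ) (h : E ≤ U) (h' : E' ≤ U ⊓ T'), U ≤ T →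
      (∀ a ∈ U, ∀ b ∈ U, a * b * a⁻¹ * b⁻¹ ∈ E) → (Ext h η ↔ Ext h' η')) :
    Nat.card {χ : IrrCharacter T // mult hET χ.1 η ≠ 0} =
      Nat.card {χ : IrrCharacter T' // mult hET' χ.1 η' ≠ 0} := by
  classical
  have hT' : T' ≤ Nm E' := hE' ▸ (le_inf (hTT.trans hT) Subgroup.le_normalizer).trans
    Nm_inf_le_Nm_inf
  have := Subgroup.normal_subgroupOf_of_le_normalizer hT
  have := Subgroup.normal_subgroupOf_of_le_normalizer hT'
  have := Fintype.ofFinite (E.subgroupOf T)
  have := Fintype.ofFinite (E'.subgroupOf T')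
  let f := QuotientGroup.mk' (E.subgroupOf T)
  let f' := f.comp (Subgroup.inclusion hTT)
  have hf' : Function.Surjective f' := fun q => by
    obtain ⟨t, rfl⟩ := QuotientGroup.mk_surjective q
    obtain ⟨e, he, n, hn, h⟩ := hmul t t.2
    refine ⟨⟨n, hn⟩, ?_⟩
    change ((Subgroup.inclusion hTT ⟨n, hn⟩ : T) : T ⧸ E.subgroupOf T) = t
    rw [eq_comm, QuotientGroup.eq_iff_div_mem, Subgroup.mem_subgroupOf]
    simpa [h, div_eq_mul_inv] using he
  have hk' : f'.ker = E'.subgroupOf T' := by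
    ext x
    rw [MonoidHom.mem_ker, Subgroup.mem_subgroupOf, hE']
    exact (QuotientGroup.eq_one_iff _).trans ⟨fun h => ⟨h, x.2⟩, fun h => h.1⟩
  have h1 := card_over_eq_card_good f (QuotientGroup.mk'_surjective _) (QuotientGroup.ker_mk' _)
    (isIrr_subgroupOf hET hη) (inertia_sg_eq_top hET hT hi)
  have h2 := card_over_eq_card_good f' hf' hk' (isIrr_subgroupOf hET' hη')
    (inertia_sg_eq_top hET' hT' hi')
  have h3 : ∀ {A B : Subgroup Γ} [Fintype (A.subgroupOf B)] (h : A ≤ B) {θ : A → ℂ},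
      IsIrrCharacter A θ → Nat.card {χ : IrrCharacter B // mult h χ.1 θ ≠ 0} =
        Nat.card {χ : IrrCharacter B //
          classInner (fun n : A.subgroupOf B => χ.1 n) (sg B θ) ≠ 0} := fun h _ hθ =>
    Nat.card_congr (Equiv.subtypeEquivRight fun χ => by
      rw [mult_sg h χ.2.isCharacter hθ.isCharacter, Nat.cast_ne_zero])
  have h4 : ∀ {A B : Subgroup Γ} (h : A ≤ B) {θ : A → ℂ} (V : Subgroup B) {U : Subgroup Γ}
      (hAU : A ≤ U), U = V.map B.subtype → (ExtTo (sg B θ) V ↔ Ext hAU θ) := by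
    rintro A B h θ V _ hAU rfl
    let e := V.equivMapOfInjective B.subtype B.subtype_injective
    constructor
    · rintro ⟨ψ, hψ, hψ'⟩
      refine ⟨fun u => ψ (e.symm u), hψ.comp e.symm.toMonoidHom, funext fun a => ?_⟩
      obtain ⟨b, hb, hb'⟩ := hAU a.2
      have h5 : b = ⟨a, h a.2⟩ := Subtype.ext hb'
      subst h5
      exact (congrArg ψ (e.symm_apply_eq.2 rfl)).trans (hψ' ⟨⟨a, h a.2⟩, a.2⟩ hb)
    · rintro ⟨ψ, hψ, rfl⟩
      exact ⟨fun v => ψ (e v), hψ.comp e.toMonoidHom, fun n hn => rfl⟩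
  rw [h3 hET hη, h3 hET' hη', h1, h2]
  refine Nat.card_congr (Equiv.subtypeEquivRight fun K => exists_congr fun q =>
    and_congr_right fun _ => forall_congr' fun y => imp_congr_right fun hy => ?_)
  let U := ((Subgroup.closure {y, q}).comap f).map T.subtype
  have hEU : E ≤ U := fun e he => ⟨⟨e, hET he⟩, by
    have : f ⟨e, hET he⟩ = 1 := (QuotientGroup.eq_one_iff _).2 he
    exact Subgroup.mem_comap.2 (this ▸ Subgroup.one_mem _), rfl⟩
  have hEU' : E' ≤ U ⊓ T' := hE' ▸ inf_le_inf_right _ hEU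
  have hU' : U ⊓ T' = ((Subgroup.closure {y, q}).comap f').map T'.subtype := by
    ext x
    constructor
    · rintro ⟨⟨t, ht, rfl⟩, h5⟩
      exact ⟨⟨t, h5⟩, ht, rfl⟩
    · rintro ⟨t, ht, rfl⟩
      exact ⟨⟨Subgroup.inclusion hTT t, ht, rfl⟩, t.2⟩
  rw [h4 hET _ hEU rfl, h4 hET' _ hEU' hU']
  refine hext U hEU hEU' (Subgroup.map_subtype_le _) ?_
  rintro _ ⟨a, ha, rfl⟩ _ ⟨b, hb, rfl⟩
  have hc : Commute (f a) (f b) := by
    have h5 : ∀ u ∈ ({y, q} : Set _), ∀ v ∈ ({y, q} : Set _), u * v = v * u := by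
      rintro u (rfl | rfl) v (rfl | rfl)
      exacts [rfl, hy, hy.symm, rfl]
    have := Subgroup.isMulCommutative_closure h5
    exact congrArg Subtype.val (mul_comm' (⟨f a, ha⟩ : Subgroup.closure {y, q}) ⟨f b, hb⟩)
  have h6 : f (a * b * a⁻¹ * b⁻¹) = 1 := by
    simp only [map_mul, map_inv]
    rw [hc.eq]; group
  exact (QuotientGroup.eq_one_iff (N := E.subgroupOf T) _).1 h6

end H32
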