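import Cfsg.Agent.Base
import Cfsg.Agent.H32.McC
import Cfsg.Agent.H40.InvOver
import Cfsg.Agent.H7.SylowIn
import Cfsg.Agent.H1.CoprimeGen

/-! The Okuyama-Wajima argument: extendibility over abelian coprime sections is preserved by the
(relative) Glauberman correspondence. -/

set_option autoImplicit false

namespace H32

open Cfsg H28 H29 H33 H40
open scoped ComplexConjugate Pointwise

variable {Γ : Type*} [Group Γ]

theorem exists_mul_of_mem_sup {K D : Subgroup Γ} (hD : D ≤ Nm K) {x : Γ} (hx : x ∈ K ⊔ D) :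
    ∃ k ∈ K, ∃ d ∈ D, x = k * d := by
  have : x ∈ ((K ⊔ D : Subgroup Γ) : Set Γ) := hx
  rw [Subgroup.coe_mul_of_right_le_normalizer_left K D hD] at this
  obtain ⟨k, hk, d, hd, rfl⟩ := this
  exact ⟨k, hk, d, hd, rfl⟩

theorem comm_mem_of_sup {K D : Subgroup Γ} (hD : D ≤ Nm K)
    (hab : ∀ a ∈ D, ∀ b ∈ D, a * b * a⁻¹ * b⁻¹ ∈ K) :
    ∀ a ∈ K ⊔ D, ∀ b ∈ K ⊔ D, a * b * a⁻¹ * b⁻¹ ∈ K := fun a ha b hb => by
  obtain ⟨k, hk, d, hd, rfl⟩ := exists_mul_of_mem_sup hD ha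
  obtain ⟨k', hk', d', hd', rfl⟩ := exists_mul_of_mem_sup hD hb
  have e1 := (Subgroup.mem_normalizer_iff.1 (hD hd) _).1 hk'
  have e2 := (Subgroup.mem_normalizer_iff.1 (hD hd') _).1 (K.inv_mem hk)
  have := K.mul_mem (K.mul_mem (K.mul_mem (K.mul_mem hk e1) (hab d hd d' hd')) e2)
    (K.inv_mem hk')
  convert this using 1
  group

/-- gluing of homomorphisms on a product -/
theorem exists_hom_sup {A : Type*} [CommGroup A] {K D Y : Subgroup Γ} (hY : Y = K ⊔ D)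
    (hKY : K ≤ Y) (hDY : D ≤ Y) (hD : D ≤ Nm K) (δ : K →* A) (μ : D →* A)
    (hinv : ∀ d ∈ D, ∀ k k' : K, (k' : Γ) = d * k * d⁻¹ → δ k' = δ k)
    (hag : ∀ (x : Γ) (h1 : x ∈ K) (h2 : x ∈ D), δ ⟨x, h1⟩ = μ ⟨x, h2⟩) :
    ∃ f : Y →* A, (∀ k : K, f ⟨k, hKY k.2⟩ = δ k) ∧ ∀ d : D, f ⟨d, hDY d.2⟩ = μ d := by
  have h1 : ∀ y : Y, ∃ (k : K) (d : D), (y : Γ) = k * d := fun y => by
    obtain ⟨k, hk, d, hd, e⟩ := exists_mul_of_mem_sup hD (hY.le y.2)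
    exact ⟨⟨k, hk⟩, ⟨d, hd⟩, e⟩
  have h2 : ∀ (k k' : K) (d d' : D), (k * d : Γ) = k' * d' → δ k * μ d = δ k' * μ d' := by
    intro k k' d d' e
    have h3 : ((k'⁻¹ * k : K) : Γ) = (d' * d⁻¹ : D) := by
      simp only [Subgroup.coe_mul, InvMemClass.coe_inv]
      rw [inv_mul_eq_iff_eq_mul, ← mul_assoc, ← e, mul_inv_cancel_right]
    have h4 : δ (k'⁻¹ * k) = μ (d' * d⁻¹) :=
      (hag _ (k'⁻¹ * k).2 (h3 ▸ (d' * d⁻¹).2)).trans (congrArg μ (Subtype.ext h3))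
    rw [map_mul, map_mul, map_inv, map_inv, inv_mul_eq_iff_eq_mul, ← mul_assoc,
      eq_mul_inv_iff_mul_eq] at h4
    exact h4
  choose a b hab using h1
  refine ⟨MonoidHom.mk' (fun y => δ (a y) * μ (b y)) fun x y => ?_, fun k => ?_, fun d => ?_⟩
  · have h3 : (b x : Γ) * a y * (b x : Γ)⁻¹ ∈ K :=
      (Subgroup.mem_normalizer_iff.1 (hD (b x).2) _).1 (a y).2
    rw [h2 _ (a x * ⟨_, h3⟩) _ (b x * b y) (by
      rw [← hab, Subgroup.coe_mul, hab, hab]; simp [mul_assoc]), map_mul, map_mul,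
      hinv _ (b x).2 (a y) ⟨_, h3⟩ rfl, mul_mul_mul_comm]
  · simpa using h2 _ k _ 1 (by rw [← hab]; simp)
  · simpa using h2 _ 1 _ d (by rw [← hab]; simp)

variable [Finite Γ]

theorem mult_hom_mul {C G : Subgroup Γ} (h : C ≤ G) (f : G →* ℂˣ) (χ : G → ℂ) (β : C → ℂ) :
    mult h (fun g => f g * χ g) (fun c => f ⟨c, h c.2⟩ * β c) = mult h χ β := by
  have := Fintype.ofFinite C
  have h1 := classInner_congr_inst (G := C) (Fintype.ofFinite C) this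
  rw [mult, mult, h1, h1]
  congr 2
  unfold classInner
  congr 1
  refine Finset.sum_congr rfl fun c _ => ?_
  have h2 := norm_eq_one_of_degree_one (isIrrCharacter_of_hom f).isCharacter (by simp) ⟨c, h c.2⟩
  rw [map_mul, mul_mul_mul_comm, Complex.mul_conj, Complex.normSq_eq_norm_sq, h2]
  simp

theorem exists_mult_trans_mod {p : ℕ} {N C G : Subgroup Γ} (h : N ≤ C) (h' : C ≤ G) {χ : G → ℂ}
    {θ : N → ℂ} (hχ : IsCharacter G χ) (hθ : IsCharacter N θ)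
    (h0 : (mult (h.trans h') χ θ : ZMod p) ≠ 0) :
    ∃ β : C → ℂ, IsIrrCharacter C β ∧ (mult h' χ β : ZMod p) ≠ 0 ∧ (mult h β θ : ZMod p) ≠ 0 := by
  rw [mult_trans h h' hχ hθ] at h0
  push_cast at h0
  obtain ⟨β, -, hβ⟩ := Finset.exists_ne_zero_of_sum_ne_zero h0
  exact ⟨β.1, β.2, left_ne_zero_of_mul hβ, right_ne_zero_of_mul hβ⟩

theorem mult_trans_single {p : ℕ} {N C G : Subgroup Γ} (h : N ≤ C) (h' : C ≤ G) {χ : G → ℂ}
    {θ : N → ℂ} (hχ : IsCharacter G χ) (hθ : IsCharacter N θ) {φ : C → ℂ}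
    (hφ : IsIrrCharacter C φ)
    (h0 : ∀ β : C → ℂ, IsIrrCharacter C β → (mult h' χ β : ZMod p) ≠ 0 →
      (mult h β θ : ZMod p) ≠ 0 → β = φ) :
    (mult (h.trans h') χ θ : ZMod p) = mult h' χ φ * mult h φ θ := by
  rw [mult_trans h h' hχ hθ]
  push_cast
  refine Finset.sum_eq_single (⟨φ, hφ⟩ : IrrCharacter C) (fun β _ hβ => ?_) (by simp)
  by_contra h1
  exact hβ (Subtype.ext (h0 β.1 β.2 (left_ne_zero_of_mul h1) (right_ne_zero_of_mul h1)))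

theorem res_irr_of_ab {K Y : Subgroup Γ} (h : K ≤ Y)
    (hab : ∀ a ∈ Y, ∀ b ∈ Y, a * b * a⁻¹ * b⁻¹ ∈ K) {ψ : Y → ℂ} (hψ : IsIrrCharacter Y ψ)
    (hm : ∀ f : Y →* ℂˣ, (∀ k : K, f ⟨k, h k.2⟩ = 1) → (∀ y, f y * ψ y = ψ y) → f = 1) :
    IsIrrCharacter K (res h ψ) := by
  have := Fintype.ofFinite K
  have := Fintype.ofFinite Y
  have := normal_inclusion_range h fun _ ha =>
    mem_normalizer_of_comm (N := K) le_rfl fun b hb => hab _ ha _ (h hb)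
  exact irr_restrict_of_abelian_quot (Subgroup.inclusion h) (Subgroup.inclusion_injective h)
    (fun a b => ⟨⟨_, hab _ a.2 _ b.2⟩, rfl⟩) hψ hm

theorem hom_eq_one_of_res_irr {K Y : Subgroup Γ} (h : K ≤ Y) (hY : Y ≤ Nm K) {ψ : Y → ℂ}
    (hψ : IsCharacter Y ψ) (hr : IsIrrCharacter K (res h ψ)) {f : Y →* ℂˣ}
    (h1 : ∀ k : K, f ⟨k, h k.2⟩ = 1) (h2 : ∀ y, f y * ψ y = ψ y) : f = 1 := by
  have := Subgroup.normal_subgroupOf_of_le_normalizer hY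
  have hk : ∀ g : Y →* ℂˣ, (∀ k : K, g ⟨k, h k.2⟩ = 1) →
      K.subgroupOf Y ≤ charKer fun y => (g y : ℂ) := fun g hg x hx => by
    rw [(isIrrCharacter_of_hom g).mem_charKer, map_one, hg ⟨x, hx⟩]
  have h3 := gallagher_inj (N := K.subgroupOf Y) hψ (isIrr_subgroupOf h hr)
    (isIrrCharacter_of_hom f) (isIrrCharacter_of_hom 1) (hk f h1) (hk 1 fun _ => rfl)
    (funext fun y => by simpa using h2 y)
  exact MonoidHom.ext fun y => Units.ext (congrFun h3 y)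

theorem ext_of_cyclic {D H : Subgroup Γ} (h : D ≤ H) {s : Γ} (hs : s ∈ Nm D)
    (hH : H = D ⊔ Subgroup.zpowers s) {φ : D → ℂ} (hφ : IsIrrCharacter D φ) (hi : InvBy D s φ) :
    Ext h φ := by
  subst hH
  obtain ⟨X, hX, hX'⟩ := exists_isExt hs hφ hi
  exact ⟨fun x => X x, hX, funext hX'⟩

/-- The cyclic step of the Okuyama-Wajima argument. -/
theorem ow_step {p : ℕ} [Fact p.Prime] {K C D Y H U R : Subgroup Γ} (hCK : C ≤ K) (hCD : C ≤ D)
    (hKY : K ≤ Y) (hDY : D ≤ Y) (hDH : D ≤ H) (hYU : Y ≤ U) (PK : PCorr p R hCK)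
    (PY : PCorr p R hDY) (hY : Y = K ⊔ D) (hC : C = K ⊓ D) (hDK : D ≤ Nm K)
    (hA : ∀ {ψ : Y → ℂ} {θ : K → ℂ}, IsIrrCharacter Y ψ → IsIrrCharacter K θ →
      mult hKY ψ θ ≠ 0 → (InvAll Y R ψ ↔ InvAll K R θ))
    (hB : ∀ {ψ : D → ℂ} {θ : C → ℂ}, IsIrrCharacter D ψ → IsIrrCharacter C θ →
      mult hCD ψ θ ≠ 0 → (InvAll D R ψ ↔ InvAll C R θ))
    (hRY : ∀ x ∈ R, ∀ y ∈ Y, x * y * x⁻¹ * y⁻¹ ∈ K)
    (hab : ∀ a ∈ D, ∀ b ∈ D, a * b * a⁻¹ * b⁻¹ ∈ C) {s : Γ} (hH : H = D ⊔ Subgroup.zpowers s)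
    (hU : U = Y ⊔ Subgroup.zpowers s) (hsY : s ∈ Nm Y) (hsD : s ∈ Nm D) (hsR : s ∈ Nm R)
    {θ : K → ℂ} (hθ : IsIrrCharacter K θ) (hθi : InvAll K R θ) {θ' : C → ℂ}
    (hθ' : IsIrrCharacter C θ') (hθi' : InvAll C R θ') (hm : (mult hCK θ θ' : ZMod p) ≠ 0) :
    Ext (hKY.trans hYU) θ ↔ Ext (hCD.trans hDH) θ' := by
  have hYK : Y ≤ Nm K := hY ▸ sup_le Subgroup.le_normalizer hDK
  have hDC : D ≤ Nm C := hC ▸ (le_inf hDK Subgroup.le_normalizer).trans Nm_inf_le_Nm_inf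
  -- twisting by linear characters of `Y / K` preserves invariance
  have htw : ∀ (f : Y →* ℂˣ), (∀ k : K, f ⟨k, hKY k.2⟩ = 1) → InvAll Y R fun y => (f y : ℂ) :=
    fun f hf x hx a b e => by
      have h1 := hf ⟨_, hRY x hx a a.2⟩
      have h2 : (⟨x * a * x⁻¹ * (a : Γ)⁻¹, hKY (hRY x hx a a.2)⟩ : Y) = b * a⁻¹ :=
        Subtype.ext (by simp [e])
      rw [h2, map_mul, map_inv, mul_inv_eq_one] at h1
      simp only [h1]
  constructor
  · rintro ⟨X, hX, rfl⟩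
    have hψ : IsIrrCharacter Y (res hYU X) := irr_of_res_irr hKY (isCharacter_res hYU hX) hθ
    have hψi : InvAll Y R (res hYU X) :=
      (hA hψ hθ (by rw [mult_res_self hKY (χ := res hYU X) hθ]; exact one_ne_zero)).2 hθi
    obtain ⟨φ, hφ, h1, h2⟩ := exists_mult_trans_mod hCD hDY hψ.isCharacter hθ'.isCharacter hm
    have hφi := (hB hφ hθ' (ne_zero_of_cast h2)).2 hθi'
    have hs : InvBy D s φ := PY.invBy_right hψ hφ hψi hφi h1 hsY hsD (hφi.cjn hsD hsR)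
      (invAll_res hYU hX.isClassFunction s (hU ▸ mem_sup_zpowers Y s))
    have hr : IsIrrCharacter C (res hCD φ) := res_irr_of_ab hCD hab hφ fun f hf1 hf2 => by
      obtain ⟨F, hF1, hF2⟩ := exists_hom_sup hY hKY hDY hDK 1 f (fun _ _ _ _ _ => rfl)
        fun x h3 h4 => (hf1 ⟨x, hC ▸ ⟨h3, h4⟩⟩).symm
      have h3 := mult_hom_mul hDY F (res hYU X) φ
      simp only [hF2, hf2] at h3
      have h4 := PY.uniq_left (isIrr_hom_mul F hψ) hψ hφ
        (fun x hx a b e => congrArg₂ (· * ·) (htw F hF1 x hx a b e) (hψi x hx a b e)) hψi hφi (h3 ▸ h1) h1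
      have h5 := hom_eq_one_of_res_irr hKY hYK hψ.isCharacter hθ hF1 (congrFun h4)
      exact MonoidHom.ext fun d => by rw [← hF2, h5]; rfl
    rw [← eq_of_mult_of_res_irr hCD hφ.isCharacter hr hθ' (ne_zero_of_cast h2)]
    exact (ext_of_cyclic hDH hsD hH hφ hs).of_res hCD
  · rintro ⟨X, hX, rfl⟩
    have hφ : IsIrrCharacter D (res hDH X) := irr_of_res_irr hCD (isCharacter_res hDH hX) hθ'
    have h0 := mult_res_self hCD (χ := res hDH X) hθ'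
    have hφi : InvAll D R (res hDH X) := (hB hφ hθ' (by rw [h0]; exact one_ne_zero)).2 hθi'
    obtain ⟨ψ, hψ, hψi, h1⟩ := PY.ex_left hφ hφi
    have hs : InvBy Y s ψ := PY.invBy_left hψ hφ hψi hφi h1 hsY hsD (hψi.cjn hsY hsR)
      (invAll_res hDH hX.isClassFunction s (hH ▸ mem_sup_zpowers D s))
    have h2 := mult_trans_single (p := p) hCD hDY hψ.isCharacter hθ'.isCharacter hφ
      fun β hβ h3 h4 => PY.uniq_right hψ hβ hφ hψi ((hB hβ hθ' (ne_zero_of_cast h4)).2 hθi') hφi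
        h3 h1
    erw [h0] at h2
    rw [Nat.cast_one, mul_one] at h2
    obtain ⟨γ, hγ, h3, h4⟩ := exists_mult_trans_mod hCK hKY hψ.isCharacter hθ'.isCharacter
      (h2.trans_ne h1)
    obtain rfl := PK.uniq_left hγ hθ hθ' ((hA hψ hγ (ne_zero_of_cast h3)).1 hψi) hθi hθi' h4 hm
    have habY : ∀ a ∈ Y, ∀ b ∈ Y, a * b * a⁻¹ * b⁻¹ ∈ K :=
      hY ▸ comm_mem_of_sup hDK fun a ha b hb => hCK (hab a ha b hb)
    have hr : IsIrrCharacter K (res hKY ψ) := res_irr_of_ab hKY habY hψ fun F hF1 hF2 => by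
      have h5 := mult_hom_mul hDY F ψ (res hDH X)
      simp only [hF2] at h5
      let f := F.comp (Subgroup.inclusion hDY)
      have h6 := PY.uniq_right hψ (isIrr_hom_mul f hφ) hφ hψi
        (fun x hx a b e => by
          have := htw F hF1 x hx (Subgroup.inclusion hDY a) (Subgroup.inclusion hDY b) e
          rw [hφi x hx a b e]
          exact congrArg (· * _) this) hφi (h5 ▸ h1) h1
      have h7 := hom_eq_one_of_res_irr hCD hDC hφ.isCharacter hθ' (f := f)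
        (fun c => hF1 ⟨c, hCK c.2⟩) (congrFun h6)
      refine MonoidHom.ext fun y => ?_
      obtain ⟨k, hk, d, hd, e⟩ := exists_mul_of_mem_sup hDK (hY.le y.2)
      have h8 : y = ⟨k, hKY hk⟩ * ⟨d, hDY hd⟩ := Subtype.ext e
      have h9 : F ⟨d, hDY hd⟩ = 1 := DFunLike.congr_fun h7 ⟨d, hd⟩
      rw [h8, map_mul, hF1 ⟨k, hk⟩, h9, mul_one, MonoidHom.one_apply]
    rw [← eq_of_mult_of_res_irr hKY hψ.isCharacter hr hθ (ne_zero_of_cast h3)]
    exact (ext_of_cyclic hYU hsY hU hψ hs).of_res hKY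

theorem le_Nm_Ct {S H : Subgroup Γ} (h : H ≤ Nm S) : H ≤ Nm (Ct S) := fun x hx =>
  mem_Nm_of_conj_le fun c hc => Subgroup.mem_centralizer_iff.2 fun s hs => by
    have h1 := Subgroup.mem_centralizer_iff.1 hc _
      ((Subgroup.mem_normalizer_iff''.1 (h hx) s).1 hs)
    calc s * (x * c * x⁻¹) = x * (x⁻¹ * s * x * c) * x⁻¹ := by group
      _ = _ := by rw [h1]; group

omit [Finite Γ] in
theorem Ct_sup (A B : Subgroup Γ) : Ct (A ⊔ B) = Ct A ⊓ Ct B := by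
  refine le_antisymm (le_inf (Subgroup.centralizer_le (SetLike.coe_subset_coe.2 le_sup_left))
    (Subgroup.centralizer_le (SetLike.coe_subset_coe.2 le_sup_right))) ?_
  rw [Subgroup.le_centralizer_iff]
  exact sup_le (Subgroup.le_centralizer_iff.1 inf_le_left)
    (Subgroup.le_centralizer_iff.1 inf_le_right)

theorem exists_cyclic_step {p : ℕ} [hp : Fact p.Prime] {S H : Subgroup Γ} (hS : IsPGroup p S)
    (h0 : S ≠ ⊥) (hH : H ≤ Nm S) (hcop : ¬ p ∣ Nat.card H)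
    (hab : ∀ a ∈ H, ∀ b ∈ H, a * b * a⁻¹ * b⁻¹ ∈ Ct S) :
    ∃ (S₀ R : Subgroup Γ) (s : Γ), S₀ < S ∧ S ≤ Nm S₀ ∧ H ≤ Nm S₀ ∧ R ≤ S ∧ H ≤ Nm R ∧
      S₀ ⊔ R = S ∧ s ∈ H ∧ H = (H ⊓ Ct R) ⊔ Subgroup.zpowers s := by
  obtain ⟨S₀, ⟨h1, h2⟩, hmax⟩ := (wellFounded_gt (α := Subgroup Γ)).has_min
    {M | M < S ∧ H ≤ Nm M} ⟨⊥, bot_lt_iff_ne_bot.2 h0, le_normalizer_bot H⟩
  have hm : ∀ M, S₀ < M → M ≤ S → H ≤ Nm M → M = S := fun M h3 h4 h5 => by
    by_contra h6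
    exact hmax M ⟨lt_of_le_of_ne h4 h6, h5⟩ h3
  have h3 : S ≤ Nm S₀ := by
    rw [← hm _ (H7.lt_inf_normalizer hS h1) inf_le_left
      ((le_inf hH (h2.trans Subgroup.le_normalizer)).trans Nm_inf_le_Nm_inf)]
    exact inf_le_right
  let φ : H →* MulAut S := S.normalizerMonoidHom.comp (Subgroup.inclusion hH)
  have hφ : ∀ (a : H) (x : S), (φ a x : Γ) = a * x * (a : Γ)⁻¹ := fun _ _ => rfl
  have : IsMulCommutative φ.range := ⟨⟨by
    rintro ⟨_, a, rfl⟩ ⟨_, b, rfl⟩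
    refine Subtype.ext ?_
    have h4 : φ (a * b * a⁻¹ * b⁻¹) = 1 := MulEquiv.ext fun x => Subtype.ext (by
      rw [hφ]
      exact mul_inv_eq_of_eq_mul (Subgroup.mem_centralizer_iff.1 (hab _ a.2 _ b.2) x x.2).symm)
    simp only [map_mul, map_inv] at h4
    rw [mul_inv_eq_one, mul_inv_eq_iff_eq_mul] at h4
    exact h4⟩⟩
  have hc : (Nat.card φ.range).Coprime (Nat.card S) := by
    obtain ⟨k, hk⟩ := hS.exists_card_eq
    rw [hk]
    exact (((Nat.Prime.coprime_iff_not_dvd hp.out).2 hcop).symm.coprime_dvd_left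
      (Subgroup.card_range_dvd φ)).pow_right k
  have h4 := mt (H1.eq_top_of_cocyclic_fixed _ S φ.range.subtype rfl hc (S₀.subgroupOf S))
    fun e => h1.not_ge (Subgroup.subgroupOf_eq_top.1 e)
  push Not at h4
  obtain ⟨Y, hY, x, hx, hx0⟩ := h4
  have hYn : Y.Normal := Subgroup.normal_of_isMulCommutative Y
  let D := (Y.comap φ.rangeRestrict).map H.subtype
  have hD : H ≤ Nm D := fun a ha => mem_Nm_of_conj_le (by
    rintro _ ⟨d, hd, rfl⟩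
    exact ⟨⟨a, ha⟩ * d * ⟨a, ha⟩⁻¹, (hYn.comap φ.rangeRestrict).conj_mem d hd ⟨a, ha⟩, rfl⟩)
  have hR : H ≤ Nm (S ⊓ Ct D) := (le_inf hH (le_Nm_Ct hD)).trans Nm_inf_le_Nm_inf
  have hxR : (x : Γ) ∈ S ⊓ Ct D := ⟨x.2, Subgroup.mem_centralizer_iff.2 (by
    rintro _ ⟨d, hd, rfl⟩
    exact mul_inv_eq_iff_eq_mul.1 (congrArg Subtype.val (hx _ hd)))⟩
  obtain ⟨g, hg⟩ := IsCyclic.exists_generator (α := φ.range ⧸ Y)
  obtain ⟨g, rfl⟩ := QuotientGroup.mk_surjective g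
  obtain ⟨s, rfl⟩ := φ.rangeRestrict_surjective g
  refine ⟨S₀, S ⊓ Ct D, s, h1, h3, h2, inf_le_left, hR, hm _ (lt_of_le_of_ne le_sup_left fun e =>
    hx0 (e.ge (Subgroup.mem_sup_right hxR))) (sup_le h1.le inf_le_left)
    ((le_inf h2 hR).trans Nm_inf_le_Nm_sup), s.2, le_antisymm (fun a ha => ?_)
    (sup_le inf_le_left (Subgroup.zpowers_le.2 s.2))⟩
  obtain ⟨n, hn⟩ := hg (φ.rangeRestrict ⟨a, ha⟩ : φ.range ⧸ Y)
  have h5 : a * (s ^ n : H)⁻¹ ∈ D := ⟨⟨a, ha⟩ * (s ^ n)⁻¹, by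
    have h6 : ((φ.rangeRestrict ⟨a, ha⟩ : φ.range) : φ.range ⧸ Y) = φ.rangeRestrict (s ^ n) := by
      rw [← hn, map_zpow, QuotientGroup.mk_zpow]
    rw [QuotientGroup.eq_iff_div_mem, div_eq_mul_inv, ← map_inv, ← map_mul] at h6
    exact h6, rfl⟩
  have h6 : D ≤ H ⊓ Ct (S ⊓ Ct D) := le_inf (Subgroup.map_subtype_le _)
    (Subgroup.le_centralizer_iff.1 inf_le_right)
  have h7 := Subgroup.mul_mem_sup (h6 h5) (Subgroup.zpow_mem_zpowers (s : Γ) n)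
  simpa using h7

section comap

variable {Δ : Type*} [Group Δ] [Finite Δ] {f : Γ →* Δ} {p : ℕ} [hp : Fact p.Prime]

omit [Finite Γ] [Finite Δ] in
theorem comap_le_Nm {A B : Subgroup Δ} (h : A ≤ Nm B) : A.comap f ≤ Nm (B.comap f) :=
  (Subgroup.comap_mono h).trans (Subgroup.le_normalizer_comap f)

omit [Finite Δ] in
theorem exists_pGroup_map_eq (hf : Function.Surjective f) {S : Subgroup Δ} (hS : IsPGroup p S) :
    ∃ P : Subgroup Γ, IsPGroup p P ∧ P.map f = S := by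
  obtain ⟨Q⟩ : Nonempty (Sylow p (S.comap f)) := inferInstance
  have h1 := Sylow.is_maximal' (Q.mapSurjective
    (MonoidHom.subgroupComap_surjective_of_surjective f S hf)) (hS.to_subgroup ⊤) le_top
  refine ⟨(Q : Subgroup (S.comap f)).map (S.comap f).subtype, Q.2.map _, le_antisymm ?_ ?_⟩
  · rw [Subgroup.map_le_iff_le_comap]
    exact Subgroup.map_subtype_le _
  · intro s hs
    obtain ⟨q, hq, e⟩ : (⟨s, hs⟩ : S) ∈ (Q : Subgroup (S.comap f)).map (f.subgroupComap S) :=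
      h1.le (Subgroup.mem_top _)
    exact ⟨q, ⟨q, hq, rfl⟩, congrArg Subtype.val e⟩

omit hp in
theorem PCorr.congr {P Q C G : Subgroup Γ} {h : C ≤ G} (H : PCorr p P h)
    (h1 : ∀ {χ : G → ℂ}, IsIrrCharacter G χ → (InvAll G Q χ ↔ InvAll G P χ))
    (h2 : ∀ {χ : C → ℂ}, IsIrrCharacter C χ → (InvAll C Q χ ↔ InvAll C P χ)) : PCorr p Q h where
  pm a b c d := H.pm a b ((h1 a).1 c) ((h2 b).1 d)
  ex_right a b := let ⟨β, c, d, e⟩ := H.ex_right a ((h1 a).1 b); ⟨β, c, (h2 c).2 d, e⟩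
  uniq_right a b c d e g := H.uniq_right a b c ((h1 a).1 d) ((h2 b).1 e) ((h2 c).1 g)
  ex_left a b := let ⟨β, c, d, e⟩ := H.ex_left a ((h2 a).1 b); ⟨β, c, (h1 c).2 d, e⟩
  uniq_left a b c d e g := H.uniq_left a b c ((h1 a).1 d) ((h1 b).1 e) ((h2 c).1 g)

omit [Finite Γ] [Finite Δ] in
theorem invAll_comap_map {P : Subgroup Γ} {G : Subgroup Δ} (hP : P.map f ≤ Nm G)
    {χ : G.comap f → ℂ} (hχ : IsClassFunction _ χ) :
    InvAll (G.comap f) ((P.map f).comap f) χ ↔ InvAll (G.comap f) P χ := by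
  refine ⟨fun h => h.mono (Subgroup.le_comap_map f P), fun h => ?_⟩
  rw [Subgroup.comap_map_eq]
  exact h.sup ((Subgroup.le_comap_map f P).trans (comap_le_Nm hP))
    ((f.ker_le_comap G).trans Subgroup.le_normalizer)
    ((invAll_self hχ).mono (f.ker_le_comap G))

/-- the relative Glauberman correspondence -/
theorem pCorr_comap (hf : Function.Surjective f) {S G C : Subgroup Δ} (hS : IsPGroup p S)
    (hSG : S ≤ Nm G) (hcop : ¬ p ∣ Nat.card G) (hC : C = G ⊓ Ct S)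
    (h : C.comap f ≤ G.comap f) : PCorr p (S.comap f) h := by
  obtain ⟨P, hP, rfl⟩ := exists_pGroup_map_eq hf hS
  have hn : ∀ A : Subgroup Γ, A ≤ Nm f.ker := fun A => by
    rw [Nm, Subgroup.normalizer_eq_top]; exact le_top
  refine PCorr.congr (pCorr_of_fix (N := f.ker) (f.ker_le_comap G) (hn _) ?_ P hP
    ((Subgroup.le_comap_map f P).trans (comap_le_Nm hSG)) (hn _) h fun g => ?_)
    (fun h => invAll_comap_map hSG h.isClassFunction)
    (fun h => invAll_comap_map ?_ h.isClassFunction)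
  · rwa [← MonoidHom.comap_bot, Subgroup.relIndex_comap, Subgroup.map_comap_eq_self_of_surjective hf,
      Subgroup.relIndex_bot_left]
  · rw [hC, Subgroup.mem_comap, Subgroup.mem_comap, mem_inf_centralizer_iff]
    refine and_congr_right fun _ => ⟨fun h1 x hx => ?_, fun h1 => ?_⟩
    · simpa [MonoidHom.mem_ker] using h1 _ (Subgroup.mem_map_of_mem f hx)
    · rintro _ ⟨x, hx, rfl⟩
      simpa [MonoidHom.mem_ker] using h1 x hx
  · exact hC ▸ (le_inf hSG (le_Nm_Ct Subgroup.le_normalizer)).trans Nm_inf_le_Nm_inf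

theorem invAll_iff_comap (hf : Function.Surjective f) {B C N T : Subgroup Δ} (hNC : N ≤ C)
    (h : C.comap f ≤ B.comap f) (hB : B ≤ Nm N) (hT : T ≤ Nm N)
    (hc : ∀ t ∈ T, ∀ b ∈ B, t * b * t⁻¹ * b⁻¹ ∈ N) (hTp : IsPGroup p T)
    (hcop : ¬ p ∣ Nat.card B) {ψ : B.comap f → ℂ} {θ : C.comap f → ℂ}
    (hψ : IsIrrCharacter _ ψ) (hθ : IsIrrCharacter _ θ) (h0 : mult h ψ θ ≠ 0) :
    InvAll _ (T.comap f) ψ ↔ InvAll _ (T.comap f) θ := by
  refine invAll_iff_of_over (Subgroup.comap_mono hNC) h (comap_le_Nm hB) (comap_le_Nm hT)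
    (fun t ht b hb => by simpa using hc _ ht _ hb) ?_ hψ hθ h0
  rw [Subgroup.relIndex_comap, Subgroup.relIndex_comap, Subgroup.map_comap_eq_self_of_surjective hf,
    Subgroup.map_comap_eq_self_of_surjective hf]
  obtain ⟨k, hk⟩ := hTp.exists_card_eq
  exact ((((Nat.Prime.coprime_iff_not_dvd hp.out).2 hcop).coprime_dvd_right
    (Subgroup.relIndex_dvd_card _ _)).pow_left k).coprime_dvd_left
    (hk ▸ Subgroup.relIndex_dvd_card _ _)

omit [Finite Γ] [Finite Δ] in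
theorem comap_sup_zpowers (hf : Function.Surjective f) (A : Subgroup Δ) (s : Γ) :
    (A ⊔ Subgroup.zpowers (f s)).comap f = A.comap f ⊔ Subgroup.zpowers s := by
  rw [← MonoidHom.map_zpowers, ← Subgroup.comap_sup_eq f _ _ hf, Subgroup.comap_map_eq,
    sup_comm _ f.ker, ← sup_assoc, sup_eq_left.2 (f.ker_le_comap A)]

omit [Finite Γ] in
theorem comm_eq_one_of_mem_Ct {R : Subgroup Γ} {x d : Γ} (hx : x ∈ R) (hd : d ∈ Ct R) :
    x * d * x⁻¹ * d⁻¹ = 1 := by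
  rw [Subgroup.mem_centralizer_iff.1 hd x hx]; group

/-- The theorem of Okuyama and Wajima (relative form). -/
theorem ow (hf : Function.Surjective f) {K : Subgroup Δ} {θ : K.comap f → ℂ}
    (hθ : IsIrrCharacter _ θ) (S : Subgroup Δ) : IsPGroup p S → S ≤ Nm K →
    ∀ {H C U : Subgroup Δ}, H ≤ Nm K → H ≤ Nm S → U = K ⊔ H → ¬ p ∣ Nat.card U → C = K ⊓ Ct S →
    (∀ a ∈ H, ∀ b ∈ H, a * b * a⁻¹ * b⁻¹ ∈ C) →
    ∀ (hCK : C.comap f ≤ K.comap f) (hCH : C.comap f ≤ H.comap f) (hKU : K.comap f ≤ U.comap f)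
      {θ' : C.comap f → ℂ}, IsIrrCharacter _ θ' → InvAll _ (S.comap f) θ →
      InvAll _ (S.comap f) θ' → (mult hCK θ θ' : ZMod p) ≠ 0 → (Ext hKU θ ↔ Ext hCH θ') := by
  induction S using WellFoundedLT.induction with
  | ind S ih =>
  intro hS hSK H C U hHK hHS hU hcop hC hab hCK hCH hKU θ' hθ' hi hi' hm
  have hCH' : C ≤ H := (Subgroup.comap_le_comap_of_surjective hf).1 hCH
  by_cases h0 : S = ⊥
  · have h1 : C = K := by
      rw [hC, h0, inf_eq_left, Subgroup.le_centralizer_iff]; exact bot_le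
    subst h1
    obtain rfl := mult_refl hθ hθ' (ne_zero_of_cast hm)
    exact ext_congr (by rw [hU, sup_eq_right.2 hCH']) _ _ _
  have hd : ∀ {A : Subgroup Δ}, A ≤ U → ¬ p ∣ Nat.card A := fun h h' =>
    hcop (h'.trans (Subgroup.card_dvd_of_le h))
  have hKU' : K ≤ U := hU ▸ le_sup_left
  have hHU' : H ≤ U := hU ▸ le_sup_right
  obtain ⟨S₀, R, s, h1, h2, h3, h4, h5, h6, h7, h8⟩ := exists_cyclic_step hS h0 hHS (hd hHU')
    fun a ha b hb => (hC.le (hab a ha b hb)).2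
  have hS₀ : IsPGroup p S₀ := hS.to_le h1.le
  have hR : IsPGroup p R := hS.to_le h4
  let K₁ := K ⊓ Ct S₀
  have hC₁ : C = K₁ ⊓ Ct R := by rw [hC, ← h6, Ct_sup, inf_assoc]
  have hCK₁ : C ≤ K₁ := hC₁ ▸ inf_le_left
  have hK₁ : ∀ {A : Subgroup Δ}, A ≤ Nm K → A ≤ Nm S₀ → A ≤ Nm K₁ := fun a b =>
    (le_inf a (le_Nm_Ct b)).trans Nm_inf_le_Nm_inf
  have hCn : ∀ {A : Subgroup Δ}, A ≤ Nm K → A ≤ Nm S → A ≤ Nm C := fun a b =>
    hC ▸ (le_inf a (le_Nm_Ct b)).trans Nm_inf_le_Nm_inf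
  have hK₁K : K₁.comap f ≤ K.comap f := Subgroup.comap_mono inf_le_left
  obtain ⟨θ₁, hθ₁, h9, h10⟩ := exists_mult_trans_mod (Subgroup.comap_mono hCK₁) hK₁K
    hθ.isCharacter hθ'.isCharacter hm
  have P₀ := pCorr_comap hf hS₀ (h1.le.trans hSK) (hd hKU') rfl hK₁K
  have hi₀ : InvAll _ (S₀.comap f) θ₁ := (invAll_iff_comap hf bot_le (Subgroup.comap_mono hCK₁)
    (le_normalizer_bot _) (le_normalizer_bot _)
    (fun t ht b hb => comm_eq_one_of_mem_Ct ht hb.2) hS₀ (hd (inf_le_left.trans hKU')) hθ₁ hθ'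
    (ne_zero_of_cast h10)).2 (hi'.mono (Subgroup.comap_mono h1.le))
  have hHK₁ : H ≤ Nm K₁ := hK₁ hHK h3
  have hRK₁ : R ≤ Nm K₁ := hK₁ (h4.trans hSK) (h4.trans h2)
  have e1 := ih S₀ h1 hS₀ (h1.le.trans hSK) (H := K₁ ⊔ H) (C := K₁) (U := U)
    (sup_le (inf_le_left.trans Subgroup.le_normalizer) hHK)
    (sup_le (inf_le_right.trans (Subgroup.centralizer_le_normalizer _)) h3)
    (by rw [hU, ← sup_assoc, sup_eq_left.2 (inf_le_left : K₁ ≤ K)]) hcop rfl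
    (comm_mem_of_sup hHK₁ fun a ha b hb => hCK₁ (hab a ha b hb)) hK₁K
    (Subgroup.comap_mono le_sup_left) hKU hθ₁ (hi.mono (Subgroup.comap_mono h1.le)) hi₀ h9
  have hi₁ : InvAll _ (R.comap f) θ₁ := fun x hx =>
    P₀.invBy_right hθ hθ₁ (hi.mono (Subgroup.comap_mono h1.le)) hi₀ h9
      (comap_le_Nm (h4.trans hSK) hx) (comap_le_Nm hRK₁ hx)
      (hi₀.cjn _ (comap_le_Nm (h4.trans h2) hx)) (hi x (h4 hx))
  obtain ⟨s, rfl⟩ := hf s
  let D := H ⊓ Ct R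
  have hCD : C ≤ D := le_inf hCH' (hC₁ ▸ inf_le_right)
  have hDK₁ : D ≤ Nm K₁ := inf_le_left.trans hHK₁
  have hHD : H ≤ Nm D := (le_inf Subgroup.le_normalizer (le_Nm_Ct h5)).trans Nm_inf_le_Nm_inf
  have hRD : R ≤ Nm D :=
    (Subgroup.le_centralizer_iff.1 inf_le_right).trans (Subgroup.centralizer_le_normalizer _)
  have hYU : K₁ ⊔ D ≤ U := sup_le (inf_le_left.trans hKU') (inf_le_left.trans hHU')
  have hRY : ∀ x ∈ R, ∀ y ∈ K₁ ⊔ D, x * y * x⁻¹ * y⁻¹ ∈ K₁ := fun x hx y hy => by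
    obtain ⟨k, hk, d, hd, rfl⟩ := exists_mul_of_mem_sup hDK₁ hy
    have e2 := K₁.mul_mem ((Subgroup.mem_normalizer_iff.1 (hRK₁ hx) _).1 hk) (K₁.inv_mem hk)
    convert e2 using 1
    calc _ = x * k * x⁻¹ * (x * d * x⁻¹ * d⁻¹) * k⁻¹ := by group
      _ = _ := by rw [comm_eq_one_of_mem_Ct hx hd.2, mul_one]
  have hDY : D = (K₁ ⊔ D) ⊓ Ct R := le_antisymm (le_inf le_sup_right inf_le_right) fun y hy => by
    obtain ⟨k, hk, d, hd, rfl⟩ := exists_mul_of_mem_sup hDK₁ hy.1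
    exact D.mul_mem (hCD (hC₁.ge ⟨hk, (Subgroup.mul_mem_cancel_right _ hd.2).1 hy.2⟩)) hd
  refine e1.trans (ow_step (Subgroup.comap_mono hCK₁) (Subgroup.comap_mono hCD)
    (Subgroup.comap_mono (le_sup_left : K₁ ≤ K₁ ⊔ D)) (Subgroup.comap_mono le_sup_right)
    (Subgroup.comap_mono inf_le_left) (Subgroup.comap_mono (sup_le_sup_left inf_le_left _))
    (pCorr_comap hf hR hRK₁ (hd (inf_le_left.trans hKU')) hC₁ _)
    (pCorr_comap hf hR ((le_inf hRK₁ hRD).trans Nm_inf_le_Nm_sup) (hd hYU) hDY _)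
    (Subgroup.comap_sup_eq f _ _ hf).symm ?_ (comap_le_Nm hDK₁)
    (invAll_iff_comap hf le_rfl _ (sup_le Subgroup.le_normalizer hDK₁) hRK₁ hRY hR (hd hYU))
    (invAll_iff_comap (B := D) hf bot_le _ (le_normalizer_bot _) (le_normalizer_bot _)
      (fun t ht b hb => comm_eq_one_of_mem_Ct ht hb.2) hR (hd (inf_le_left.trans hHU')))
    (fun x hx y hy => by simpa using hRY _ hx _ hy)
    (fun a ha b hb => by simpa using hab _ ha.1 _ hb.1) (s := s) ?_ ?_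
    (comap_le_Nm ((le_inf hHK₁ hHD).trans Nm_inf_le_Nm_sup) h7) (comap_le_Nm hHD h7)
    (comap_le_Nm h5 h7) hθ₁ hi₁ hθ' (hi'.mono (Subgroup.comap_mono h4)) h10)
  · rw [← Subgroup.comap_inf]
    exact congrArg _ (le_antisymm (le_inf hCK₁ hCD) fun x hx => hC₁.ge ⟨hx.1, hx.2.2⟩)
  · rw [← comap_sup_zpowers hf, ← h8]
  · rw [← comap_sup_zpowers hf, sup_assoc, ← h8]

end comap

end H32
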