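import Cfsg.Agent.Base
import Cfsg.Agent.H32.IndSurj
import Cfsg.Agent.H32.Chief
import Cfsg.Agent.H32.DegreeRatio
import Cfsg.Agent.H2.CoreFree

/-! A character induced from a maximal subgroup whose restriction to a normal subgroup with
solvable quotient is irreducible is not quasi-primitive. -/

set_option autoImplicit false

open Cfsg H28 H33

namespace H32

variable {G : Type*} [Group G]

theorem isCoatom_map_mk {L H : Subgroup G} [L.Normal] (hLH : L ≤ H) (hH : IsCoatom H) :
    IsCoatom (H.map (QuotientGroup.mk' L)) := by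
  refine ⟨fun h => hH.1 ?_, fun K hK => ?_⟩
  · rw [← comap_map_mk_of_le hLH, h, Subgroup.comap_top]
  · have h1 : H < K.comap (QuotientGroup.mk' L) := by
      rw [← comap_map_mk_of_le hLH]
      exact (Subgroup.comap_lt_comap_of_surjective (QuotientGroup.mk'_surjective L)).2 hK
    rw [← Subgroup.map_comap_eq_self_of_surjective (QuotientGroup.mk'_surjective L) K,
      hH.2 _ h1, Subgroup.map_top_of_surjective _ (QuotientGroup.mk'_surjective L)]

theorem normalCore_map_mk_eq_bot (H : Subgroup G) :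
    (H.map (QuotientGroup.mk' H.normalCore)).normalCore = ⊥ := by
  have h1 : ((H.map (QuotientGroup.mk' H.normalCore)).normalCore).comap
      (QuotientGroup.mk' H.normalCore) ≤ H.normalCore := by
    rw [Subgroup.normal_le_normalCore]
    exact (Subgroup.comap_mono (Subgroup.normalCore_le _)).trans
      (comap_map_mk_of_le H.normalCore_le).le
  rw [eq_bot_iff]
  intro x hx
  obtain ⟨x, rfl⟩ := QuotientGroup.mk_surjective x
  exact (QuotientGroup.eq_one_iff x).2 (h1 hx)

/-- a normal subgroup which is nilpotent modulo the core of a maximal subgroup `H` meets `H`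
inside the core -/
theorem inf_le_normalCore_of_isNilpotent [Finite G] {H : Subgroup G} (hH : IsCoatom H)
    (M : Subgroup G) [hM : M.Normal]
    (h : Group.IsNilpotent (M.map (QuotientGroup.mk' H.normalCore))) : M ⊓ H ≤ H.normalCore := by
  have : (M.map (QuotientGroup.mk' H.normalCore)).Normal :=
    hM.map _ (QuotientGroup.mk'_surjective _)
  intro x hx
  rw [← QuotientGroup.eq_one_iff]
  by_cases h0 : M.map (QuotientGroup.mk' H.normalCore) = ⊥
  · exact (Subgroup.eq_bot_iff_forall _).1 h0 _ ⟨x, hx.1, rfl⟩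
  · have h1 := (H2.nilpotent_normal_of_corefree (isCoatom_map_mk H.normalCore_le hH)
      (normalCore_map_mk_eq_bot H) _ h0).2.1.disjoint
    exact Subgroup.disjoint_def.1 h1 ⟨x, hx.1, rfl⟩ ⟨x, hx.2, rfl⟩

theorem sup_eq_top_of_not_le_normalCore {H : Subgroup G} (hH : IsCoatom H) (K : Subgroup G)
    [K.Normal] (h : ¬ K ≤ H.normalCore) : K ⊔ H = ⊤ := by
  rw [Subgroup.normal_le_normalCore] at h
  exact hH.2 _ (lt_of_le_of_ne le_sup_right fun e => h (e ▸ le_sup_left))

theorem isPGroup_map_mk_of_relIndex [Finite G] {L M : Subgroup G} [L.Normal] {p k : ℕ}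
    (h : L.relIndex M = p ^ k) : IsPGroup p (M.map (QuotientGroup.mk' L)) :=
  IsPGroup.of_card (card_map_mk.trans h)

theorem classInner_res_indFun_of_mul_eq_top [Fintype G] {H K : Subgroup G} [Fintype K]
    [Fintype (H.subgroupOf K)] (hHK : ∀ g : G, ∃ k ∈ K, ∃ h ∈ H, g = k * h) {θ : H → ℂ}
    (hθ : IsClassFunction H θ) {ψ : K → ℂ} (hψ : IsClassFunction K ψ) :
    classInner ψ (fun k : K => indFun H θ k) =
      classInner (fun x : H.subgroupOf K => ψ x) fun x : H.subgroupOf K => θ ⟨(x : K), x.2⟩ := by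
  rw [res_indFun_of_mul_eq_top hHK hθ, classInner_indFun_right _ _ hψ]

theorem relIndex_eq_index_of_mul_eq_top [Finite G] {H K : Subgroup G}
    (hHK : ∀ g : G, ∃ k ∈ K, ∃ h ∈ H, g = k * h) : H.relIndex K = H.index := by
  have := Fintype.ofFinite G
  have := Fintype.ofFinite K
  have h := congrFun (res_indFun_of_mul_eq_top hHK (isClassFunction_const 1)) 1
  rw [indFun_apply_one] at h
  simp only [OneMemClass.coe_one, indFun_apply_one, mul_one, Nat.cast_inj] at h
  exact h.symm

theorem not_quasiprimitive_of_core [Fintype G] {H : Subgroup G} (hmax : IsCoatom H)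
    (hsolv : Group.IsSolvable (G ⧸ H.normalCore)) {ϑ : H → ℂ} (hϑ : IsIrrCharacter H ϑ)
    (hϑL : IsIrrCharacter H.normalCore fun x : H.normalCore => ϑ ⟨(x : G), H.normalCore_le x.2⟩)
    (hind : IsIrrCharacter G (indFun H ϑ))
    (hq : ∀ M : Subgroup G, M.Normal → H.normalCore ≤ M → ∃ (φ : M → ℂ) (e : ℕ),
      IsIrrCharacter M φ ∧ (fun m : M => indFun H ϑ m) = (e : ℂ) • φ) : False := by
  classical
  set L := H.normalCore with hL
  have hLH : L ≤ H := H.normalCore_le
  set χ := indFun H ϑ with hχ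
  have hχ1 : χ 1 = H.index * ϑ 1 := indFun_apply_one H ϑ
  have hϑ1 := hϑ.apply_one_ne_zero
  have hi0 : (H.index : ℂ) ≠ 0 := by exact_mod_cast H.index_ne_zero_of_finite
  -- the restriction to `L`
  have hres : ∀ x : L, χ x = H.index * ϑ ⟨x, hLH x.2⟩ := by
    obtain ⟨φ, e, hφ, he⟩ := hq L inferInstance le_rfl
    have h1 : classInner (fun h : H => χ h) ϑ ≠ 0 := by
      rw [← classInner_indFun_right H ϑ hind.isClassFunction, hind.classInner_self]
      exact one_ne_zero
    have h2 := classInner_res_le_of_constituent hLH hind.isCharacter hϑ h1 hϑL.isCharacter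
    rw [hϑL.classInner_self] at h2
    have h3 : φ = _ := eq_of_homogeneous hφ hϑL he (fun h0 => by
      rw [h0] at h2; norm_num at h2)
    subst h3
    have h4 : χ 1 = e * ϑ 1 := congrFun he 1
    rw [hχ1, mul_left_inj' hϑ1] at h4
    intro x
    rw [h4]; exact congrFun he x
  have hLtop : L < ⊤ := lt_of_le_of_lt hLH hmax.lt_top
  obtain ⟨K, hK, hLK, -, hcK⟩ := H2.exists_chief_factor_above hLtop
  obtain ⟨p, j, hp, hj, hpj, -, hKp⟩ := exists_prime_of_chief hsolv hLK hcK
  have := Fact.mk hp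
  have hKH : K ⊓ H ≤ L := inf_le_normalCore_of_isNilpotent hmax K hKp.isNilpotent
  have hKH' := exists_mul_of_sup_eq_top (sup_eq_top_of_not_le_normalCore hmax K hLK.not_ge)
  have hidx : H.index = p ^ j := by
    rw [← relIndex_eq_index_of_mul_eq_top hKH', ← hpj, ← Subgroup.inf_relIndex_right, inf_comm,
      le_antisymm hKH (le_inf hLK.le hLH)]
  -- irreducibility of `ϑ` on `H ∩ M`
  have hirr : ∀ M : Subgroup G, L ≤ M →
      IsIrrCharacter (H.subgroupOf M) fun x : H.subgroupOf M => ϑ ⟨(x : M), x.2⟩ := fun M hM =>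
    (hϑ.isCharacter.comp ((M.subtype.comp (Subgroup.subtype _)).codRestrict H
      fun x : H.subgroupOf M => x.2)).irr_of_comp
      ((Subgroup.inclusion hM).codRestrict _ fun x => hLH x.2) hϑL
  obtain ⟨ξ, e, hξ, he⟩ := hq K hK hLK.le
  have he2 : e ^ 2 = H.index := by
    have h1 := classInner_self_of_homogeneous hξ he
    rw [classInner_res_indFun_of_mul_eq_top hKH' hϑ.isClassFunction
      (hind.isClassFunction.restrict K)] at h1
    have h2 : (fun x : H.subgroupOf K => χ ((x : K) : G)) =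
        (H.index : ℂ) • fun x : H.subgroupOf K => ϑ ⟨(x : K), x.2⟩ := by
      funext x
      exact hres ⟨_, hKH ⟨x.1.2, x.2⟩⟩
    rw [h2, classInner_smul_left, (hirr K hLK.le).classInner_self, mul_one] at h1
    exact_mod_cast h1.symm
  have he0 : (e : ℂ) ≠ 0 := by
    intro h
    rw [← he2, Nat.cast_pow, h] at hi0
    simp at hi0
  rcases eq_or_ne K ⊤ with rfl | hKtop
  · -- `H = L` is normal
    have h1 : H ≤ L := fun x hx => hKH ⟨trivial, hx⟩
    have hn : H.Normal := by rw [le_antisymm h1 hLH]; infer_instance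
    have h2 : inertia ϑ = ⊤ := inertia_eq_top_of_homogeneous hind.isClassFunction hi0
      (funext fun x => hres ⟨x, h1 x.2⟩)
    have h3 := (isIrrCharacter_indFun_iff hϑ).1 hind
    rw [h2] at h3
    exact hmax.1 (top_le_iff.1 h3)
  obtain ⟨M, hM, hKM, -, hcM⟩ := H2.exists_chief_factor_above hKtop.lt_top
  obtain ⟨q, k, hq', hk, hqk, -, -⟩ :=
    exists_prime_of_chief (isSolvable_quotient_of_le hLK.le hsolv) hKM hcM
  have hMH := exists_mul_of_sup_eq_top
    (sup_eq_top_of_not_le_normalCore hmax M (hLK.trans hKM).not_ge)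
  have hnot : ¬ M ⊓ H ≤ L := fun h => hKM.not_ge fun m hm => by
    obtain ⟨a, ha, b, hb, rfl⟩ := hKH' m
    exact K.mul_mem ha (hLK.le (h ⟨(M.mul_mem_cancel_left (hKM.le ha)).1 hm, hb⟩))
  have hpq : q ≠ p := by
    rintro rfl
    refine hnot (inf_le_normalCore_of_isNilpotent hmax M
      (isPGroup_map_mk_of_relIndex (p := q) (k := j + k) ?_).isNilpotent)
    rw [← Subgroup.relIndex_mul_relIndex _ _ _ hLK.le hKM.le, hpj, hqk, pow_add]
  obtain ⟨ψ, a, hψ, ha⟩ := hq M hM (hLK.trans hKM).le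
  have hae : a = e := by
    have h1 : χ 1 = a * ψ 1 := congrFun ha 1
    have h2 : χ 1 = e * ξ 1 := congrFun he 1
    have ha0 : (a : ℂ) ≠ 0 := fun h => hind.apply_one_ne_zero (by rw [h1, h, zero_mul])
    have h3 : (a : ℂ) • (fun x : K => ψ ⟨x, hKM.le x.2⟩) = (e : ℂ) • ξ := by
      rw [← he]; funext x; exact (congrFun ha ⟨x, hKM.le x.2⟩).symm
    have h4 : classInner (fun x : K => ψ ⟨x, hKM.le x.2⟩) ξ ≠ 0 := fun h => by
      have := congrArg (classInner · ξ) h3
      simp only [classInner_smul_left, h, hξ.classInner_self, mul_zero, mul_one] at this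
      exact he0 this.symm
    rw [← classInner_res_subgroupOf hKM.le] at h4
    obtain ⟨b, hb, h5⟩ := exists_degree_eq_mul_of_constituent hψ
      (isIrrCharacter_subgroupOf hKM.le hξ) h4
    have h6 : ψ 1 = b * ξ 1 := h5
    rw [h1, h6, ← mul_assoc, mul_left_inj' hξ.apply_one_ne_zero, ← Nat.cast_mul,
      Nat.cast_inj] at h2
    have h7 : b ∣ q ^ k := hqk ▸ hb
    have h8 : b ∣ p ^ j := by
      rw [← hidx, ← he2, ← h2]; exact Dvd.dvd.pow (Dvd.intro_left a rfl) two_ne_zero
    have h9 : b = 1 := Nat.eq_one_of_dvd_coprimes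
      (Nat.coprime_pow_primes k j hq' hp hpq) h7 h8
    rw [← h2, h9, mul_one]
  subst hae
  have h1 := classInner_self_of_homogeneous hψ ha
  rw [classInner_res_indFun_of_mul_eq_top hMH hϑ.isClassFunction
    (hind.isClassFunction.restrict M), he2] at h1
  have h2 := eq_smul_of_classInner_of_degree ((hind.isCharacter.restrict M).restrict _)
    (hirr M (hLK.trans hKM).le) h1 hχ1
  have h3 : (fun x : H.subgroupOf M => ψ x) =
      (a : ℂ) • fun x : H.subgroupOf M => ϑ ⟨(x : M), x.2⟩ := by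
    funext x
    have h4 := congrFun h2 x
    have h5 := congrFun ha x
    simp only [Pi.smul_apply, smul_eq_mul] at h4 h5 ⊢
    rw [h5, ← he2, Nat.cast_pow, pow_two, mul_assoc] at h4
    exact mul_left_cancel₀ he0 h4
  have h4 := (classInner_res_self_eq_index_iff (H := H.subgroupOf M) hψ).1 (by
    rw [classInner_self_of_homogeneous (hirr M (hLK.trans hKM).le) h3, he2,
      ← relIndex_eq_index_of_mul_eq_top hMH]
    rfl)
  have h5 : M.subgroupOf H ≤ L.subgroupOf H := by
    refine le_of_res_irr_of_vanish hϑ.isCharacter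
      (Subgroup.subgroupOf_mono H (hLK.trans hKM).le) ?_ fun u hu huL => ?_
    · exact isIrrCharacter_subgroupOf hLH hϑL
    · have h6 : ¬ ∀ g : G, g * u * g⁻¹ ∈ H := huL
      obtain ⟨g, hg⟩ := not_forall.1 h6
      have h7 := h4 ⟨g * u * g⁻¹, hM.conj_mem _ hu g⟩ hg
      have h8 := congrFun ha ⟨g * u * g⁻¹, hM.conj_mem _ hu g⟩
      have h9 := congrFun h2 ⟨⟨u, hu⟩, u.2⟩
      simp only [Pi.smul_apply, smul_eq_mul, h7, mul_zero] at h8 h9
      rw [hind.isClassFunction.apply_conj] at h8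
      rw [h8] at h9
      exact (mul_eq_zero.1 h9.symm).resolve_left hi0
  exact hnot fun x hx => h5 (show (⟨x, hx.2⟩ : H) ∈ M.subgroupOf H from hx.1)

theorem exists_not_homogeneous_of_isCoatom [Fintype G] {L H : Subgroup G} [L.Normal]
    (hLH : L ≤ H) (hmax : IsCoatom H) (hsolv : Group.IsSolvable (G ⧸ L)) {ϑ : H → ℂ}
    (hϑ : IsIrrCharacter H ϑ) (hϑL : IsIrrCharacter L fun x : L => ϑ ⟨(x : G), hLH x.2⟩)
    (hind : IsIrrCharacter G (indFun H ϑ)) :
    ∃ M : Subgroup G, M.Normal ∧ L ≤ M ∧ ¬ ∃ (φ : M → ℂ) (e : ℕ), IsIrrCharacter M φ ∧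
      (fun m : M => indFun H ϑ m) = (e : ℂ) • φ := by
  by_contra h
  push Not at h
  have h1 : L ≤ H.normalCore := Subgroup.normal_le_normalCore.2 hLH
  exact not_quasiprimitive_of_core hmax (isSolvable_quotient_of_le h1 hsolv) hϑ
    ((isCharacter_res_le H.normalCore_le hϑ.isCharacter).irr_of_comp (Subgroup.inclusion h1) hϑL)
    hind fun M hM h2 => h M hM (h1.trans h2)

end H32
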