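import Cfsg.Agent.Base
import Cfsg.Agent.H32.McB
import Cfsg.Agent.H32.QuasiPrim
import Cfsg.Agent.H40.RealOver
import Cfsg.Agent.H40.InvOver

/-! The restriction bijection, and the McKay count for real characters of odd degree. -/

set_option autoImplicit false

namespace H32

open Cfsg H28 H29 H33 H40
open scoped ComplexConjugate Pointwise

section typed
variable {G : Type*} [Group G] [Fintype G]

theorem classInner_eq_zero_of_res (K : Subgroup G) [Fintype K] {α β : G → ℂ}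
    (hα : IsCharacter G α) (hβ : IsCharacter G β)
    (h : classInner (fun k : K => α k) (fun k : K => β k) = 0) : classInner α β = 0 := by
  by_contra hne
  obtain ⟨φ, hφ, h1, h2⟩ := hα.isClassFunction.exists_irr_of_classInner_ne_zero hne
  obtain ⟨τ, hτ, h3⟩ := exists_constituent_res (H := K) hφ.isCharacter hφ.apply_one_ne_zero
  have key : ∀ {γ : G → ℂ}, IsCharacter G γ → classInner γ φ ≠ 0 →
      classInner (fun k : K => γ k) τ ≠ 0 := by
    intro γ hγ h4 h5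
    have h6 := classInner_re_le_of_sub (χ := fun k : K => γ k) (ψ := fun k : K => φ k)
      ((hγ.sub_irr hφ h4).restrict K) hτ.isCharacter
    obtain ⟨n, hn⟩ := (hφ.isCharacter.restrict K).classInner_nat hτ.isCharacter
    rw [h5, hn] at h6
    rw [hn] at h3
    have h7 : (n : ℝ) ≤ 0 := by simpa using h6
    exact h3 (by exact_mod_cast le_antisymm (by exact_mod_cast h7) (Nat.zero_le n))
  exact classInner_ne_zero_of_common (hα.restrict K) (hβ.restrict K) hτ (key hα h1)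
    (key hβ ((classInner_eq_zero_comm _ _).not.1 h2)) h

theorem classInner_res_eq_of_mul_eq_top {K H : Subgroup G} [Fintype H]
    (hKH : ∀ g : G, ∃ k ∈ K, ∃ h ∈ H, g = k * h) {θ : K → ℂ} (hθ : IsIrrCharacter K θ)
    (hθC : IsIrrCharacter (H.subgroupOf K) fun x : H.subgroupOf K => θ x) {χ ψ : G → ℂ}
    (hχ : IsCharacter G χ) (hψ : IsCharacter G ψ) {e f : ℂ} (h1 : (fun k : K => χ k) = e • θ)
    (h2 : (fun k : K => ψ k) = f • θ) :
    classInner (fun h : H => χ h) (fun h : H => ψ h) = classInner χ ψ := by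
  classical
  have hF : IsCharacter G (χ * fun g => conj (ψ g)) := hχ.mul hψ.conj
  have hI : IsCharacter G (indFun H fun _ => 1) := isCharacter_one.indFun
  have hΞ : IsCharacter G ((indFun H fun _ => 1) - fun _ => 1) := hI.sub_irr isIrrCharacter_one (by
    rw [classInner_indFun_left _ _ (isClassFunction_const 1), classInner_one_one]
    exact one_ne_zero)
  have h3 := classInner_eq_zero_of_res K hF hΞ (by
    have e1 : (fun k : K => (χ * fun g => conj (ψ g)) k) =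
        (e * conj f) • (θ * fun k => conj (θ k)) := by
      ext k
      simp only [Pi.mul_apply, congrFun h1 k, congrFun h2 k, Pi.smul_apply, smul_eq_mul, map_mul]
      ring
    have e2 : (fun k : K => ((indFun H fun _ => 1) - fun _ => 1 : G → ℂ) k) =
        (fun k : K => indFun H (fun _ => 1) k) - fun _ => 1 := rfl
    rw [e1, e2, classInner_smul_left, classInner_sub_right,
      classInner_res_indFun_of_mul_eq_top hKH (isClassFunction_const 1)
        (hθ.isCharacter.mul hθ.isCharacter.conj).isClassFunction, ← classInner_eq_mul_one,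
      hθ.classInner_self]
    have := hθC.classInner_self
    rw [classInner_eq_mul_one] at this
    rw [show classInner (fun x : H.subgroupOf K => (θ * fun k => conj (θ k)) x)
      (fun _ => (1 : ℂ)) = 1 from this, sub_self, mul_zero])
  rw [classInner_sub_right, classInner_indFun_right _ _ hF.isClassFunction, sub_eq_zero,
    ← classInner_eq_mul_one] at h3
  rw [← h3, classInner_eq_mul_one]
  rfl

end typed

variable {Γ : Type*} [Group Γ] [Finite Γ] {p : ℕ} {σ : ℂ →+* ℂ}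

/-- The restriction bijection, counting form. -/
theorem cnt_res_eq {K G N C : Subgroup Γ} (hKG : K ≤ G) (hNG : N ≤ G) (hC : C = K ⊓ N)
    (hCK : C ≤ K) (hCN : C ≤ N) (hG : G ≤ Nm K) (hKN : ∀ g ∈ G, ∃ k ∈ K, ∃ n ∈ N, g = k * n)
    {θ : K → ℂ} (hθ : IsIrrCharacter K θ) (hθC : IsIrrCharacter C (res hCK θ))
    (hinv : InvAll K G θ) (hσ : gl σ θ = θ) : cnt p σ hKG θ = cnt p σ hCN (res hCK θ) := by
  classical
  have := Fintype.ofFinite Γ
  subst hC
  have hKN' : ∀ g : G, ∃ k ∈ K.subgroupOf G, ∃ n ∈ N.subgroupOf G, g = k * n := fun g => by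
    obtain ⟨k, hk, n, hn, e⟩ := hKN g g.2
    exact ⟨⟨k, hKG hk⟩, hk, ⟨n, hNG hn⟩, hn, Subtype.ext e⟩
  have hθC' : IsIrrCharacter ((N.subgroupOf G).subgroupOf (K.subgroupOf G))
      fun x => sg G θ x := hθC.comp_mulEquiv
    { toFun := fun x : (N.subgroupOf G).subgroupOf (K.subgroupOf G) => ⟨x.1.1.1, x.1.2, x.2⟩
      invFun := fun x => ⟨⟨⟨x.1, hKG x.2.1⟩, x.2.1⟩, x.2.2⟩
      left_inv := fun _ => rfl
      right_inv := fun _ => rfl
      map_mul' := fun _ _ => rfl }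
  have hres : ∀ {χ : G → ℂ}, IsIrrCharacter G χ → mult hKG χ θ ≠ 0 →
      (fun k : K.subgroupOf G => χ k) = (mult hKG χ θ : ℂ) • sg G θ := fun hχ h => by
    funext k
    exact congrFun (res_eq_smul_of_invAll hKG hG hθ hinv hχ h) ⟨(k : G), k.2⟩
  have key : ∀ {χ ψ : G → ℂ}, IsIrrCharacter G χ → IsIrrCharacter G ψ → mult hKG χ θ ≠ 0 →
      mult hKG ψ θ ≠ 0 → classInner (res hNG χ) (res hNG ψ) = classInner χ ψ :=
    fun hχ hψ h1 h2 => by
      rw [← classInner_res_eq_of_mul_eq_top hKN' (isIrr_subgroupOf hKG hθ) hθC' hχ.isCharacter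
        hψ.isCharacter (hres hχ h1) (hres hψ h2), ← H40.classInner_subgroupOf hNG]
  have hirr : ∀ {χ : G → ℂ}, IsIrrCharacter G χ → mult hKG χ θ ≠ 0 →
      IsIrrCharacter N (res hNG χ) := fun hχ h =>
    (isCharacter_res hNG hχ.isCharacter).irr_of_norm_one (by rw [key hχ hχ h h, hχ.classInner_self])
  have hinj : ∀ {χ ψ : G → ℂ}, IsIrrCharacter G χ → IsIrrCharacter G ψ → mult hKG χ θ ≠ 0 →
      mult hKG ψ θ ≠ 0 → res hNG χ = res hNG ψ → χ = ψ := fun hχ hψ h1 h2 e =>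
    hχ.eq_of_classInner_ne_zero hψ (by
      rw [← key hχ hψ h1 h2, ← e, (hirr hχ h1).classInner_self]; exact one_ne_zero)
  let F : {χ // McSet p σ hKG θ χ} → {ψ // McSet p σ hCN (res hCK θ) ψ} := fun χ =>
    ⟨⟨res hNG χ.1.1, hirr χ.1.2 χ.2.2.2⟩, χ.2.1, funext fun n => congrFun χ.2.2.1 _,
      mult_trans_ne_zero hCK hKG χ.1.2.isCharacter hθ hθC.isCharacter χ.2.2.2
        (by rw [mult_res_self hCK hθC]; exact one_ne_zero)⟩
  refine Nat.card_congr (Equiv.ofBijective F ⟨fun a b e => ?_, fun ξ => ?_⟩)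
  · exact Subtype.ext (Subtype.ext (hinj a.1.2 b.1.2 a.2.2.2 b.2.2.2 (congrArg (·.1.1) e)))
  · have hξ := isIrr_subgroupOf hNG ξ.1.2
    have h1 : classInner (sg G θ) (fun k : K.subgroupOf G =>
        indFun (N.subgroupOf G) (sg G ξ.1.1) k) ≠ 0 := by
      rw [classInner_res_indFun_of_mul_eq_top hKN' hξ.isClassFunction
        (isIrr_subgroupOf hKG hθ).isClassFunction]
      have h2 := (mult_ne_zero_iff hCN ξ.1.2.isCharacter hθC.isCharacter).1 ξ.2.2.2
      rw [← classInner_comp_equiv (H := (N.subgroupOf G).subgroupOf (K.subgroupOf G))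
        { toFun := fun x => ⟨x.1.1.1, x.1.2, x.2⟩
          invFun := fun x => ⟨⟨⟨x.1, hKG x.2.1⟩, x.2.1⟩, x.2.2⟩
          left_inv := fun _ => rfl
          right_inv := fun _ => rfl }] at h2
      exact (classInner_eq_zero_comm _ _).not.1 h2
    rw [← classInner_indFun_left _ _ (indFun_isClassFunction _ _)] at h1
    obtain ⟨χ, hχ, h2, h3⟩ := (indFun_isClassFunction _ _).exists_irr_of_classInner_ne_zero h1
    rw [classInner_indFun_left _ _ hχ.isClassFunction, Ne, classInner_eq_zero_comm,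
      mult_sg hKG hχ.isCharacter hθ.isCharacter, Nat.cast_eq_zero] at h2
    rw [classInner_indFun_right _ _ hχ.isClassFunction,
      mult_sg hNG hχ.isCharacter ξ.1.2.isCharacter, Nat.cast_ne_zero] at h3
    have h4 := eq_of_mult_of_res_irr hNG hχ.isCharacter (hirr hχ h2) ξ.1.2 h3
    refine ⟨⟨⟨χ, hχ⟩, ?_, ?_, h2⟩, Subtype.ext (Subtype.ext h4)⟩
    · have := ξ.2.1
      rwa [← h4] at this
    · refine hinj (hχ.gal σ) hχ ?_ h2 ?_
      · rwa [← hσ, mult_gl σ hKG hχ.isCharacter hθ.isCharacter]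
      · have := ξ.2.2.1
        rwa [← h4] at this

theorem frattini_mul [Fact p.Prime] {K G S : Subgroup Γ} (hKG : K ≤ G) (hG : G ≤ Nm K)
    (hS : IsPGroup p S) (hSG : S ≤ G) (hSyl : ¬ p ∣ S.relIndex G) (hE : G ≤ Nm (K ⊔ S)) :
    ∀ g ∈ G, ∃ k ∈ K, ∃ n ∈ G ⊓ Nm S, g = k * n := by
  intro g hg
  obtain ⟨c, hc, h3⟩ := exists_conj_le_of_not_dvd_relIndex (X := S) (H := K ⊔ S)
    (Q := S.map (MulAut.conj g).toMonoidHom)
    (not_dvd_relIndex_of_le le_sup_right (sup_le hKG hSG) hSyl) (hS.map _) (by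
      rintro _ ⟨s, hs, rfl⟩
      exact (Subgroup.mem_normalizer_iff.1 (hE hg) s).1 (Subgroup.mem_sup_right hs))
  have h1 : c * g ∈ Nm S := mem_Nm_of_conj_le fun s hs => by
    simpa [mul_assoc] using h3 _ ⟨s, hs, rfl⟩
  have h2 : c⁻¹ ∈ ((K ⊔ S : Subgroup Γ) : Set Γ) := Subgroup.inv_mem _ hc
  rw [Subgroup.coe_mul_of_right_le_normalizer_left _ _ (hSG.trans hG)] at h2
  obtain ⟨k, hk, s, hs, e⟩ := h2
  refine ⟨k, hk, s * (c * g), ⟨G.mul_mem (hSG hs) (G.mul_mem (sup_le hKG hSG hc) hg),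
    Subgroup.mul_mem _ (Subgroup.le_normalizer hs) h1⟩, ?_⟩
  have e' : k * s = c⁻¹ := e
  rw [← mul_assoc, e', inv_mul_cancel_left]

theorem gl_conj_iff_pow {X : Type*} [Group X] [Finite X] {χ : X → ℂ} (hχ : IsCharacter X χ)
    {m : ℕ} (hm : Nat.card X ∣ m + 1) :
    gl (starRingEnd ℂ) χ = χ ↔ ∀ g, χ (g ^ m) = χ g := by
  have : ∀ g : X, g ^ m = g⁻¹ := fun g => eq_inv_of_mul_eq_one_left (by
    obtain ⟨c, hc⟩ := hm
    rw [← pow_succ, hc, pow_mul, pow_card_eq_one', one_pow])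
  simp only [this, hχ.apply_inv, funext_iff]

theorem exists_real_ext {L K : Subgroup Γ} (h : L ≤ K) (hK : K ≤ Nm L)
    (hodd : ¬ 2 ∣ L.relIndex K) {ν : L → ℂ} (hν : IsIrrCharacter L ν) (hinv : InvAll L K ν)
    (hr : gl (starRingEnd ℂ) ν = ν) :
    ∃ θ : K → ℂ, IsIrrCharacter K θ ∧ res h θ = ν ∧ gl (starRingEnd ℂ) θ = θ ∧
      ∀ ψ : K → ℂ, IsIrrCharacter K ψ → gl (starRingEnd ℂ) ψ = ψ → mult h ψ ν ≠ 0 → ψ = θ := by
  classical
  have := Fintype.ofFinite Γ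
  have := Subgroup.normal_subgroupOf_of_le_normalizer hK
  have hodd' : Odd (L.subgroupOf K).index := Nat.odd_iff.2 (Nat.two_dvd_ne_zero.1 hodd)
  obtain ⟨m, hm⟩ : ∃ m, Nat.card K = m + 1 := Nat.exists_eq_succ_of_ne_zero Nat.card_pos.ne'
  have hk : m.Coprime (Nat.card K) := by rw [hm]; simp
  have hkN : ∀ g : K, g ^ (m + 1) ∈ L.subgroupOf K := fun g => by
    rw [← hm, pow_card_eq_one']; exact Subgroup.one_mem _
  have hν' := isIrr_subgroupOf h hν
  obtain ⟨θ, hθ, h1, h2⟩ := exists_pow_fixed_ext_of_invariant hodd' hk hkN hν'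
    (inertia_sg_eq_top h hK hinv) ((gl_conj_iff_pow hν'.isCharacter
      (hm ▸ Subgroup.card_subgroup_dvd_card _)).1 (funext fun x => congrFun hr _))
  refine ⟨θ, hθ, funext fun x => h1 ⟨⟨x, h x.2⟩, x.2⟩,
    (gl_conj_iff_pow hθ.isCharacter (hm ▸ dvd_rfl)).2 h2, fun ψ hψ h3 h4 => ?_⟩
  refine pow_fixed_unique hodd' hk hkN hθ.isCharacter (by rw [funext h1]; exact hν') h2 hψ
    ((gl_conj_iff_pow hψ.isCharacter (hm ▸ dvd_rfl)).1 h3) ?_
  rw [funext h1, mult_sg h hψ.isCharacter hν.isCharacter]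
  exact Nat.cast_ne_zero.2 h4

theorem conj_iterate (z : ℂ) : (starRingEnd ℂ)^[2 ^ 1] z = z := by simp

theorem cnt_real_eq {L K G S : Subgroup Γ} (hLK : L ≤ K) (hKG : K ≤ G) (hGL : G ≤ Nm L)
    (hG : G ≤ Nm K) (hS : IsPGroup 2 S) (hSG : S ≤ G) (hSyl : ¬ 2 ∣ S.relIndex G)
    (hodd : ¬ 2 ∣ L.relIndex K) {ν : L → ℂ} (hν : IsIrrCharacter L ν) (hinv : InvAll L G ν)
    (hr : gl (starRingEnd ℂ) ν = ν) {θ : K → ℂ} (hθ : IsIrrCharacter K θ) (h1 : res hLK θ = ν)
    (h2 : gl (starRingEnd ℂ) θ = θ) :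
    cnt 2 (starRingEnd ℂ) (hLK.trans hKG) ν = cnt 2 (starRingEnd ℂ) hKG θ := by
  obtain ⟨θ', -, -, -, h3⟩ := exists_real_ext hLK (hKG.trans hGL) hodd hν (hinv.mono hKG) hr
  have h4 : mult hLK θ ν ≠ 0 := by rw [← h1, mult_res_self hLK (h1 ▸ hν)]; exact one_ne_zero
  refine Nat.card_congr (Equiv.subtypeEquivRight fun χ => ⟨fun h => ⟨h.1, h.2.1, ?_⟩,
    fun h => ⟨h.1, h.2.1, mult_trans_ne_zero hLK hKG χ.2.isCharacter hθ hν.isCharacter h.2.2 h4⟩⟩)
  obtain ⟨φ, hφ, h5, h6⟩ := exists_invAll_under hKG hG hS hSG χ.2 h.1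
  rwa [h3 θ hθ h2 h4, ← h3 φ hφ (gl_eq_of_invAll conj_iterate hKG hG hS hSG hSyl χ.2 h.2.1 hφ h6
    h5) (mult_of_invAll hLK hKG hGL hν hinv χ.2 h.2.2 hφ h6)]

theorem mcBase_real : McBase 2 (starRingEnd ℂ) Γ := by
  intro L K G S hLK hKG hGL hG hS hSG hSyl hodd hE ν hν hinv hr hLN
  obtain ⟨θ, hθ, h1, h2, h3⟩ := exists_real_ext hLK (hKG.trans hGL) hodd hν (hinv.mono hKG) hr
  have hθinv : InvAll K G θ := fun g hg => (invBy_iff_cjn (hG hg)).2 (h3 _ (isIrr_cjn _ hθ)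
    (funext fun x => congrFun h2 _) (by
      rw [← (invBy_iff_cjn (hGL hg)).1 (hinv g hg), mult_cjn, ← h1, mult_res_self hLK (h1 ▸ hν)]
      exact one_ne_zero))
  set N := G ⊓ Nm (L ⊔ S) with hN
  have hSN : S ≤ N := le_inf hSG (le_sup_right.trans Subgroup.le_normalizer)
  have hLC : L ≤ K ⊓ N := le_inf hLK hLN
  have hθC : IsIrrCharacter (K ⊓ N : Subgroup Γ) (res inf_le_left θ) :=
    irr_of_res_irr hLC (isCharacter_res _ hθ.isCharacter) (h1 ▸ hν)
  rw [cnt_real_eq hLK hKG hGL hG hS hSG hSyl hodd hν hinv hr hθ h1 h2,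
    cnt_res_eq hKG inf_le_left rfl inf_le_left inf_le_right hG (fun g hg => by
      obtain ⟨k, hk, n, hn, e⟩ := frattini_mul hKG hG hS hSG hSyl hE g hg
      exact ⟨k, hk, n, ⟨hn.1, Nm_inf_le_Nm_sup ⟨hGL hn.1, hn.2⟩⟩, e⟩) hθ hθC hθinv h2]
  exact (cnt_real_eq hLC inf_le_right (inf_le_left.trans hGL)
    (fun x hx => Nm_inf_le_Nm_inf ⟨hG hx.1, Subgroup.le_normalizer hx⟩) hS hSN
    (not_dvd_relIndex_of_le hSN inf_le_left hSyl) (not_dvd_relIndex_of_le hLC inf_le_left hodd) hν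
    (hinv.mono inf_le_left) hr hθC h1 (funext fun x => congrFun h2 _)).symm

end H32
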