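import Cfsg.Agent.Base
import Cfsg.Agent.H32.McD
import Cfsg.Agent.H32.McReal
import Cfsg.Agent.H28.CharProd

/-! Extensions over `p`-sections labelled by determinants. -/

set_option autoImplicit false

namespace H32

open Cfsg H28 H29 H33 H40
open scoped ComplexConjugate Pointwise

section det

variable {G : Type*} [Group G] [Finite G]

theorem detChar_rep {V : Type*} [AddCommGroup V] [Module ℂ V] [FiniteDimensional ℂ V]
    (ρ : Representation ℂ G V) : detChar ρ.character = fun g => LinearMap.det (ρ g) := by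
  obtain ⟨n, σ, h1, h2⟩ := exists_rep_detChar (isCharacter_rep ρ)
  obtain ⟨e⟩ := nonempty_equiv_of_character_eq σ ρ h1
  rw [h2]
  exact funext fun g => det_eq_of_equiv e g

theorem detChar_comp {H : Type*} [Group H] (i : G →* H) {χ : H → ℂ} (hχ : IsCharacter H χ)
    (g : G) : detChar (fun x => χ (i x)) g = detChar χ (i g) := by
  obtain ⟨n, σ, rfl, h2⟩ := exists_rep_detChar hχ
  rw [h2]
  exact congrFun (detChar_rep (MonoidHom.comp σ i)) g

theorem detChar_add {χ ψ : G → ℂ} (hχ : IsCharacter G χ) (hψ : IsCharacter G ψ) (g : G) :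
    detChar (χ + ψ) g = detChar χ g * detChar ψ g := by
  obtain ⟨n, ρ, rfl, h1⟩ := exists_rep_detChar hχ
  obtain ⟨m, σ, rfl, h2⟩ := exists_rep_detChar hψ
  rw [h1, h2, ← char_prod, detChar_rep]
  exact LinearMap.det_prodMap _ _

theorem detChar_nsmul {χ : G → ℂ} (hχ : IsCharacter G χ) (n : ℕ) (g : G) :
    detChar (((n + 1 : ℕ) : ℂ) • χ) g = detChar χ g ^ (n + 1) := by
  induction n with
  | zero => simp
  | succ n ih => rw [Nat.cast_succ, add_smul, one_smul, detChar_add (hχ.natCast_smul _) hχ, ih,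
      ← pow_succ]

/-- the determinant as a homomorphism -/
noncomputable def detH (χ : G → ℂ) : G →* ℂˣ := (exists_hom_detChar χ).choose

omit [Finite G] in
theorem detH_apply (χ : G → ℂ) (g : G) : (detH χ g : ℂ) = detChar χ g :=
  (congrFun (exists_hom_detChar χ).choose_spec g).symm

theorem detH_comp {H : Type*} [Group H] (i : G →* H) {χ : H → ℂ} (hχ : IsCharacter H χ)
    (g : G) : detH (fun x => χ (i x)) g = detH χ (i g) :=
  Units.ext (by rw [detH_apply, detH_apply, detChar_comp i hχ])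

theorem detH_nsmul {χ : G → ℂ} (hχ : IsCharacter G χ) {n : ℕ} (hn : n ≠ 0) (g : G) :
    detH ((n : ℂ) • χ) g = detH χ g ^ n := by
  obtain ⟨n, rfl⟩ := Nat.exists_eq_succ_of_ne_zero hn
  exact Units.ext (by rw [Units.val_pow_eq_pow_val, detH_apply, detH_apply, detChar_nsmul hχ])

end det

theorem eq_of_pow_eq_of_coprime {A : Type*} [CommGroup A] {a b : A} {n d : ℕ} (h : n.Coprime d)
    (ha : a ^ n = 1) (hb : b ^ n = 1) (e : a ^ d = b ^ d) : a = b := by
  have h1 : (a / b) ^ n.gcd d = 1 :=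
    pow_gcd_eq_one.2 ⟨by rw [div_pow, ha, hb, div_one], by rw [div_pow, e, div_self']⟩
  rwa [h, pow_one, div_eq_one] at h1

variable {Γ : Type*} [Group Γ] [Finite Γ] {p : ℕ} [hp : Fact p.Prime]

omit [Finite Γ] in
theorem relIndex_sup_Nm {E W : Subgroup Γ} (h : W ≤ Nm E) : E.relIndex (E ⊔ W) = E.relIndex W := by
  have := Subgroup.normal_subgroupOf_of_le_normalizer (sup_le Subgroup.le_normalizer h)
  rw [← Subgroup.relIndex_subgroupOf (le_refl (E ⊔ W)),
    Subgroup.subgroupOf_sup le_sup_left le_sup_right, Subgroup.relIndex_sup_left,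
    Subgroup.relIndex_subgroupOf le_sup_right]

theorem relIndex_sup_Nm' {E W : Subgroup Γ} (h : W ≤ Nm E) :
    W.relIndex (E ⊔ W) = W.relIndex E := by
  have e1 := Subgroup.relIndex_mul_relIndex (W ⊓ E) W (E ⊔ W) inf_le_left le_sup_right
  have e2 := Subgroup.relIndex_mul_relIndex (W ⊓ E) E (E ⊔ W) inf_le_right le_sup_left
  rw [Subgroup.inf_relIndex_left] at e1
  rw [Subgroup.inf_relIndex_right, relIndex_sup_Nm h, ← e1, mul_comm] at e2
  exact (Nat.eq_of_mul_eq_mul_left (Nat.pos_of_ne_zero Subgroup.index_ne_zero_of_finite) e2).symm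

theorem coprime_of_pGroup {P : Subgroup Γ} (hP : IsPGroup p P) {d : ℕ} (hd : ¬ p ∣ d) :
    (Nat.card P).Coprime d := by
  obtain ⟨k, hk⟩ := hP.exists_card_eq
  rw [hk]
  exact ((Nat.Prime.coprime_iff_not_dvd hp.out).2 hd).pow_left k

/-- `μ` is the root of the determinant of `η` on `P` -/
def DetOn {P E : Subgroup Γ} (h : P ≤ E) (η : E → ℂ) (μ : P →* ℂˣ) : Prop :=
  ∀ x : P, μ x ^ charDegree η = detH η ⟨x, h x.2⟩

theorem exists_detOn {P E : Subgroup Γ} (hP : IsPGroup p P) (h : P ≤ E) {η : E → ℂ}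
    (hd : ¬ p ∣ charDegree η) : ∃ μ, DetOn h η μ := by
  let δ := (detH η).comp (Subgroup.inclusion h)
  have h1 : orderOf δ ∣ Nat.card P := orderOf_dvd_of_pow_eq_one (MonoidHom.ext fun x => by
    rw [MonoidHom.pow_apply, ← map_pow, pow_card_eq_one', map_one, MonoidHom.one_apply])
  obtain ⟨m, hm⟩ := exists_pow_eq_self_of_coprime
    ((coprime_of_pGroup hP hd).symm.coprime_dvd_right h1)
  refine ⟨δ ^ m, fun x => ?_⟩
  rw [← pow_mul, mul_comm, pow_mul] at hm
  exact DFunLike.congr_fun hm x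

theorem DetOn.unique {P E : Subgroup Γ} (hP : IsPGroup p P) {h : P ≤ E} {η : E → ℂ}
    (hd : ¬ p ∣ charDegree η) {μ μ' : P →* ℂˣ} (h1 : DetOn h η μ) (h2 : DetOn h η μ') : μ = μ' :=
  MonoidHom.ext fun x => eq_of_pow_eq_of_coprime (coprime_of_pGroup hP hd)
    (by rw [← map_pow, pow_card_eq_one', map_one]) (by rw [← map_pow, pow_card_eq_one', map_one])
    ((h1 x).trans (h2 x).symm)

theorem DetOn.cjn {P E : Subgroup Γ} {h : P ≤ E} {η : E → ℂ} (hη : IsCharacter E η)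
    {μ : P →* ℂˣ} (h1 : DetOn h η μ) {m : Γ} (hE : m ∈ Nm E) (hP : m ∈ Nm P) :
    DetOn h (cjn hE η) (μ.comp (P.normalizerMonoidHom ⟨m, hP⟩).toMonoidHom) := fun x => by
  rw [charDegree_cjn, cjn_eq_comp]
  exact (h1 _).trans (detH_comp (E.normalizerMonoidHom ⟨m, hE⟩).toMonoidHom hη ⟨x, h x.2⟩).symm

/-- `E = K P` with `K / L` of order prime to `p`. -/
structure PPair (p : ℕ) (P L K E : Subgroup Γ) : Prop where
  pG : IsPGroup p P
  LK : L ≤ K
  KE : K ≤ E
  PE : P ≤ E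
  sup : E = K ⊔ P
  PK : P ≤ Nm K
  KL : E ≤ Nm L
  cop : ¬ p ∣ L.relIndex K

namespace PPair

variable {P L K E : Subgroup Γ} (H : PPair p P L K E)
include H

omit [Finite Γ] hp in
theorem EK : E ≤ Nm K := H.sup ▸ sup_le Subgroup.le_normalizer H.PK

theorem coprime_relIndex {d : ℕ} (hd : ¬ p ∣ d) : (K.relIndex E).Coprime d := by
  rw [H.sup, relIndex_sup_Nm H.PK]
  exact (coprime_of_pGroup H.pG hd).coprime_dvd_left (Subgroup.relIndex_dvd_card _ _)

theorem mem_of_mem {x : Γ} (h1 : x ∈ K) (h2 : x ∈ P) : x ∈ L := by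
  refine mem_of_pow_mem_of_coprime (coprime_of_pGroup H.pG H.cop) ?_
    (pow_relIndex_mem' (H.KE.trans H.KL) h1)
  have : x ^ Nat.card P = 1 := congrArg Subtype.val (pow_card_eq_one' (x := (⟨x, h2⟩ : P)))
  rw [this]; exact L.one_mem

theorem res_irr {η : E → ℂ} (hη : IsIrrCharacter E η) (hd : ¬ p ∣ charDegree η) :
    IsIrrCharacter K (res H.KE η) := by
  have := Subgroup.normal_subgroupOf_of_le_normalizer H.EK
  have := Fintype.ofFinite (K.subgroupOf E)
  exact (isIrrCharacter_res_of_coprime (N := K.subgroupOf E) hη hη.cast_charDegree.symm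
    (H.coprime_relIndex hd).symm).comp_mulEquiv (Subgroup.subgroupOfEquivOfLe H.KE).symm

theorem ext_unique {η η' : E → ℂ} (hη : IsIrrCharacter E η) (hη' : IsIrrCharacter E η')
    (hd : ¬ p ∣ charDegree η) (e : res H.KE η' = res H.KE η) {μ : P →* ℂˣ}
    (h1 : DetOn H.PE η μ) (h2 : DetOn H.PE η' μ) : η' = η := by
  have := Subgroup.normal_subgroupOf_of_le_normalizer H.EK
  have hr := H.res_irr hη hd
  have hdeg : charDegree η' = charDegree η :=
    charDegree_eq ((congrFun e 1).trans hη.cast_charDegree.symm)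
  refine ext_unique_of_detChar_eq (isIrr_subgroupOf H.KE hr) hη.cast_charDegree.symm
    (H.coprime_relIndex hd) hη hη' (fun _ => rfl) (fun n => congrFun e ⟨_, n.2⟩) (funext fun y => ?_)
  obtain ⟨k, hk, x, hx, e'⟩ := exists_mul_of_mem_sup H.PK (H.sup.le y.2)
  have h3 : y = Subgroup.inclusion H.KE ⟨k, hk⟩ * ⟨x, H.PE hx⟩ := Subtype.ext e'
  rw [← detH_apply, ← detH_apply, h3, map_mul, map_mul, ← h1 ⟨x, hx⟩, ← h2 ⟨x, hx⟩, hdeg,
    ← detH_comp _ hη.isCharacter, ← detH_comp _ hη'.isCharacter]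
  exact congrArg (fun φ : K → ℂ => ((detH φ ⟨k, hk⟩ * _ : ℂˣ) : ℂ)) e

theorem exists_ext {θ : K → ℂ} (hθ : IsIrrCharacter K θ) (hi : InvAll K P θ)
    (hd : ¬ p ∣ charDegree θ) (μ : P →* ℂˣ)
    (hμ : ∀ (x : Γ) (h1 : x ∈ K) (h2 : x ∈ P), detH θ ⟨x, h1⟩ = μ ⟨x, h2⟩ ^ charDegree θ) :
    ∃ η : E → ℂ, IsIrrCharacter E η ∧ res H.KE η = θ ∧ DetOn H.PE η μ := by
  have := Subgroup.normal_subgroupOf_of_le_normalizer H.EK
  obtain ⟨F, hF1, hF2⟩ := exists_hom_sup H.sup H.KE H.PE H.PK (detH θ) (μ ^ charDegree θ)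
    (fun d hd k k' e => by
      have h1 := detH_comp (K.normalizerMonoidHom ⟨d, H.PK hd⟩).toMonoidHom hθ.isCharacter k
      have h2 : k' = (K.normalizerMonoidHom ⟨d, H.PK hd⟩).toMonoidHom k := Subtype.ext e
      rw [h2, ← h1]
      exact congrArg (fun φ : K → ℂ => detH φ k) ((invBy_iff_cjn (H.PK hd)).1 (hi d hd))) hμ
  have hiE : InvAll K E θ :=
    H.sup ▸ (invAll_self hθ.isClassFunction).sup Subgroup.le_normalizer H.PK hi
  have h1 := isIrr_subgroupOf H.KE hθ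
  have h2 : ∀ n : K.subgroupOf E, (F n : ℂ) = detChar (sg E θ) n := fun n => by
    rw [← detH_apply]
    exact congrArg _ ((hF1 ⟨_, n.2⟩).trans
      (detH_comp (Subgroup.subgroupOfEquivOfLe H.KE).toMonoidHom hθ.isCharacter n).symm)
  obtain ⟨η₀, h3, h4⟩ := exists_ext_of_det h1
    (inertia_eq_top_iff.1 (inertia_sg_eq_top H.KE H.EK hiE)) hθ.cast_charDegree.symm
    (H.coprime_relIndex hd) F h2
  obtain ⟨η, h5, h6, h7⟩ := exists_ext_detChar_eq h1 hθ.cast_charDegree.symm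
    (H.coprime_relIndex hd) h3 h4 F h2
  have h8 : res H.KE η = θ := funext fun k => h6 ⟨⟨k, H.KE k.2⟩, k.2⟩
  refine ⟨η, h5, h8, fun x => Units.ext ?_⟩
  have h9 : charDegree η = charDegree θ :=
    charDegree_eq ((congrFun h8 1).trans hθ.cast_charDegree.symm)
  rw [detH_apply, h7, h9]
  exact congrArg _ (hF2 x).symm

variable {ν : L → ℂ} (hν : IsIrrCharacter L ν) (hi : InvAll L E ν)
include hν hi

omit hp in
theorem det_spec {θ : K → ℂ} (hθ : IsIrrCharacter K θ) (h0 : mult H.LK θ ν ≠ 0) :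
    ∃ e : ℕ, ¬ p ∣ e ∧ charDegree θ = e * charDegree ν ∧
      ∀ x : L, detH θ ⟨x, H.LK x.2⟩ = detH ν x ^ e := by
  have h1 := res_eq_smul_of_invAll H.LK (H.KE.trans H.KL) hν (hi.mono H.KE) hθ h0
  refine ⟨mult H.LK θ ν, fun h => H.cop (h.trans
    (mult_dvd_relIndex H.LK (H.KE.trans H.KL) hν hθ h0)), charDegree_eq ?_, fun x => ?_⟩
  · rw [Nat.cast_mul, hν.cast_charDegree]
    exact congrFun h1 1
  · rw [← detH_nsmul hν.isCharacter h0, ← h1]
    exact (detH_comp (Subgroup.inclusion H.LK) hθ.isCharacter x).symm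

theorem transfer {K' E' : Subgroup Γ} (H' : PPair p P L K' E') (hi' : InvAll L E' ν)
    {η : E → ℂ} (hη : IsIrrCharacter E η) (hd : ¬ p ∣ charDegree η)
    (h0 : mult (H.LK.trans H.KE) η ν ≠ 0) {θ' : K' → ℂ} (hθ' : IsIrrCharacter K' θ')
    (hθi : InvAll K' P θ') (h0' : mult H'.LK θ' ν ≠ 0) :
    ∃ η' : E' → ℂ, IsIrrCharacter E' η' ∧ ¬ p ∣ charDegree η' ∧ res H'.KE η' = θ' ∧
      ∃ μ, DetOn H.PE η μ ∧ DetOn H'.PE η' μ := by
  obtain ⟨μ, hμ⟩ := exists_detOn H.pG H.PE hd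
  obtain ⟨e, h1, h2, h3⟩ := H.det_spec hν hi (H.res_irr hη hd) h0
  obtain ⟨e', h1', h2', h3'⟩ := H'.det_spec hν hi' hθ' h0'
  have h4 : charDegree η = e * charDegree ν := h2
  have hd' : ¬ p ∣ charDegree θ' := fun h => by
    rw [h2'] at h
    exact (hp.out.dvd_mul.1 h).elim h1' fun h => hd (h4 ▸ h.mul_left _)
  obtain ⟨η', h5, h6, h7⟩ := H'.exists_ext hθ' hθi hd' μ fun x hx hx' => by
    have hL := H'.mem_of_mem hx hx'
    have h5 : μ ⟨x, hx'⟩ ^ charDegree ν = detH ν ⟨x, hL⟩ := by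
      refine eq_of_pow_eq_of_coprime (coprime_of_pGroup H.pG h1) ?_ ?_ ?_
      · rw [pow_right_comm, ← map_pow, pow_card_eq_one', map_one, one_pow]
      · have : (⟨x, hL⟩ : L) ^ Nat.card P = 1 :=
          Subtype.ext (congrArg (Subtype.val : P → Γ) (pow_card_eq_one' (x := ⟨x, hx'⟩)))
        rw [← map_pow, this, map_one]
      · rw [← pow_mul, mul_comm, ← h4, hμ, ← h3]
        exact (detH_comp (Subgroup.inclusion H.KE) hη.isCharacter ⟨x, H.LK hL⟩).symm
    rw [h3' ⟨x, hL⟩, h2', mul_comm, pow_mul, h5]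
  refine ⟨η', h5, ?_, h6, μ, hμ, h7⟩
  rw [← h6] at hd'
  exact hd'

end PPair

/-- Extendibility of an extension over a `p`-section is decided on a complement. -/
theorem ext_iff_ext_compl {K E W U : Subgroup Γ} (hKE : K ≤ E) (hEU : E ≤ U) (hKW : K ≤ W)
    (hU : U = E ⊔ W) (hUK : U ≤ Nm K) (hUE : U ≤ Nm E) (h1 : ¬ p ∣ E.relIndex U)
    (h2 : ∀ {d : ℕ}, ¬ p ∣ d → (K.relIndex E).Coprime d) {η : E → ℂ} (hη : IsCharacter E η)
    (hr : IsIrrCharacter K (res hKE η)) (hi : InvAll E U η) :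
    Ext hEU η ↔ Ext hKW (res hKE η) := by
  have hWU : W ≤ U := hU ▸ le_sup_right
  refine ⟨fun h => (h.of_res hKE).mono hKW hWU, ?_⟩
  rintro ⟨ψ, hψ, hψ'⟩
  have := Subgroup.normal_subgroupOf_of_le_normalizer hUK
  have := Subgroup.normal_subgroupOf_of_le_normalizer hUE
  obtain ⟨χ, hχ, hχ'⟩ := exists_ext_of_forall_prime (isIrr_subgroupOf (hKE.trans hEU) hr)
    (inertia_eq_top_iff.1 (inertia_sg_eq_top (hKE.trans hEU) hUK fun x hx => (hi x hx).res hKE))
    fun q hq _ => by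
      by_cases e : q = p
      · subst e
        exact ⟨E.subgroupOf U, fun x hx => hKE hx, sg U η, h1,
          hη.comp (Subgroup.subgroupOfEquivOfLe hEU).toMonoidHom, fun _ => rfl⟩
      · refine ⟨W.subgroupOf U, fun x hx => hKW hx, sg U ψ, fun h => ?_,
          hψ.comp (Subgroup.subgroupOfEquivOfLe hWU).toMonoidHom, fun n => congrFun hψ' ⟨_, n.2⟩⟩
        have h3 : W.relIndex U = W.relIndex E := by rw [hU, relIndex_sup_Nm' (hWU.trans hUE)]
        have h4 : q ∣ K.relIndex E :=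
          (h3 ▸ h : q ∣ W.relIndex E).trans (Subgroup.relIndex_dvd_of_le_left E hKW)
        exact hq.ne_one ((Nat.coprime_self _).1 ((h2 (d := q) fun h5 =>
          e ((Nat.prime_dvd_prime_iff_eq hp.out hq).1 h5).symm).coprime_dvd_left h4))
  have := Fintype.ofFinite K
  have hEK : E ≤ Nm K := hEU.trans hUK
  obtain ⟨lam, h3, h4⟩ := exists_linear_of_ext (Subgroup.inclusion hKE)
    (Subgroup.inclusion_injective hKE) (normal_inclusion_range hKE hEK) hη
    (isCharacter_res hEU hχ.isCharacter) hr fun k => hχ' ⟨⟨k, hEU (hKE k.2)⟩, k.2⟩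
  have := Subgroup.normal_subgroupOf_of_le_normalizer hEK
  let e := Subgroup.subgroupOfEquivOfLe hEU
  obtain ⟨F, hF, -⟩ := exists_hom_ext_orderOf_eq (N := E.subgroupOf U) (lam.comp e.toMonoidHom)
    (fun g n => by
      let c := (E.normalizerMonoidHom ⟨g, hUE g.2⟩).toMonoidHom
      have h5 := hom_eq_one_of_res_irr hKE hEK hη hr (f := lam.comp c / lam) (fun k => by
        have h6 := h3 ⟨_, (Subgroup.mem_normalizer_iff.1 (hUK g.2) k).1 k.2⟩
        exact div_eq_one.2 (h6.trans (h3 k).symm)) fun y => by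
        have h6 := h4 (c y)
        rw [hi g g.2 y (c y) rfl,
          invAll_res hEU hχ.isClassFunction g g.2 y (c y) rfl, h4 y] at h6
        rw [MonoidHom.div_apply, Units.val_div_eq_div_val, div_mul_eq_mul_div,
          MonoidHom.comp_apply, ← h6, mul_div_cancel_left₀ _ (Units.ne_zero _)]
      exact div_eq_one.1 (DFunLike.congr_fun h5 (e n)))
    (((h2 h1).coprime_dvd_left (orderOf_dvd_of_pow_eq_one (MonoidHom.ext fun x =>
      DFunLike.congr_fun (hom_pow_index_eq_one (N := K.subgroupOf E) (f := lam)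
        fun n hn => h3 ⟨n, hn⟩) (e x)))).symm)
  refine ⟨_, (isIrr_hom_mul F⁻¹ hχ).isCharacter, funext fun x => ?_⟩
  have h5 : F ⟨x, hEU x.2⟩ = lam x := hF ⟨⟨x, hEU x.2⟩, x.2⟩
  change ((F ⟨x, hEU x.2⟩)⁻¹ : ℂˣ) * res hEU χ x = η x
  rw [h4, h5, ← mul_assoc, ← Units.val_mul, inv_mul_cancel, Units.val_one, one_mul]

end H32
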