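/- CKS (S2193): tables for the minimal degree of `F₄(2)`. -/
import Cfsg.Agent.H64.SFBasic

set_option autoImplicit false

namespace H32.CKX
open H64.SF
open H46.SF (sh)

abbrev E := Bool × Bool × Bool × Bool × Bool × Bool

def val (e : E) : ℕ → Bool
  | 29 => e.1 | 36 => e.2.1 | 38 => e.2.2.1 | 39 => e.2.2.2.1 | 40 => e.2.2.2.2.1
  | 44 => e.2.2.2.2.2 | _ => true

def mk (f : ℕ → Bool) : E := (f 29, f 36, f 38, f 39, f 40, f 44)

/-- `x_s x_v x_s⁻¹` as a product of root elements. -/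
def cl : ℕ → ℕ → List ℕ
  | 14, 36 => [29, 36] | 14, 44 => [40, 44] | 20, 38 => [36, 38] | 20, 40 => [39, 40]
  | 22, 39 => [39, 38, 47] | 25, 38 => [38, 39, 47] | 27, 36 => [38, 36] | 27, 39 => [40, 39]
  | 33, 29 => [36, 29] | 33, 40 => [44, 40] | _, v => [v]

def sm (e : E) (l : List ℕ) : Bool := l.foldr (fun u b => xor (val e u) b) false

def mv (e : E) (s : ℕ) : E := mk fun v => sm e (cl s v)

def gens : List ℕ := [14, 20, 22, 25, 27, 33]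

def walk : List ℕ := [14, 33, 27, 20, 14, 33, 27, 20, 14, 33, 27, 20, 14, 27, 33, 20, 14, 33, 27, 20,
  14, 33, 27, 20, 14, 33, 27, 22, 25, 33, 27, 20, 22, 33, 14, 25, 27, 20, 22, 20, 14, 20, 33, 25, 27,
  22, 20, 14, 27, 25, 33, 14, 27, 20, 27, 20, 14, 33, 20, 27, 20, 27, 33, 14, 22, 33, 20, 27, 25, 33,
  14, 20, 14, 22, 20, 33, 27, 25, 14, 22, 33, 14, 33, 20, 33, 27, 14, 25, 20, 22, 33, 14, 20, 27, 25,
  22, 14, 33, 27, 25, 27, 25, 20, 22, 14, 20, 33, 20, 27, 20, 25, 22, 20, 22, 20, 27, 25, 14, 33, 27,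
  33, 20, 25, 22, 20, 22, 20, 33, 27, 25]

theorem big : ∀ e : E, 28 ≤ (walk.scanl mv e).dedup.length := by decide +kernel

theorem lV_eq : lV 47 = [29, 36, 38, 39, 40, 44, 47] := by decide +kernel

theorem cl_spec : ∀ s ∈ gens, ∀ v ∈ lV 47, s < 48 ∧ v < 48 ∧ (∀ t ∈ cl s v, t ∈ lV 47) ∧
    (0 ≤ ip s v ∧ cl s v = [v] ∨ (sh s = sh v ∧ ip s v < 0 ∧ v ≠ 47 - s) ∧ cl s v = [ad s v, v] ∨
      (S v ∧ L s ∧ ip v s < 0) ∧ cl s v = [v, ad v s, ad v (ad v s)]) := by decide +kernel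

theorem val_mv : ∀ e : E, ∀ s ∈ gens, ∀ v ∈ lV 47, val (mv e s) v = sm e (cl s v) := by
  decide +kernel

set_option synthInstance.maxSize 4000 in
theorem deg : ∀ a < 25, ∀ b < 7, ∀ c < 3, ∀ d < 3, ∀ e < 2, ∀ f < 2,
    ∀ n ∈ [2 ^ a * 3 ^ b * 5 ^ c * 7 ^ d * 13 ^ e * 17 ^ f], n * (n - 1) ∣ 3311126603366400 →
      2 ∣ n → 448 ≤ n → n = 2 ^ 12 := by decide +kernel

end H32.CKX
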