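/- CKS (S2193): in a doubly transitive action of `F₄(2)` of even degree root elements fix no point. -/
import Cfsg.Agent.H32.CKX4a
import Cfsg.Agent.H32.CKX4b
import Cfsg.Agent.H63.SFFR
import Cfsg.Agent.S1062

set_option autoImplicit false
set_option linter.unusedSectionVars false

namespace H32.CKX
open Subgroup MulAction H32.CK Cfsg Cfsg.Lie H64.SF
open H86.WR (XF US UF4)
open H46.SF (sh)
open scoped commutatorElement

open Classical in
noncomputable def bt (u : ℂˣ) : Bool := decide (u ≠ 1)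

theorem bt_mul {u v : ℂˣ} (hu : u * u = 1) (hv : v * v = 1) : bt (u * v) = xor (bt u) (bt v) := by
  have k : ∀ {u : ℂˣ}, u * u = 1 → u = 1 ∨ u = -1 := fun h =>
    (mul_self_eq_one_iff.1 (congrArg Units.val h)).imp Units.ext Units.ext
  have : (-1 : ℂˣ) ≠ 1 := fun h => by
    have := congrArg Units.val h
    norm_num at this
  rcases k hu with rfl | rfl <;> rcases k hv with rfl | rfl <;> simp [bt, this]

variable {F : Type} [Field F] [Fintype F] [CharP F 2] {Ω : Type} [MulAction (XF F) Ω] [Finite Ω]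

omit [CharP F 2] in
theorem z01 (hq : Fintype.card F = 2) (a : F) : a = 0 ∨ a = 1 := by
  have h := FiniteField.pow_card a
  rw [hq] at h
  exact (mul_eq_zero.1 (by linear_combination h : a * (a - 1) = 0)).imp_right sub_eq_zero.1

omit [CharP F 2] in
theorem char_two (hq : Fintype.card F = 2) : CharP F 2 :=
  CharTwo.of_one_ne_zero_of_two_eq_zero one_ne_zero
    (by simpa [hq] using FiniteField.cast_card_eq_zero F)

theorem lt48 {u : ℕ} (h : u ∈ lV 47) : u < 48 := (cl_spec 14 (by decide) u h).2.1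

theorem conj_x {s v : ℕ} (hs : s ∈ gens) (hv : v ∈ lV 47) :
    x F s 1 * x F v 1 * (x F s 1)⁻¹ = ((cl s v).map (x F · 1)).prod := by
  obtain ⟨h1, h2, -, ⟨a, e⟩ | ⟨⟨a, b, c⟩, e⟩ | ⟨⟨a, b, c⟩, e⟩⟩ := cl_spec s hs v hv <;> rw [e]
  · simp [x_c0 h1 h2 a]
  · simpa [mul_inv_eq_iff_eq_mul (b := x F v 1)] using x_c1 h1 h2 a b c (1 : F) 1
  · have := x_c2 a b c (1 : F) 1
    simp only [List.map, List.prod_cons, List.prod_nil, mul_one, one_pow] at this ⊢
    rw [← this, H67.SA.cm, ← mul_assoc, ← mul_assoc, ← mul_assoc, x_sq h2, one_mul, x_inv h2]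

variable (F Ω) in
/-- The pattern `e` comes from a character of `V` that occurs in the permutation module. -/
def Good (e : E) : Prop := ∃ (w : Ω) (lam : V F 47 →* ℂˣ), (∀ v : V F 47, v.1 • w = w → lam v = 1) ∧
  ∀ u (h : u ∈ lV 47), bt (lam ⟨x F u 1, x_mem h (lt48 h) 1⟩) = val e u

theorem Good.mv (hq : Fintype.card F = 2) {e : E} (h : Good F Ω e) {s : ℕ} (hs : s ∈ gens) :
    Good F Ω (mv e s) := by
  obtain ⟨w, lam, h1, h2⟩ := h
  have key : ∀ l : List ℕ, (∀ t ∈ l, t ∈ lV 47) → ∃ h : (l.map (x F · 1)).prod ∈ V F 47,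
      lam ⟨_, h⟩ * lam ⟨_, h⟩ = 1 ∧ bt (lam ⟨_, h⟩) = sm e l := fun l => by
    induction l with
    | nil => exact fun _ => ⟨one_mem _, by simp [show ∀ h, (⟨1, h⟩ : V F 47) = 1 from fun _ => rfl, bt, sm]⟩
    | cons t l ih =>
      intro h
      obtain ⟨a, b, c⟩ := ih fun u hu => h u (List.mem_cons_of_mem _ hu)
      have ht := h t List.mem_cons_self
      have m := x_mem (F := F) ht (lt48 ht) 1
      have d : lam ⟨_, m⟩ * lam ⟨_, m⟩ = 1 := by
        rw [← map_mul, ← map_one lam]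
        exact congrArg lam (Subtype.ext (x_sq (lt48 ht) 1))
      have k : lam ⟨_, mul_mem m a⟩ = lam ⟨_, m⟩ * lam ⟨_, a⟩ := map_mul lam ⟨_, m⟩ ⟨_, a⟩
      refine ⟨mul_mem m a, ?_, ?_⟩
      · erw [k]
        rw [mul_mul_mul_comm, b, d, mul_one]
      · erw [k]
        rw [bt_mul d b, h2 t ht, c]
        rfl
  have nm : V F 47 ≤ (V F 47).comap (MulAut.conj (x F s 1)).toMonoidHom := US_le fun r hr h a => by
    rcases z01 hq a with rfl | rfl
    · rw [x_zero h]
      exact one_mem _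
    · change x F s 1 * x F r 1 * (x F s 1)⁻¹ ∈ V F 47
      rw [conj_x hs hr]
      exact (key _ (cl_spec s hs r hr).2.2.1).1
  refine ⟨(x F s 1)⁻¹ • w, lam.comp (((MulAut.conj (x F s 1)).toMonoidHom.comp
    (V F 47).subtype).codRestrict _ fun v => nm v.2), fun v hv => h1 _ ?_, fun u hu => ?_⟩
  · change (x F s 1 * v.1 * (x F s 1)⁻¹) • w = w
    rw [mul_smul, mul_smul, hv, smul_inv_smul]
  · rw [val_mv e s hs u hu, ← (key _ (cl_spec s hs u hu).2.2.1).2.2]
    exact congrArg (fun t => bt (lam t)) (Subtype.ext (conj_x hs hu))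

omit [Finite Ω] in
theorem orb (hq : Fintype.card F = 2) {w : Ω} (hw : x F 47 1 • w ≠ w) :
    16 * (stabilizer (XF F) w).relIndex (V F 47) ≤ (stabilizer (XF F) w).relIndex (Q F 47) := by
  obtain ⟨-, -, -, k1, k2, k3⟩ := H63.SFR.six (F := F) (r := 47) (by decide)
  have cF : Nat.card F = 2 := Nat.card_eq_fintype_card.trans hq
  have cV : Nat.card (V F 47) = 2 ^ 7 := by
    have := H86.F4.Nm.card (stB (F := F)) (T := lV 47) (by decide +kernel) (by decide +kernel)
    rwa [cF, lV_eq, ← lV_eq] at this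
  have VQ : V F 47 ≤ Q F 47 := US_mono (by decide +kernel)
  have cen : ∀ z ∈ V F 47, ∀ y ∈ Q F 47, y * z = z * y := fun z hz => k2.ge hz
  have mZ : ∀ z ∈ Z F 47, z = 1 ∨ z = x F 47 1 := fun z hz => by
    obtain ⟨c, rfl⟩ := (mem_Z (by decide)).1 hz
    rcases z01 hq c with rfl | rfl
    exacts [.inl (x_zero (by decide)), .inr rfl]
  have cm : ∀ a ∈ Q F 47, ∀ b ∈ Q F 47, ⁅a, b⁆ ∈ Z F 47 := fun a ha b hb =>
    k1 ▸ commutator_mem_commutator ha hb
  set K := stabilizer (XF F) w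
  have le : K ⊓ Q F 47 ⊔ V F 47 ≤ Q F 47 := sup_le inf_le_right VQ
  have c1 : K ⊓ Q F 47 ⊔ V F 47 ≤ centralizer ((K ⊓ Q F 47 ⊔ V F 47 : Subgroup _) : Set (XF F)) := by
    refine sup_le (le_centralizer_iff.2 (sup_le (fun a ha b hb => ?_) fun a ha b hb =>
      cen a ha b hb.2)) fun a ha b hb => cen a ha b (le hb)
    refine commutatorElement_eq_one_iff_mul_comm.1 ((mZ _ (cm b hb.2 a ha.2)).resolve_right fun e => ?_)
    exact hw (e ▸ K.mul_mem (K.mul_mem (K.mul_mem hb.1 ha.1) (K.inv_mem hb.1)) (K.inv_mem ha.1))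
  have b := ab_bound (Z := Z F 47) (US_mono (by decide +kernel)) cen cm (fun a ha h z hz => by
    by_contra! c
    refine h (k2.le fun y hy => (commutatorElement_eq_one_iff_mul_comm.1 ?_).symm)
    rcases mZ z hz with rfl | rfl
    · exact absurd (commutatorElement_one_right a) (c 1 (one_mem _))
    · exact (mZ _ (cm a ha y hy)).resolve_right (c y hy)) le_sup_right le
    (fun a ha b hb => c1 hb a ha) ((one_lt_card_iff_ne_bot _).2 fun e =>
      one_ne_zero ((x_eq_one (F := F) (r := 47) (by decide)).1 (mem_bot.1 (e.le (x_mem (by simp)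
        (by decide) 1)))))
  have e1 := relIndex_mul_relIndex (K ⊓ Q F 47) _ _ le_sup_left le
  have e2 := ((K ⊓ Q F 47 ⊔ V F 47).subgroupOf (Q F 47)).card_mul_index
  rw [Nat.card_congr (subgroupOfEquivOfLe le).toEquiv, k3, cF] at e2
  rw [k3, cF, cV] at b
  rw [inf_relIndex_right] at e1
  rw [← e1, mul_comm]
  refine Nat.mul_le_mul ((relIndex_le_of_le_right le_sup_right index_ne_zero_of_finite).trans
    (relIndex_le_of_le_left inf_le_left index_ne_zero_of_finite)) ?_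
  have := (Nat.pow_le_pow_iff_left two_ne_zero).1 (b.trans_eq (by norm_num : _ = (2 ^ 11) ^ 2))
  change _ * relIndex _ _ = _ at e2
  nlinarith

theorem min_deg (hq : Fintype.card F = 2) {w : Ω} (hw : x F 47 1 • w ≠ w) : 448 ≤ Nat.card Ω := by
  classical
  have cen : ∀ y ∈ Q F 47, ∀ z ∈ V F 47, y * z = z * y := fun y hy z hz =>
    (H63.SFR.six (F := F) (r := 47) (by decide)).2.2.2.2.1.ge hz y hy
  haveI : IsMulCommutative (V F 47) := ⟨⟨fun a b => Subtype.ext
    (cen _ (US_mono (by decide +kernel) a.2) _ b.2)⟩⟩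
  have m : 47 ∈ lV 47 := by decide +kernel
  obtain ⟨e, he⟩ : ∃ e, Good F Ω e := by
    letI : CommGroup (V F 47) := { (inferInstance : Group (V F 47)) with mul_comm := mul_comm' }
    haveI : NeZero (Monoid.exponent (V F 47)) := ⟨Monoid.exponent_ne_zero_of_finite⟩
    have := (CommGroup.forall_monoidHom_apply_eq_one_iff ℂ ((stabilizer _ w).subgroupOf (V F 47))
      ⟨x F 47 1, x_mem m (by decide) 1⟩).not.2 hw
    push Not at this
    obtain ⟨lam, h1, h2⟩ := this
    refine ⟨mk fun u => if h : u ∈ lV 47 then bt (lam ⟨x F u 1, x_mem h (lt48 h) 1⟩) else true, w, lam,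
      h1, fun u hu => ?_⟩
    have k := hu
    simp only [lV_eq, List.mem_cons, List.not_mem_nil, or_false] at k
    rcases k with rfl | rfl | rfl | rfl | rfl | rfl | rfl
    iterate 6 exact (dif_pos (c := _ ∈ lV 47) hu : dite _
      (fun h => bt (lam ⟨x F _ 1, x_mem h (lt48 h) 1⟩)) (fun _ => true) = _).symm
    exact decide_eq_true h2
  have all : ∀ (l : List ℕ) e, (∀ s ∈ l, s ∈ gens) → Good F Ω e → ∀ f ∈ l.scanl mv e, Good F Ω f := by
    intro l
    induction l with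
    | nil => simp
    | cons s l ih =>
      intro e h1 h2 f hf
      rw [List.scanl_cons, List.mem_cons] at hf
      exact hf.elim (· ▸ h2) (ih _ (fun t ht => h1 t (List.mem_cons_of_mem _ ht))
        (h2.mv hq (h1 s List.mem_cons_self)) f)
  have := fun f : (walk.scanl mv e).toFinset => all walk e (by decide +kernel) he f (List.mem_toFinset.1 f.2)
  choose pt lam h1 h2 using this
  have b := deg_bound cen Finset.univ lam (fun f _ g _ k => Subtype.ext (by
    have : ∀ u ∈ lV 47, val f u = val g u := fun u hu => by rw [← h2 f u hu, ← h2 g u hu, k]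
    simp only [lV_eq, List.forall_mem_cons] at this
    exact Prod.ext this.1 (Prod.ext this.2.1 (Prod.ext this.2.2.1 (Prod.ext this.2.2.2.1
      (Prod.ext this.2.2.2.2.1 this.2.2.2.2.2.1)))))) pt (fun f _ => h1 f) fun f _ => orb hq fun k => by
    have := h2 f 47 m
    rw [h1 f _ k] at this
    exact of_decide_eq_true this rfl
  rw [Finset.card_univ, Fintype.card_coe, List.card_toFinset] at b
  have := big e
  omega

theorem xf4A (F : Type) [Field F] [Fintype F] (hq : Fintype.card F = 2) (Ω : Type)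
    [MulAction (chevF4.group F) Ω] [Finite Ω] (h : Act (chevF4.group F) Ω) (h2 : 2 ∣ Nat.card Ω) :
    Nat.card Ω = 2 ^ 12 ∧ ∀ r < 48, ∀ w : Ω, H63.xG chevF4 F r 1 • w ≠ w := by
  haveI := char_two hq
  have ne : ∀ r < 48, x F r 1 ≠ 1 := fun r hr e => one_ne_zero ((x_eq_one hr).1 e)
  have n : Nat.card Ω = 2 ^ 12 := by
    obtain ⟨w, hw⟩ := not_forall.1 fun k => ne 47 (by decide) (h.eq_one k)
    have d := h.dvd1
    rw [Cfsg.Agent.S1062.result hq] at d
    have d1 : Nat.card Ω ∣ 2 ^ 24 * 3 ^ 6 * 5 ^ 2 * 7 ^ 2 * 13 ^ 1 * 17 ^ 1 := (Dvd.intro _ rfl).trans d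
    simp only [Nat.dvd_mul, Nat.dvd_prime_pow Nat.prime_two, Nat.dvd_prime_pow Nat.prime_three,
      Nat.dvd_prime_pow Nat.prime_five, Nat.dvd_prime_pow (by norm_num : Nat.Prime 7),
      Nat.dvd_prime_pow (by norm_num : Nat.Prime 13),
      Nat.dvd_prime_pow (by norm_num : Nat.Prime 17)] at d1
    obtain ⟨_, _, ⟨_, _, ⟨_, _, ⟨_, _, ⟨_, _, ⟨a, ha, rfl⟩, ⟨b, hb, rfl⟩, rfl⟩, ⟨c, hc, rfl⟩, rfl⟩,
      ⟨d, hd, rfl⟩, rfl⟩, ⟨e, he, rfl⟩, rfl⟩, ⟨f, hf, rfl⟩, k⟩ := d1
    exact deg a (by omega) b (by omega) c (by omega) d (by omega) e (by omega) f (by omega) _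
      (List.mem_singleton.2 k.symm) ‹_› h2 (min_deg hq hw)
  obtain ⟨U, hU⟩ := H98.isSyl_top_iff.1 (H64.SG.syl_UU chevF4 F)
  have k : ∀ {r α}, H63.SFR.Dom r α → r < 48 → ∀ w : Ω, x F r 1 • w ≠ w := fun d hr w e =>
    ne _ hr (h.eq_one fun a => by
      obtain ⟨u, hu, rfl⟩ := h.ppow_trans n U w a
      rw [← mul_smul, H64.SG.mem_Cz.1 ((d.cz one_ne_zero).ge (d.U_le (hU.le hu))), mul_smul, e])
  refine ⟨n, fun r hr w e => ?_⟩
  obtain ⟨s, α, d, hs, c⟩ : ∃ s α, H63.SFR.Dom s α ∧ s < 48 ∧ sh s = sh r := by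
    cases sh r
    exacts [⟨47, _, H63.SFR.dom47, by decide, by decide⟩, ⟨44, _, H63.SFR.dom44, by decide, by decide⟩]
  obtain ⟨g, hg⟩ := isConj_iff.1 (isConj_x (F := F) hr hs c.symm one_ne_zero one_ne_zero)
  exact k d hs (g • w) (by rw [← hg, mul_smul, mul_smul, inv_smul_smul, e])

end H32.CKX
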