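import Cfsg.Agent.Base

/-! A table model of the Sylow `2`-subgroup `4³ : D₈` of the Higman–Sims group
(blueprint `blueprints/SYL2H.md`, part 3). -/

set_option autoImplicit false

namespace H32.HS

/-- `∀ i < n, p i`, for evaluation by the kernel -/
noncomputable def allLt (p : ℕ → Bool) (n : ℕ) : Bool :=
  Nat.rec (motive := fun _ => Bool) true
    (fun k ih => Bool.rec (motive := fun _ => Bool) false ih (p k)) n

theorem allLt_iff {p : ℕ → Bool} {n : ℕ} : allLt p n = true ↔ ∀ i < n, p i = true := by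
  induction n with
  | zero => simp [allLt]
  | succ n ih =>
    have : allLt p (n + 1) = (p n && allLt p n) := by
      show Bool.rec (motive := fun _ => Bool) false (allLt p n) (p n) = _
      cases p n <;> rfl
    rw [this, Bool.and_eq_true, ih, Nat.forall_lt_succ_right, and_comm]

def actT : ℕ := 0x5565d430d38fdf4d76bafb2dcb3c31a6aae84114932c824a7dc75e187105f7effc9259a7e39ebb8e086269b6190420c0d35db71051875155979259a76d865aae8a6aef8e7a2c824afbff3d38f30d79f71dbafb2d4524d08628e0c72cf00420c079f71d9e4966f3dfbf1461c4493411ae8a6ac31cb324a2c8597515becb6ed35db734e3cc69b6198e0862e39ebb0420c0f7effcb6ebec75e7dc34e3cce7aef8a6aae865a6d824a2c8d76df49669e45565d41461c4c72cf08628e04524d00420c05d6554c33cb175c7deeb9e3b38d30faeaa681071858608e2d74df6491413ffef7c61b699b2fbad2482ca9a59270c2040db5d376586daf3ffbd4d2450185107a68aea30f38d8e2860595517e78efa71f79dcf2c709a59272482cab2fbad0c204071f79d41349151759561b6999649e6a68aeab6cbee8608e2fbdf3fcb1c33db5d37eb9e3b1c61442ca2483ce34c0c2040ffef7cefae78df6d74cf2c70beeb6caeaa689e69648e28607de75c6da6585d65544d24503ce34c2ca2481c61440c2040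
def dihT : ℕ := 0x8b9af2c2be6419d3d650f74977053b3e21ade54c1fac688
def invT : ℕ := 0xffffbfbfce271f8dc5eef73bfdef3797c9e7e9747a1d3f5fabd3e8f87cfe5f1e4f2397cafafd3eff6e773799cfebf5babd4f67bfddedec76fb5d9f0f83c7e2fd7e7f1fbe1f0b83c0bb5d6e977b6db2df6eaa55ead55a7d3a9b4cb95c6e173b4da2d76aa854ea551a5d2a9348bf5f6f97fb2d92cf66ae57ebd5da3d1a8b44bd5e6f17bb0d82c762ac56eb559a1d0a8340ce67f3d9dc663f1d8dde6ff7dbdd66bf5daddcee377bad4ea357aacce63379ac4e23178acb6572997c36170987db6d769b7d369749a7d9ecb63b0d1e8b43a0c9e4b2390c1e0b03808bc5a2b1493c9a4b249bcda6b3483c1a0b048dc6a331895caa53289dcea733885c2a13088fc7a3b1c97cba5b2c9fcfa7b3c87c3a1b0c89c4a231091c8a432099cca633081c0a03007ebf9fefc68345a4d37bbd1eaf66d36db0d96331d88c574ba9d6e8663359ccf71b81c2e26fb71bade793cde0f16ab59aed47c3e5f4fb72395cce765b2192ca773bdd8ed60b0986c04f27d389d5dae172ba4a2552c9758ac966b04723d188d55aa152aa422150c8750a8946a05f2fd78bd4da61329a5a2d56cb748a492690572bd58ad45a21128a522954ca740a0906803a1d4ec77381c4e4733e1f4fc7f3c1e4f47b379b0da6e359a0d26a33990ca6631980c2622b15ca8552914ca0512f17cb85d2d16cb059269389e4c249289648229188e442090886400a8582e140c86836180e8783e1c088482610128984e24148a85628168b85e2c1088846201a8d86e341c8e876381e8f87e3c188c86630028180e04048281608068381e0c008080600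

/-- addition in `(ℤ/4)³`, coded as `x + 4 y + 16 z` -/
def add (u w : ℕ) : ℕ :=
  Nat.lor (Nat.land (Nat.add (Nat.land u 51) (Nat.land w 51)) 51)
    (Nat.land (Nat.add (Nat.land u 12) (Nat.land w 12)) 12)
/-- the action of `D₈`, coded as `b + 2 c + 4 e` for `y ^ b * (a y a) ^ c * a ^ e` -/
def act (d u : ℕ) : ℕ := Nat.mod (Nat.shiftRight actT (Nat.mul 6 (Nat.add (Nat.mul 64 d) u))) 64
def dm (d f : ℕ) : ℕ := Nat.mod (Nat.shiftRight dihT (Nat.mul 3 (Nat.add (Nat.mul 8 d) f))) 8
def mulN (s t : ℕ) : ℕ :=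
  Nat.add (add s (act (Nat.div s 64) (Nat.mod t 64))) (Nat.mul 64 (dm (Nat.div s 64) (Nat.div t 64)))
def invN (s : ℕ) : ℕ := Nat.mod (Nat.shiftRight invT (Nat.mul 9 s)) 512

theorem add_lt (u w : ℕ) : add u w < 64 :=
  Nat.or_lt_two_pow (n := 6) (Nat.and_lt_two_pow _ (by decide)) (Nat.and_lt_two_pow _ (by decide))
theorem act_lt (d u : ℕ) : act d u < 64 := Nat.mod_lt _ (by decide)
theorem dm_lt (d f : ℕ) : dm d f < 8 := Nat.mod_lt _ (by decide)
theorem mulN_eq (s t : ℕ) : mulN s t = add s (act (s / 64) (t % 64)) + 64 * dm (s / 64) (t / 64) := rfl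
theorem mulN_lt (s t : ℕ) : mulN s t < 512 := by
  have := add_lt s (act (s / 64) (t % 64))
  have := dm_lt (s / 64) (t / 64)
  rw [mulN_eq]; omega

theorem add_mod (u w : ℕ) : add (u % 64) w = add u w := by
  have : ∀ m, m < 64 → (u % 64) &&& m = u &&& m := fun m hm => by
    rw [show (64 : ℕ) = 2 ^ 6 from rfl, ← Nat.and_two_pow_sub_one_eq_mod, Nat.and_assoc,
      Nat.and_comm _ m, Nat.and_two_pow_sub_one_eq_mod, Nat.mod_eq_of_lt hm]
  show ((u % 64 &&& 51) + _ &&& 51) ||| ((u % 64 &&& 12) + _ &&& 12) = _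
  rw [this 51 (by decide), this 12 (by decide)]; rfl

theorem add_assoc' : ∀ u < 64, ∀ v < 64, ∀ w < 64, add (add u v) w = add u (add v w) := by
  have : allLt (fun u => allLt (fun v => allLt (fun w =>
      Nat.beq (add (add u v) w) (add u (add v w))) 64) 64) 64 = true := by decide +kernel
  simpa [allLt_iff] using this
theorem act_add : ∀ d < 8, ∀ v < 64, ∀ w < 64, act d (add v w) = add (act d v) (act d w) := by
  have : allLt (fun d => allLt (fun v => allLt (fun w =>
      Nat.beq (act d (add v w)) (add (act d v) (act d w))) 64) 64) 8 = true := by decide +kernel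
  simpa [allLt_iff] using this
theorem act_dm : ∀ d < 8, ∀ f < 8, ∀ w < 64, act (dm d f) w = act d (act f w) := by decide +kernel
theorem dm_assoc : ∀ d < 8, ∀ f < 8, ∀ g < 8, dm (dm d f) g = dm d (dm f g) := by decide +kernel

/-- The element with code `x + 4 y + 16 z + 64 b + 128 c + 256 e` is
`p ^ x * q ^ y * r ^ z * y ^ b * (a y a) ^ c * a ^ e`. -/
@[ext] structure U where
  n : ℕ
  lt : n < 512

instance : DecidableEq U := fun s t => decidable_of_iff (s.n = t.n) U.ext_iff.symm

def el (n : ℕ) : U := ⟨Nat.mod n 512, Nat.mod_lt _ (by decide)⟩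

theorem el_n (s : U) : el s.n = s := U.ext (Nat.mod_eq_of_lt s.lt)

noncomputable instance decAll (p : U → Prop) [DecidablePred p] : Decidable (∀ s, p s) :=
  decidable_of_iff (allLt (fun n => decide (p (el n))) 512 = true) (by
    simp only [allLt_iff, decide_eq_true_eq]
    exact ⟨fun h s => el_n s ▸ h _ s.lt, fun h _ _ => h _⟩)

noncomputable instance decEx (p : U → Prop) [DecidablePred p] : Decidable (∃ s, p s) :=
  decidable_of_iff (¬ ∀ s, ¬ p s) (by simp)

instance (priority := 20000) decBAll (p : U → Prop) [DecidablePred p] (l : List U) :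
    Decidable (∀ v ∈ l, p v) := List.decidableBAll p l
instance (priority := 20000) decBEx (p : U → Prop) [DecidablePred p] (l : List U) :
    Decidable (∃ v ∈ l, p v) := List.decidableBEx p l

def mul (s t : U) : U := ⟨mulN s.n t.n, mulN_lt _ _⟩
def one : U := ⟨0, by decide⟩
def inv (s : U) : U := ⟨invN s.n, Nat.mod_lt _ (by decide)⟩

instance : Group U where
  mul := mul
  one := one
  inv := inv
  mul_assoc s t u := U.ext (by
    have h : ∀ a b : ℕ, mulN a b / 64 = dm (a / 64) (b / 64) ∧
        mulN a b % 64 = add a (act (a / 64) (b % 64)) := fun a b => by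
      have := add_lt a (act (a / 64) (b % 64))
      rw [mulN_eq]; omega
    have d : ∀ s : U, s.n / 64 < 8 := fun s => by have := s.lt; omega
    have m : ∀ a : ℕ, a % 64 < 64 := fun a => Nat.mod_lt _ (by decide)
    show mulN (mulN s.n t.n) u.n = mulN s.n (mulN t.n u.n)
    rw [mulN_eq (mulN _ _), mulN_eq s.n (mulN _ _), ← add_mod (mulN _ _), (h _ _).1, (h _ _).2,
      (h _ _).1, (h _ _).2, dm_assoc _ (d s) _ (d t) _ (d u), ← add_mod s.n,
      ← add_mod s.n (act _ (add _ _)), add_assoc' _ (m _) _ (act_lt _ _) _ (act_lt _ _),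
      ← add_mod t.n, act_add _ (d s) _ (m _) _ (act_lt _ _), act_dm _ (d s) _ (d t) _ (m _)])
  one_mul := by
    show ∀ s, mul one s = s
    decide +kernel
  mul_one := by
    show ∀ s, mul s one = s
    decide +kernel
  inv_mul_cancel := by
    show ∀ s, mul (inv s) s = one
    decide +kernel

theorem mul_n (s t : U) : (s * t).n = mulN s.n t.n := rfl

def eqv : U ≃ Fin 512 where
  toFun s := ⟨s.n, s.lt⟩
  invFun s := ⟨s.1, s.2⟩
  left_inv _ := rfl
  right_inv _ := rfl

instance : Finite U := Finite.of_equiv _ eqv.symm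

theorem card : Nat.card U = 512 := by rw [Nat.card_congr eqv, Nat.card_fin]

theorem card_eq (p : U → Prop) [DecidablePred p] :
    Nat.card {s // p s} = ((List.range 512).filter fun n => p (el n)).length := by
  rw [← List.toFinset_card_of_nodup (List.nodup_range.filter _), ← Nat.card_eq_finsetCard]
  refine Nat.card_congr ⟨fun s => ⟨s.1.n, by simp [el_n, s.1.lt, s.2]⟩, fun n => ⟨el n, by
    have := n.2; simp only [List.mem_toFinset, List.mem_filter, decide_eq_true_eq] at this
    exact this.2⟩, fun s => Subtype.ext (el_n _), fun n => Subtype.ext (Nat.mod_eq_of_lt ?_)⟩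
  have := n.2; simp only [List.mem_toFinset, List.mem_filter, List.mem_range] at this
  exact this.1

/-- the central involution `p²` -/
abbrev ez : U := el 2
/-- `i = p`, generating `Z(R)` -/
abbrev ei : U := el 1
abbrev gq : U := el 4
abbrev gr : U := el 16
/-- `q r` -/
abbrev gqr : U := el 20
/-- `q² r²` (class of size `2`) -/
abbrev v1 : U := el 40
/-- `q²` (class of size `4`) -/
abbrev v2 : U := el 8
/-- `y a y a ∈ R` (class of size `8`) -/
abbrev u1 : U := el 192
/-- `y ∈ R` (class of size `16`) -/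
abbrev u2 : U := el 64
/-- `q r u₁ ∈ R'` (class of size `8`) -/
abbrev b1 : U := el 212
/-- `q y ∈ R'` (class of size `16`) -/
abbrev b2 : U := el 68
/-- `a` (class of size `16`) -/
abbrev ea : U := el 256
/-- `p a` (class of size `16`) -/
abbrev pa : U := el 257

/-- the subgroup of the elements whose code satisfies `p` -/
def sub (p : ℕ → Bool) (h1 : p 0 = true)
    (hm : ∀ s : U, p s.n = true → p s⁻¹.n = true ∧ ∀ t : U, p t.n = true → p (s * t).n = true) :
    Subgroup U where
  carrier := {s | p s.n = true}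
  one_mem' := h1
  mul_mem' := fun {s t} hs ht => (hm s hs).2 t ht
  inv_mem' := fun {s} hs => (hm s hs).1

/-- the bits in `m` vanish -/
def msk (m n : ℕ) : Bool := Nat.beq (Nat.land n m) 0

/-- `A = ⟨p, q, r⟩ ≅ 4³` -/
def A : Subgroup U := sub (msk 448) rfl (by decide +kernel)
/-- `V = Ω₁(A)` -/
def V : Subgroup U := sub (msk 469) rfl (by decide +kernel)
/-- `R = 4 ∘ 2¹⁺⁴ = ⟨p, q², r², y, a y a⟩` -/
def R : Subgroup U := sub (msk 276) rfl (by decide +kernel)
/-- `R' = ⟨p, q², r², q y, r a y a⟩` -/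
def R' : Subgroup U :=
  sub (fun n => Nat.beq (Nat.land n 468) 0 || Nat.beq (Nat.land n 468) 68 ||
    Nat.beq (Nat.land n 468) 144 || Nat.beq (Nat.land n 468) 212) rfl (by decide +kernel)
/-- `E = ⟨q², r², y, a y a⟩ ≅ 2¹⁺⁴₊` -/
def E : Subgroup U := sub (msk 277) rfl (by decide +kernel)
/-- `⟨i⟩` -/
def Z4 : Subgroup U := sub (msk 508) rfl (by decide +kernel)
/-- `V ⟨i⟩ = R ∩ A = R ∩ R'` -/
def VI : Subgroup U := sub (msk 468) rfl (by decide +kernel)
/-- `S₀ = C(i) = R A` -/
def S0 : Subgroup U := sub (msk 256) rfl (by decide +kernel)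

instance : DecidablePred (· ∈ A) := fun s => inferInstanceAs (Decidable (msk 448 s.n = true))
instance : DecidablePred (· ∈ V) := fun s => inferInstanceAs (Decidable (msk 469 s.n = true))
instance : DecidablePred (· ∈ R) := fun s => inferInstanceAs (Decidable (msk 276 s.n = true))
instance : DecidablePred (· ∈ R') := fun s => inferInstanceAs (Decidable
  ((Nat.beq (Nat.land s.n 468) 0 || Nat.beq (Nat.land s.n 468) 68 ||
    Nat.beq (Nat.land s.n 468) 144 || Nat.beq (Nat.land s.n 468) 212) = true))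
instance : DecidablePred (· ∈ E) := fun s => inferInstanceAs (Decidable (msk 277 s.n = true))
instance : DecidablePred (· ∈ Z4) := fun s => inferInstanceAs (Decidable (msk 508 s.n = true))
instance : DecidablePred (· ∈ VI) := fun s => inferInstanceAs (Decidable (msk 468 s.n = true))
instance : DecidablePred (· ∈ S0) := fun s => inferInstanceAs (Decidable (msk 256 s.n = true))

theorem card_A : Nat.card A = 64 := (card_eq _).trans (by decide +kernel)
theorem card_V : Nat.card V = 8 := (card_eq _).trans (by decide +kernel)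
theorem card_R : Nat.card R = 64 := (card_eq _).trans (by decide +kernel)
theorem card_R' : Nat.card R' = 64 := (card_eq _).trans (by decide +kernel)
theorem card_E : Nat.card E = 32 := (card_eq _).trans (by decide +kernel)
theorem card_Z4 : Nat.card Z4 = 4 := (card_eq _).trans (by decide +kernel)
theorem card_VI : Nat.card VI = 16 := (card_eq _).trans (by decide +kernel)
theorem card_S0 : Nat.card S0 = 256 := (card_eq _).trans (by decide +kernel)

/-- every element is a product of the generators `p, q, r, y, a` -/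
theorem induction {P : U → Prop} (h1 : P 1)
    (hm : ∀ g ∈ [ei, gq, gr, u2, ea], ∀ s, P s → P (g * s)) (s : U) : P s := by
  have k : ∀ s : U, s = 1 ∨ (∃ g ∈ [ei, gq, gr, u2], (g⁻¹ * s).n < s.n) ∨ s = ea ∨
      ∃ t ∈ [el 128, el 384], s = t := by decide +kernel
  induction h : s.n using Nat.strong_induction_on generalizing s with
  | _ n ih =>
  have a : P ea := by simpa using hm ea (by simp) 1 h1
  have b : P (u2 * ea) := hm _ (by simp) _ a
  rcases k s with rfl | ⟨g, hg, e⟩ | rfl | ⟨t, ht, rfl⟩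
  · exact h1
  · exact mul_inv_cancel_left g s ▸ hm g (List.mem_append_left [ea] hg) _ (ih _ (h ▸ e) _ rfl)
  · exact a
  · have c : P (ea * (u2 * ea)) := hm _ (by simp) _ b
    have d : P (ea * (u2 * 1)) := hm _ (by simp) _ (hm _ (by simp) _ h1)
    simp only [List.mem_cons, List.not_mem_nil, or_false] at ht
    rcases ht with rfl | rfl
    · exact (by decide +kernel : ea * (u2 * ea) = el 128) ▸ c
    · exact (by decide +kernel : ea * (u2 * 1) = el 384) ▸ d

theorem normal_of {K : Subgroup U} (h : ∀ g ∈ [ei, gq, gr, u2, ea], ∀ s ∈ K, g * s * g⁻¹ ∈ K) :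
    K.Normal := ⟨fun s hs g => by
  induction g using induction with
  | h1 => simpa using hs
  | hm g hg t ih => simpa [mul_assoc] using h g hg _ ih⟩

instance : A.Normal := normal_of (by decide +kernel)
instance : V.Normal := normal_of (by decide +kernel)
instance : R.Normal := normal_of (by decide +kernel)
instance : R'.Normal := normal_of (by decide +kernel)
instance : Z4.Normal := normal_of (by decide +kernel)
instance : VI.Normal := normal_of (by decide +kernel)
instance : S0.Normal := normal_of (by decide +kernel)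

theorem z_comm : ∀ s : U, s * ez = ez * s := by decide +kernel
theorem A_comm : ∀ s ∈ A, ∀ t ∈ A, s * t = t * s := by decide +kernel
theorem V_sq : ∀ s ∈ V, s * s = 1 := by decide +kernel
theorem V_le_A : V ≤ A := by show ∀ s, s ∈ V → s ∈ A; decide +kernel
theorem V_le_R : V ≤ R := by show ∀ s, s ∈ V → s ∈ R; decide +kernel

/-- representatives of the classes of involutions -/
theorem inv_rep : ∀ s : U, s * s = 1 → s = 1 ∨
    ∃ r ∈ [ez, v1, v2, u1, u2, b1, b2, ea, pa], ∃ t ∈ [el 0, el 132, el 260, el 392, el 24, el 52, el 5, el 33, el 281, el 437, el 344, el 365, el 21, el 80, el 84, el 105, el 276, el 256, el 288], t * s * t⁻¹ = r := by decide +kernel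

end H32.HS
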