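import Cfsg.Agent.Base
import Cfsg.Agent.H32.IndSurj
import Cfsg.Agent.H32.QuasiPrim
import Cfsg.Agent.H32.Extend
import Cfsg.Agent.H32.Cover
import Cfsg.Agent.H32.DegreeRatio
import Cfsg.Agent.H28.Degree

/-! Fully ramified characters. -/

set_option autoImplicit false

open Cfsg H28 H33

namespace H32

universe u

variable {G : Type*} [Group G]

/-- `χ` is fully ramified over `Z` with constituent `θ` and ramification `e`. -/
structure FullyRam (Z : Subgroup G) (θ : Z → ℂ) (χ : G → ℂ) (e : ℕ) : Prop where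
  irr_sub : IsIrrCharacter Z θ
  irr : IsIrrCharacter G χ
  sq : e ^ 2 = Z.index
  res : (fun z : Z => χ z) = (e : ℂ) • θ

theorem classInner_over_trans [Fintype G] {Z L : Subgroup G} [Z.Normal] [Fintype Z] [Fintype L]
    (hZL : Z ≤ L) {χ : G → ℂ} (hχ : IsCharacter G χ) {φ : L → ℂ} (hφ : IsIrrCharacter L φ)
    (h1 : classInner (fun x : L => χ x) φ ≠ 0) {θ : Z → ℂ} (hθ : IsCharacter Z θ)
    (h2 : classInner (fun z : Z => φ ⟨z, hZL z.2⟩) θ ≠ 0) :
    classInner (fun z : Z => χ z) θ ≠ 0 := by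
  have h3 := classInner_res_le_of_constituent hZL hχ hφ h1 hθ
  obtain ⟨n, hn⟩ := (isCharacter_res_le hZL hφ.isCharacter).classInner_nat hθ
  intro h0
  rw [h0, hn] at h3
  have : n = 0 := by simpa using h3
  exact h2 (by rw [hn, this, Nat.cast_zero])

theorem fullyRam_of_unique [Finite G] {Z : Subgroup G} [Z.Normal] [Fintype Z] {θ : Z → ℂ}
    (hθ : IsIrrCharacter Z θ) (hinv : inertia θ = ⊤) {χ : G → ℂ}
    (h : ∀ ψ, IsIrrCharacter G ψ → classInner (fun z : Z => ψ z) θ ≠ 0 → ψ = χ) :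
    ∃ e, FullyRam Z θ χ e := by
  have := Fintype.ofFinite G
  obtain ⟨ψ, hψ, h1⟩ := exists_irr_over (G := G) hθ
  obtain rfl := h ψ hψ h1
  obtain ⟨e, he⟩ := (hψ.isCharacter.restrict Z).classInner_nat hθ.isCharacter
  have h2 := clifford_of_invariant hψ hθ hinv h1
  have h3 := (indFun_isClassFunction Z θ).eq_smul_of_unique hψ fun η hη h4 => h η hη (by
    rwa [classInner_indFun_left _ _ hη.isClassFunction, Ne, classInner_eq_zero_comm] at h4)
  rw [classInner_indFun_left _ _ hψ.isClassFunction, classInner_comm_of_nat he] at h3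
  have h4 := classInner_self_of_homogeneous hψ h3
  rw [classInner_indFun_self hθ, hinv, Subgroup.relIndex_top_right, Nat.cast_inj] at h4
  exact ⟨e, hθ, hψ, h4.symm, he ▸ h2⟩

namespace FullyRam

variable [Finite G] {Z : Subgroup G} {θ : Z → ℂ} {χ : G → ℂ} {e : ℕ} (h : FullyRam Z θ χ e)
include h

theorem ne_zero : e ≠ 0 := by
  rintro rfl
  exact Z.index_ne_zero_of_finite (h.sq.symm.trans (by simp))

omit [Finite G] in
theorem apply (z : Z) : χ z = e * θ z := congrFun h.res z

omit [Finite G] in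
theorem apply_one : χ 1 = e * θ 1 := congrFun h.res 1

theorem inertia_eq_top [Z.Normal] : inertia θ = ⊤ :=
  inertia_eq_top_of_homogeneous h.irr.isClassFunction (by exact_mod_cast h.ne_zero) h.res

omit [Finite G] in
theorem classInner_res [Fintype Z] : classInner (fun z : Z => χ z) θ = e := by
  rw [h.res, classInner_smul_left, h.irr_sub.classInner_self, mul_one]

theorem classInner_res_ne_zero [Fintype Z] : classInner (fun z : Z => χ z) θ ≠ 0 := by
  rw [h.classInner_res]; exact_mod_cast h.ne_zero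

theorem eq_zero {g : G} (hg : g ∉ Z) : χ g = 0 := by
  have := Fintype.ofFinite G
  have := Fintype.ofFinite Z
  refine (classInner_res_self_eq_index_iff h.irr).1 ?_ g hg
  rw [classInner_self_of_homogeneous h.irr_sub h.res, h.sq]

omit [Finite G] in
theorem indFun_eq [Fintype G] : indFun Z θ = (e : ℂ) • χ := by
  have := Fintype.ofFinite Z
  refine eq_smul_of_classInner_of_degree (isCharacter_indFun _ h.irr_sub.isCharacter) h.irr ?_ ?_
  · rw [classInner_indFun_left _ _ h.irr.isClassFunction, classInner_comm_of_nat h.classInner_res]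
  · rw [indFun_apply_one, h.apply_one, ← h.sq]
    push_cast
    ring

theorem eq_of_over [Fintype Z] {ψ : G → ℂ} (hψ : IsIrrCharacter G ψ)
    (hc : classInner (fun z : Z => ψ z) θ ≠ 0) : ψ = χ := by
  have := Fintype.ofFinite G
  rw [← classInner_indFun_right _ _ hψ.isClassFunction, Ne, classInner_eq_zero_comm] at hc
  exact (eq_of_homogeneous h.irr hψ h.indFun_eq hc).symm

/-- every irreducible character of an intermediate subgroup over `θ` lies under `χ` -/
theorem under [Z.Normal] [Fintype Z] {L : Subgroup G} [Fintype L] (hZL : Z ≤ L) {φ : L → ℂ}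
    (hφ : IsIrrCharacter L φ) (hc : classInner (fun z : Z => φ ⟨z, hZL z.2⟩) θ ≠ 0) :
    classInner (fun x : L => χ x) φ ≠ 0 := by
  have := Fintype.ofFinite G
  obtain ⟨ψ, hψ, h1⟩ := exists_irr_over (G := G) hφ
  rwa [h.eq_of_over hψ
    (classInner_over_trans hZL hψ.isCharacter hφ h1 h.irr_sub.isCharacter hc)] at h1

theorem over_of_under [Z.Normal] [Fintype Z] {L : Subgroup G} [Fintype L] (hZL : Z ≤ L) {φ : L → ℂ}
    (hφ : IsIrrCharacter L φ) (hc : classInner (fun x : L => χ x) φ ≠ 0) :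
    classInner (fun z : Z => φ ⟨z, hZL z.2⟩) θ ≠ 0 := by
  have := Fintype.ofFinite G
  have h1 := isCharacter_res_le hZL hφ.isCharacter
  obtain ⟨η, hη, h2⟩ := h1.exists_constituent fun h0 => hφ.apply_one_ne_zero (congrFun h0 1)
  rwa [eq_of_homogeneous h.irr_sub hη h.res
    (classInner_over_trans hZL h.irr.isCharacter hφ hc hη.isCharacter h2)]

omit [Finite G] in
theorem indFun_eq_smul [Fintype G] [Z.Normal] [Fintype Z] {L : Subgroup G} [Fintype L]
    (hZL : Z ≤ L) {φ : L → ℂ} (hφ : IsIrrCharacter L φ)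
    (hc : classInner (fun z : Z => φ ⟨z, hZL z.2⟩) θ ≠ 0) :
    indFun L φ = classInner (fun x : L => χ x) φ • χ := by
  have h3 := (indFun_isClassFunction L φ).eq_smul_of_unique h.irr fun η hη h4 => h.eq_of_over hη
    (classInner_over_trans hZL hη.isCharacter hφ (by
      rwa [classInner_indFun_left _ _ hη.isClassFunction, Ne, classInner_eq_zero_comm] at h4)
      h.irr_sub.isCharacter hc)
  rwa [classInner_indFun_left _ _ h.irr.isClassFunction,
    hφ.isCharacter.classInner_comm (h.irr.isCharacter.restrict L)] at h3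

theorem sq_mul_index [Z.Normal] {L : Subgroup G} [L.Normal] [Fintype L] (hZL : Z ≤ L) {φ : L → ℂ}
    (hφ : IsIrrCharacter L φ) {m : ℕ} (hm : classInner (fun x : L => χ x) φ = m) (hm0 : m ≠ 0) :
    m ^ 2 = L.relIndex (inertia φ) := by
  have := Fintype.ofFinite G
  have h1 := classInner_res_self h.irr hφ hm hm0
  rw [(classInner_res_self_eq_index_iff h.irr).2 fun g hg => h.eq_zero fun hz => hg (hZL hz),
    Nat.cast_inj, ← Subgroup.relIndex_mul_index (le_inertia hφ.isClassFunction)] at h1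
  exact (Nat.eq_of_mul_eq_mul_right (Nat.pos_of_ne_zero Subgroup.index_ne_zero_of_finite) h1).symm

theorem inertia_le_of_cyclic [Z.Normal] [Fintype Z] {L : Subgroup G} [L.Normal] (hZL : Z ≤ L)
    (hcyc : IsCyclic (G ⧸ L)) {φ : L → ℂ} (hφ : IsIrrCharacter L φ)
    (hc : classInner (fun z : Z => φ ⟨z, hZL z.2⟩) θ ≠ 0) : inertia φ ≤ L := by
  classical
  have := Fintype.ofFinite G
  have hLT := le_inertia hφ.isClassFunction
  have hcyc' : IsCyclic (inertia φ ⧸ L.subgroupOf (inertia φ)) :=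
    isCyclic_of_injective (QuotientGroup.map (L.subgroupOf (inertia φ)) L (inertia φ).subtype le_rfl)
      (by
        rw [injective_iff_map_eq_one]
        intro x hx
        obtain ⟨x, rfl⟩ := QuotientGroup.mk_surjective x
        exact (QuotientGroup.eq_one_iff x).2 ((QuotientGroup.eq_one_iff (x : G)).1 hx))
  obtain ⟨η, hη, h1⟩ := exists_ext_of_cyclic hcyc' (isIrrCharacter_subgroupOf hLT hφ)
    (inertia_eq_top_iff.1 (by rw [inertia_subgroupOf hLT, Subgroup.subgroupOf_self]))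
  have h2 : (fun n : L => η ⟨n, hLT n.2⟩) = φ := funext fun n => h1 ⟨⟨n, hLT n.2⟩, n.2⟩
  obtain ⟨h3, h4⟩ := cliffordCorr_irr hφ rfl hLT hη (by
    rw [h2, hφ.classInner_self]; exact one_ne_zero)
  rw [h2, hφ.classInner_self] at h4
  rw [h.eq_of_over h3 (classInner_over_trans hZL h3.isCharacter hφ (by rw [h4]; exact one_ne_zero)
    h.irr_sub.isCharacter hc)] at h4
  rw [← Subgroup.relIndex_eq_one, ← h.sq_mul_index hZL hφ (m := 1) (by rw [h4]; simp) one_ne_zero]
  rfl

/-- DeMeyer-Janusz: `θ` is fully ramified in a Sylow subgroup modulo `Z` -/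
theorem exists_sylow [Z.Normal] {P : Subgroup G} (hZP : Z ≤ P) {p a : ℕ} (hp : p.Prime)
    (ha : Z.relIndex P = p ^ a) (hP : ¬ p ∣ P.index) :
    ∃ (ψ : P → ℂ) (f : ℕ),
      FullyRam (Z.subgroupOf P) (fun x : Z.subgroupOf P => θ ⟨(x : P), x.2⟩) ψ f := by
  classical
  have := Fintype.ofFinite G
  have hθ := isIrrCharacter_subgroupOf hZP h.irr_sub
  have hinv : inertia (fun x : Z.subgroupOf P => θ ⟨(x : P), x.2⟩) = ⊤ := by
    rw [inertia_subgroupOf hZP, h.inertia_eq_top, Subgroup.top_subgroupOf]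
  obtain ⟨ψ, hψ, h1⟩ := exists_irr_over (G := P) hθ
  obtain ⟨f, hf⟩ := (hψ.isCharacter.restrict _).classInner_nat hθ.isCharacter
  have hf0 : f ≠ 0 := by rintro rfl; exact h1 (by simpa using hf)
  have h2 := clifford_of_invariant hψ hθ hinv h1
  rw [hf] at h2
  have h3 : f ∣ p ^ a := ha ▸ ramification_dvd_index_of_invariant hψ hθ hinv hf hf0
  obtain ⟨b, -, rfl⟩ := (Nat.dvd_prime_pow hp).1 h3
  refine ⟨ψ, _, hθ, hψ, ?_, h2⟩
  have h4 : (p ^ b) ^ 2 ≤ p ^ a := by
    have h5 := (isCharacter_indFun _ hθ.isCharacter).mult_mul_degree_le hψ (m := p ^ b)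
      (d := p ^ a * charDegree θ) (e := p ^ b * charDegree θ) (by
        rw [classInner_indFun_left _ _ hψ.isClassFunction, classInner_comm_of_nat hf]) (by
        rw [indFun_apply_one, Nat.cast_mul, h.irr_sub.cast_charDegree, ← ha]; rfl) (by
        rw [Nat.cast_mul, h.irr_sub.cast_charDegree]; exact congrFun h2 1)
    rw [← mul_assoc, ← pow_two] at h5
    exact Nat.le_of_mul_le_mul_right h5 h.irr_sub.charDegree_pos
  rw [classInner_res_subgroupOf hZP] at h1
  obtain ⟨m, hm⟩ := (h.irr.isCharacter.restrict P).classInner_nat hψ.isCharacter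
  have h5 := congrFun (h.indFun_eq_smul hZP hψ h1) 1
  have h6 : ψ 1 = (p ^ b : ℕ) * θ 1 := congrFun h2 1
  rw [indFun_apply_one, h6, hm, Pi.smul_apply, h.apply_one, smul_eq_mul, ← mul_assoc, ← mul_assoc,
    mul_left_inj' h.irr_sub.apply_one_ne_zero, ← Nat.cast_mul, ← Nat.cast_mul, Nat.cast_inj] at h5
  have h7 : p ^ a ∣ P.index ^ 2 * (p ^ b) ^ 2 := by
    rw [← mul_pow, h5, mul_pow, h.sq, ← ha]
    exact (Subgroup.relIndex_dvd_index_of_le hZP).mul_left _
  have h8 := ((((Nat.Prime.coprime_iff_not_dvd hp).2 hP).pow a 2).dvd_mul_left).1 h7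
  exact (le_antisymm h4 (Nat.le_of_dvd (Nat.pos_of_ne_zero (pow_ne_zero _ hf0)) h8)).trans ha.symm

end FullyRam

/-- reduction of a fully ramified character to a group of central type -/
theorem FullyRam.exists_central_type {G : Type u} [Group G] [Finite G] {Z : Subgroup G} [Z.Normal]
    {θ : Z → ℂ} {χ : G → ℂ} {e : ℕ} (h : FullyRam Z θ χ e) :
    ∃ (Q : Type u) (_ : Group Q) (_ : Finite Q) (ρ : Q →* G ⧸ Z) (lam : ρ.ker → ℂ) (β : Q → ℂ),
      Function.Surjective ρ ∧ ρ.ker ≤ Subgroup.center Q ∧ FullyRam ρ.ker lam β e := by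
  classical
  have := Fintype.ofFinite G
  obtain ⟨C⟩ := nonempty_cover h.irr_sub h.inertia_eq_top
  obtain ⟨β, hβ, hβk, hβχ⟩ := C.exists_factor h.irr_sub h.irr h.classInner_res_ne_zero
  obtain ⟨β', hβ', hβ''⟩ := hβ.exists_quotient _ hβk
  let ρ : C.Γ ⧸ C.ν.range →* G ⧸ Z := QuotientGroup.lift _ ((QuotientGroup.mk' Z).comp C.π) (by
    rintro _ ⟨n, rfl⟩
    rw [MonoidHom.mem_ker, MonoidHom.comp_apply, C.π_ν, QuotientGroup.mk'_apply,
      QuotientGroup.eq_one_iff]
    exact n.2)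
  have hρ : Function.Surjective ρ := fun x => by
    obtain ⟨g, rfl⟩ := QuotientGroup.mk_surjective x
    obtain ⟨γ, rfl⟩ := C.π_surj g
    exact ⟨γ, rfl⟩
  have hc : ρ.ker ≤ Subgroup.center _ := fun x hx => by
    obtain ⟨γ, rfl⟩ := QuotientGroup.mk_surjective x
    exact C.comap_le_comap_center ((QuotientGroup.eq_one_iff (C.π γ)).1 hx)
  have := Fintype.ofFinite (C.Γ ⧸ C.ν.range)
  obtain ⟨lam, hlam, h1⟩ := exists_constituent_res (H := ρ.ker) hβ'.isCharacter hβ'.apply_one_ne_zero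
  obtain ⟨mu, hmu⟩ := hβ'.exists_central_hom hc
  have h2 : β' 1 = e := by
    have h3 := hβχ 1
    rw [map_one, h.apply_one, C.th_one, mul_left_inj' h.irr_sub.apply_one_ne_zero, ← hβ''] at h3
    exact h3.symm
  refine ⟨_, inferInstance, inferInstance, ρ, fun z => mu z, β', hρ, hc, isIrrCharacter_of_hom mu,
    hβ', ?_, funext fun z => ?_⟩
  · rw [h.sq, Subgroup.index_ker, MonoidHom.range_eq_top.2 hρ, Subgroup.card_top, Z.index_eq_card]
  · rw [Pi.smul_apply, smul_eq_mul, ← h2, mul_comm, ← hmu, mul_one]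

end H32
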