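import Cfsg.Agent.H10.C2Spec2
import Cfsg.Agent.H3.DihQuat

/-! Abelian Sylow intersections (S3186), part 1: classes of involutions with abelian centralizer
in a `2`-group. -/

set_option autoImplicit false

namespace H32.Abi

export H98 (cj cj_inv_cj)

open Cfsg Subgroup H14 H98 H1.Gold

variable {G : Type*} [Group G]

/-- `b` is conjugate to `a` under `S`. -/
def Cl (S : Subgroup G) (a b : G) : Prop := ∃ s ∈ S, s * a * s⁻¹ = b

theorem Cl.refl (S : Subgroup G) (a : G) : Cl S a a := ⟨1, one_mem _, by group⟩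

theorem Cl.symm {S : Subgroup G} {a b : G} (h : Cl S a b) : Cl S b a := by
  obtain ⟨s, hs, rfl⟩ := h
  exact ⟨s⁻¹, inv_mem hs, by group⟩

theorem Cl.trans {S : Subgroup G} {a b c : G} (h : Cl S a b) (h' : Cl S b c) : Cl S a c := by
  obtain ⟨s, hs, rfl⟩ := h
  obtain ⟨t, ht, rfl⟩ := h'
  exact ⟨t * s, mul_mem ht hs, by group⟩

theorem Cl.conj {S : Subgroup G} {a b g : G} (h : Cl S a b) (hg : g ∈ nor S) :
    Cl S (g * a * g⁻¹) (g * b * g⁻¹) := by
  obtain ⟨s, hs, rfl⟩ := h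
  exact ⟨g * s * g⁻¹, conj_mem_of_mem_normalizer hg hs, by group⟩

theorem Cl.mem {S : Subgroup G} {a b : G} (h : Cl S a b) (ha : a ∈ S) : b ∈ S := by
  obtain ⟨s, hs, rfl⟩ := h
  exact mul_mem (mul_mem hs ha) (inv_mem hs)

theorem Cl.sq {S : Subgroup G} {a b : G} (h : Cl S a b) (ha : a * a = 1) : b * b = 1 := by
  obtain ⟨s, hs, rfl⟩ := h
  calc _ = s * (a * a) * s⁻¹ := by group
    _ = 1 := by rw [ha]; group

theorem inv_zpow_of {a y : G} (h : a * y * a⁻¹ = y⁻¹) (n : ℤ) :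
    a * y ^ n * a⁻¹ = (y ^ n)⁻¹ := by
  rw [← conj_zpow, h, inv_zpow]

theorem inv_pow_of {a y : G} (h : a * y * a⁻¹ = y⁻¹) (n : ℕ) :
    a * y ^ n * a⁻¹ = (y ^ n)⁻¹ := by
  rw [← conj_pow, h, inv_pow]

theorem inv_of_mem {a u y : G} (h : a * u * a⁻¹ = u⁻¹) (hy : y ∈ zpowers u) :
    a * y * a⁻¹ = y⁻¹ := by
  obtain ⟨n, rfl⟩ := hy
  exact inv_zpow_of h n

theorem inverts_mul {a b : G} (ha : a * a = 1) (hb : b * b = 1) :
    a * (a * b) * a⁻¹ = (a * b)⁻¹ := by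
  rw [← mul_assoc, ha, mul_inv_rev, inv_eq_of_mul_eq_one_right hb, one_mul]

theorem inverts_mul' {a b : G} (ha : a * a = 1) (hb : b * b = 1) :
    b * (a * b) * b⁻¹ = (a * b)⁻¹ := by
  rw [mul_inv_rev, inv_eq_of_mul_eq_one_right ha, inv_eq_of_mul_eq_one_right hb, mul_assoc,
    mul_assoc, hb, mul_one]

theorem exists_last {y : G} (h : Two y) (h1 : y ≠ 1) :
    ∃ j : ℕ, y ^ 2 ^ j ≠ 1 ∧ y ^ 2 ^ j * y ^ 2 ^ j = 1 := by
  classical
  have h0 : Nat.find h ≠ 0 := fun e => h1 (by simpa [e] using Nat.find_spec h)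
  obtain ⟨j, hj⟩ := Nat.exists_eq_succ_of_ne_zero h0
  refine ⟨j, Nat.find_min h (by omega), ?_⟩
  have := Nat.find_spec h
  rwa [hj, pow_succ, pow_mul, pow_two] at this

/-- An involution `a` of the `2`-group `S` with abelian centralizer `U`, `|N_S(U) : U| = 2`. -/
structure TA (S : Subgroup G) (a z : G) : Prop where
  aS : a ∈ S
  a2 : a * a = 1
  zS : z ∈ S
  z1 : z ≠ 1
  za : z * a = a * z
  ab : ∀ x ∈ S, ∀ y ∈ S, x * a = a * x → y * a = a * y → x * y = y * x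
  two : ∀ b, Cl S a b → b * a = a * b → b = a ∨ b = a * z
  ex : Cl S a (a * z)
  ex2 : ∃ b, Cl S a b ∧ b * a ≠ a * b
  nsq : ∀ c ∈ S, c * a = a * c → c * c ≠ z

namespace TA

variable {S : Subgroup G} {a z : G}

theorem map (h : TA S a z) (φ : G ≃* G) (hφ : ∀ x, φ x ∈ S ↔ x ∈ S) : TA S (φ a) (φ z) := by
  have hcl : ∀ b, Cl S (φ a) (φ b) ↔ Cl S a b := fun b => by
    constructor
    · rintro ⟨s, hs, e⟩
      obtain ⟨s, rfl⟩ := φ.surjective s
      exact ⟨s, (hφ s).1 hs, φ.injective (by simpa using e)⟩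
    · rintro ⟨s, hs, rfl⟩
      exact ⟨φ s, (hφ s).2 hs, by simp⟩
  have hc : ∀ x y, φ x * φ y = φ y * φ x ↔ x * y = y * x := fun x y => by
    rw [← map_mul, ← map_mul, φ.injective.eq_iff]
  refine ⟨(hφ _).2 h.aS, by rw [← map_mul, h.a2, map_one], (hφ _).2 h.zS,
    by simpa using h.z1, (hc _ _).2 h.za, fun x hx y hy => ?_, fun b => ?_, ?_, ?_, fun c => ?_⟩
  · obtain ⟨x, rfl⟩ := φ.surjective x
    obtain ⟨y, rfl⟩ := φ.surjective y
    rw [hc, hc, hc]
    exact h.ab x ((hφ x).1 hx) y ((hφ y).1 hy)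
  · obtain ⟨b, rfl⟩ := φ.surjective b
    rw [hcl, hc, ← map_mul, φ.injective.eq_iff, φ.injective.eq_iff]
    exact h.two b
  · rw [← map_mul, hcl]; exact h.ex
  · obtain ⟨b, h1, h2⟩ := h.ex2
    exact ⟨φ b, (hcl b).2 h1, fun e => h2 ((hc _ _).1 e)⟩
  · obtain ⟨c, rfl⟩ := φ.surjective c
    rw [hφ, hc, ← map_mul, φ.injective.ne_iff]
    exact h.nsq c

theorem conj (h : TA S a z) {g : G} (hg : g ∈ nor S) : TA S (g * a * g⁻¹) (g * z * g⁻¹) :=
  h.map (MulAut.conj g) fun x => (mem_normalizer_iff.1 hg x).symm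

theorem z2 (h : TA S a z) : z * z = 1 := by
  have := h.ex.sq h.a2
  rwa [mul_assoc, ← mul_assoc z, h.za, mul_assoc, ← mul_assoc, h.a2, one_mul] at this

theorem last_of_inv (h : TA S a z) {p : G} (hp : p ∈ S) (hi : a * p * a⁻¹ = p⁻¹)
    (h1 : p * p ≠ 1) (h2 : p * p * (p * p) = 1) : p * p = z := by
  have ia := inv_eq_of_mul_eq_one_right h.a2
  have iw := inv_eq_of_mul_eq_one_right h2
  have e : p⁻¹ * a * p⁻¹⁻¹ = a * (p * p) := by
    rw [inv_inv]; nth_rewrite 1 [← hi]; group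
  have e2 : a * (p * p) * a⁻¹ = p * p := by
    have := inv_pow_of hi 2
    rwa [pow_two, iw] at this
  rcases h.two _ ⟨p⁻¹, inv_mem hp, e⟩ (by rw [mul_inv_eq_iff_eq_mul] at e2; rw [mul_assoc, ← e2])
    with e3 | e3
  · exact absurd (by simpa using e3) h1
  · exact mul_left_cancel e3

/-- The central involution of `⟨a, b⟩` is `z`. -/
theorem last (h : TA S a z) {b : G} (hb : Cl S a b) {j : ℕ} (h1 : (a * b) ^ 2 ^ j ≠ 1)
    (h2 : (a * b) ^ 2 ^ j * (a * b) ^ 2 ^ j = 1) : (a * b) ^ 2 ^ j = z := by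
  have hb2 := hb.sq h.a2
  rcases j with _ | j
  · simp only [pow_zero, pow_one] at h1 h2 ⊢
    have e : b * a = a * b := by
      rw [← inv_eq_of_mul_eq_one_right h2, mul_inv_rev, inv_eq_of_mul_eq_one_right h.a2,
        inv_eq_of_mul_eq_one_right hb2]
    rcases h.two b hb e with rfl | rfl
    · exact absurd h.a2 h1
    · rw [← mul_assoc, h.a2, one_mul]
  · rw [pow_succ, pow_mul, pow_two] at h1 h2 ⊢
    exact h.last_of_inv (pow_mem (mul_mem h.aS (hb.mem h.aS)) _)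
      (inv_pow_of (inverts_mul h.a2 hb2) _) h1 h2

theorem central (hS : IsPGroup 2 S) (h : TA S a z) {s : G} (hs : s ∈ S) : s * z = z * s := by
  by_cases e : s * a * s⁻¹ = a
  · exact h.ab s hs z h.zS (mul_inv_eq_iff_eq_mul.1 e) h.za
  have hb : Cl S a (s * a * s⁻¹) := ⟨s, hs, rfl⟩
  have h' := h.conj (le_normalizer hs)
  set b := s * a * s⁻¹
  have hab : a * b ≠ 1 := fun e2 =>
    e ((inv_eq_of_mul_eq_one_right e2).symm.trans (inv_eq_of_mul_eq_one_right h.a2))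
  obtain ⟨j, h1, h2⟩ := exists_last (two_of_mem hS (mul_mem h.aS h'.aS)) hab
  have e3 : b * a = (a * b)⁻¹ := by
    rw [mul_inv_rev, inv_eq_of_mul_eq_one_right h.a2, inv_eq_of_mul_eq_one_right h'.a2]
  have e4 : (b * a) ^ 2 ^ j = (a * b) ^ 2 ^ j := by
    rw [e3, inv_pow, inv_eq_of_mul_eq_one_right h2]
  have := h'.last hb.symm (j := j) (by rwa [e4]) (by rwa [e4])
  rw [e4, h.last hb h1 h2] at this
  exact mul_inv_eq_iff_eq_mul.1 this.symm

theorem of_cl (hS : IsPGroup 2 S) (h : TA S a z) {b : G} (hb : Cl S a b) : TA S b z := by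
  obtain ⟨s, hs, rfl⟩ := hb
  have := h.conj (le_normalizer hs)
  rwa [h.central hS hs, mul_inv_cancel_right] at this

theorem eq_of_sq (hS : IsPGroup 2 S) (h : TA S a z) {y y' : G} (hy : Cl S a (a * y))
    (hy' : Cl S a (a * y')) (e : y * y = y' * y') : y' = y ∨ y' = y * z := by
  have hb := h.of_cl hS hy
  have hb' := h.of_cl hS hy'
  by_cases e0 : a * y * (a * y') = 1
  · left
    exact mul_left_cancel ((inv_eq_of_mul_eq_one_right e0).symm.trans
      (inv_eq_of_mul_eq_one_right hb.a2))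
  right
  have i1 : a * y = y⁻¹ * a := by
    rw [← inv_eq_of_mul_eq_one_right hb.a2, mul_inv_rev, inv_eq_of_mul_eq_one_right h.a2]
  have i2 : a * y' = y'⁻¹ * a := by
    rw [← inv_eq_of_mul_eq_one_right hb'.a2, mul_inv_rev, inv_eq_of_mul_eq_one_right h.a2]
  have e1 : a * y * (a * y') = y⁻¹ * y' := by
    rw [i1, mul_assoc, ← mul_assoc a, h.a2, one_mul]
  have e2 : y⁻¹ * y' * a = a * (y⁻¹ * y') := by
    have i3 : a * y⁻¹ = y * a := by
      rw [eq_comm, ← inv_mul_eq_iff_eq_mul, inv_eq_of_mul_eq_one_right h.a2, ← mul_assoc, i1,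
        mul_assoc, h.a2, mul_one]
    rw [← mul_assoc, i3, mul_assoc, mul_assoc, i2, ← mul_assoc, ← mul_assoc]
    congr 1
    calc y⁻¹ * y' = y⁻¹ * (y' * y') * y'⁻¹ := by group
      _ = y * y'⁻¹ := by rw [← e]; group
  obtain ⟨j, h1, h2⟩ := exists_last (two_of_mem hS (mul_mem hb.aS hb'.aS)) e0
  have h3 := hb.last (hy.symm.trans hy') h1 h2
  have hm : y⁻¹ * y' ∈ S := e1 ▸ mul_mem hb.aS hb'.aS
  rw [e1] at h3
  rcases j with _ | j
  · rw [← h3]; simp
  · rw [pow_succ, pow_mul, pow_two] at h3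
    exact absurd h3 (h.nsq _ (pow_mem hm _) ((show Commute _ a from e2).pow_left _))

theorem zpow_cl (h : TA S a z) {y : G} (hy : Cl S a (a * y)) (n : ℤ) : Cl S a (a * y ^ n) := by
  have hyS : y ∈ S := (S.mul_mem_cancel_left h.aS).1 (hy.mem h.aS)
  have hi : a * y * a⁻¹ = y⁻¹ := by
    have := inverts_mul h.a2 (hy.sq h.a2)
    rwa [← mul_assoc a a y, h.a2, one_mul] at this
  have key : ∀ i : ℤ, (y ^ i)⁻¹ * a = a * y ^ i := fun i => by
    rw [← inv_zpow_of hi i]; group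
  obtain ⟨i, rfl | rfl⟩ := Int.even_or_odd' n
  · refine ⟨(y ^ i)⁻¹, inv_mem (zpow_mem hyS i), ?_⟩
    rw [key]; group
  · refine hy.trans ⟨(y ^ i)⁻¹, inv_mem (zpow_mem hyS i), ?_⟩
    rw [← mul_assoc, key]; group

end TA

/-- The class of `a` is the coset `a ⟨u⟩`. -/
structure KD (S : Subgroup G) (a z u : G) : Prop extends TA S a z where
  mem : ∀ y, y ∈ zpowers u ↔ Cl S a (a * y)
  u2 : u * u ≠ 1

theorem TA.exists_kd [Finite G] {S : Subgroup G} {a z : G} (hS : IsPGroup 2 S) (h : TA S a z) :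
    ∃ u, KD S a z u := by
  obtain ⟨u, hu, hmax⟩ := Set.exists_max_image {y | Cl S a (a * y)} orderOf (Set.toFinite _)
    ⟨z, h.ex⟩
  have hS' : ∀ y, Cl S a (a * y) → y ∈ S := fun y hy =>
    (S.mul_mem_cancel_left h.aS).1 (hy.mem h.aS)
  have hord : ∀ y ∈ S, ∃ k, orderOf y = 2 ^ k := fun y hy => by
    obtain ⟨k, hk⟩ := two_of_mem hS hy
    obtain ⟨j, -, hj⟩ := (Nat.dvd_prime_pow Nat.prime_two).1 (orderOf_dvd_of_pow_eq_one hk)
    exact ⟨j, hj⟩
  obtain ⟨k, hk⟩ := hord u (hS' u hu)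
  have hu1 : u ≠ 1 := fun e => h.z1 (by
    have := hmax z h.ex
    rw [e, orderOf_one] at this
    exact orderOf_eq_one_iff.1 (le_antisymm this (orderOf_pos z)))
  have hz : z ∈ zpowers u := by
    obtain ⟨j, h1, h2⟩ := exists_last (two_of_mem hS (hS' u hu)) hu1
    have e : a * (a * u) = u := by rw [← mul_assoc, h.a2, one_mul]
    have := h.last hu (j := j) (by rwa [e]) (by rwa [e])
    rw [e] at this
    exact this ▸ npow_mem_zpowers u _
  have key : ∀ j, j ≤ k → ∀ y, Cl S a (a * y) → y ^ 2 ^ j = 1 → y ∈ zpowers u := by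
    intro j
    induction j with
    | zero => intro _ y _ e; rw [pow_zero, pow_one] at e; exact e ▸ one_mem _
    | succ j ih =>
      intro hj y hy e
      have h2 := h.zpow_cl hy 2
      rw [zpow_two] at h2
      have e2 : (y * y) ^ 2 ^ j = 1 := by rw [← pow_two, ← pow_mul, ← pow_succ', e]
      obtain ⟨n, hn⟩ := mem_zpowers_iff.1 (ih (by omega) _ h2 e2)
      rw [← hn, ← zpow_natCast, ← zpow_mul, ← orderOf_dvd_iff_zpow_eq_one, hk] at e2
      obtain ⟨i, rfl⟩ : (2 : ℤ) ∣ n := by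
        have h3 : (2 : ℤ) ^ (j + 1) ∣ n * 2 ^ j := (pow_dvd_pow 2 hj).trans (by exact_mod_cast e2)
        rwa [pow_succ', mul_dvd_mul_iff_right (by positivity)] at h3
      rcases h.eq_of_sq hS (h.zpow_cl hu i) hy (by rw [← hn, two_mul, zpow_add]) with rfl | rfl
      · exact zpow_mem_zpowers u i
      · exact mul_mem (zpow_mem_zpowers u i) hz
  have hmem : ∀ y, y ∈ zpowers u ↔ Cl S a (a * y) := fun y => by
    refine ⟨by rintro ⟨n, rfl⟩; exact h.zpow_cl hu n, fun hy => ?_⟩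
    obtain ⟨j, hj⟩ := hord y (hS' y hy)
    have := hmax y hy
    rw [hj, hk] at this
    exact key j ((Nat.pow_le_pow_iff_right (by norm_num)).1 this) y hy
      (hj ▸ pow_orderOf_eq_one y)
  refine ⟨u, h, hmem, fun e => ?_⟩
  obtain ⟨b, hb, hba⟩ := h.ex2
  have e1 : a * (a * b) = b := by rw [← mul_assoc, h.a2, one_mul]
  obtain ⟨n, hn⟩ := mem_zpowers_iff.1 ((hmem (a * b)).2 (by rwa [e1]))
  have e2 : a * b * (a * b) = 1 := by
    rw [← hn, ← (Commute.refl u).mul_zpow, e, one_zpow]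
  apply hba
  rw [← inv_eq_of_mul_eq_one_right e2, mul_inv_rev, inv_eq_of_mul_eq_one_right h.a2,
    inv_eq_of_mul_eq_one_right (hb.sq h.a2)]

namespace KD

variable {S : Subgroup G} {a z u : G}

theorem uS (h : KD S a z u) {y : G} (hy : y ∈ zpowers u) : y ∈ S :=
  (S.mul_mem_cancel_left h.aS).1 (((h.mem y).1 hy).mem h.aS)

theorem inv (h : KD S a z u) {y : G} (hy : y ∈ zpowers u) : a * y * a⁻¹ = y⁻¹ := by
  have := inverts_mul h.a2 (((h.mem y).1 hy).sq h.a2)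
  rwa [← mul_assoc a a y, h.a2, one_mul] at this

theorem mul_mem' (h : KD S a z u) {b : G} (hb : Cl S a b) : a * b ∈ zpowers u :=
  (h.mem _).2 (by rwa [← mul_assoc, h.a2, one_mul])

theorem mul_mem'' (h : KD S a z u) {b c : G} (hb : Cl S a b) (hc : Cl S a c) :
    b * c ∈ zpowers u := by
  have e : b * c = (a * b)⁻¹ * (a * c) := by
    rw [mul_inv_rev, inv_eq_of_mul_eq_one_right (hb.sq h.a2)]; group
  exact e ▸ mul_mem (inv_mem (h.mul_mem' hb)) (h.mul_mem' hc)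

theorem uniq (h : KD S a z u) {y : G} (hy : y ∈ zpowers u) (h1 : y ≠ 1) (h2 : y * y = 1) :
    y = z := by
  have e : a * (a * y) = y := by rw [← mul_assoc, h.a2, one_mul]
  have := h.last ((h.mem y).1 hy) (j := 0) (by simpa [e] using h1) (by simpa [e] using h2)
  simpa [e] using this

theorem z_mem (h : KD S a z u) : z ∈ zpowers u := (h.mem z).2 h.ex

/-- An element normalizing `S` and the class normalizes `⟨u⟩`. -/
theorem conj_mem (h : KD S a z u) {g : G} (hg : g ∈ nor S) (ha : Cl S a (g * a * g⁻¹)) {y : G}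
    (hy : y ∈ zpowers u) : g * y * g⁻¹ ∈ zpowers u := by
  have e : g * y * g⁻¹ = (g * a * g⁻¹) * (g * (a * y) * g⁻¹) := by
    calc _ = g * (a * a * y) * g⁻¹ := by rw [h.a2, one_mul]
      _ = _ := by group
  exact e ▸ h.mul_mem'' ha (ha.trans (((h.mem y).1 hy).conj hg))

theorem ord (hS : IsPGroup 2 S) (h : KD S a z u) : ∃ k, orderOf u = 2 ^ (k + 2) := by
  obtain ⟨k, hk⟩ := two_of_mem hS (h.uS (mem_zpowers u))
  obtain ⟨j, -, hj⟩ := (Nat.dvd_prime_pow Nat.prime_two).1 (orderOf_dvd_of_pow_eq_one hk)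
  have h2 : ¬ orderOf u ∣ 2 := fun e => h.u2 (by rw [← pow_two]; exact orderOf_dvd_iff_pow_eq_one.1 e)
  rcases j with _ | _ | j
  · exact absurd (by rw [hj]; norm_num) h2
  · exact absurd (by rw [hj]; norm_num) h2
  · exact ⟨j, hj⟩

theorem gen_of_odd (hS : IsPGroup 2 S) (h : KD S a z u) {i : ℤ} (hi : Odd i) :
    zpowers (u ^ i) = zpowers u := by
  obtain ⟨k, hk⟩ := h.ord hS
  refine le_antisymm (zpowers_le.2 (zpow_mem_zpowers u i)) (zpowers_le.2 ?_)
  obtain ⟨α, β, e⟩ : IsCoprime i ((2 : ℤ) ^ (k + 2)) :=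
    (Int.isCoprime_two_right.2 hi).pow_right
  refine ⟨α, ?_⟩
  have e2 : u ^ ((2 : ℤ) ^ (k + 2)) = 1 := by
    rw [← orderOf_dvd_iff_zpow_eq_one, hk]; simp
  calc (u ^ i) ^ α = u ^ (α * i) * (u ^ ((2 : ℤ) ^ (k + 2))) ^ β := by
        rw [e2, one_zpow, mul_one, ← zpow_mul, mul_comm]
    _ = u := by rw [← zpow_mul, ← zpow_add, mul_comm _ β, e, zpow_one]

theorem odd_of_gen (hS : IsPGroup 2 S) (h : KD S a z u) {y : G} (hy : zpowers y = zpowers u) :
    ∃ i : ℤ, Odd i ∧ y = u ^ i := by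
  obtain ⟨k, hk⟩ := h.ord hS
  obtain ⟨i, rfl⟩ := mem_zpowers_iff.1 (hy ▸ mem_zpowers y)
  obtain ⟨j, hj⟩ := mem_zpowers_iff.1 (hy.symm ▸ mem_zpowers u)
  refine ⟨i, ?_, rfl⟩
  have e : u ^ (i * j - 1) = 1 := by rw [zpow_sub, zpow_mul, hj]; simp
  rw [← orderOf_dvd_iff_zpow_eq_one, hk] at e
  have e2 : (2 : ℤ) ∣ i * j - 1 := (dvd_pow_self 2 (Nat.succ_ne_zero (k + 1))).trans (by exact_mod_cast e)
  rcases Int.even_or_odd' i with ⟨c, rfl | rfl⟩
  · exfalso
    obtain ⟨d, hd⟩ := e2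
    have : 2 * (c * j) - 1 = 2 * d := by rw [← hd]; ring
    omega
  · exact odd_two_mul_add_one c

variable {a' z' u' : G}

/-- Two different classes. -/
theorem pair (hS : IsPGroup 2 S) (h : KD S a z u) (h' : KD S a' z' u')
    (hf : ∀ b, Cl S a b → b * a' ≠ a' * b) : zpowers (a * a' * (a * a')) = zpowers u := by
  have ia := inv_eq_of_mul_eq_one_right h.a2
  have ia' := inv_eq_of_mul_eq_one_right h'.a2
  set y := a * a' * (a * a') with hy
  have m1 : y ∈ zpowers u := by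
    have := h.mul_mem' ⟨a', h'.aS, rfl⟩
    rwa [ia', ← mul_assoc, ← mul_assoc, mul_assoc _ a] at this
  have m2 : y ∈ zpowers u' := by
    have := h'.mul_mem'' ⟨a, h.aS, rfl⟩ (Cl.refl S a')
    rwa [ia, mul_assoc _ a] at this
  have y1 : y ≠ 1 := fun e => hf a (Cl.refl S a) (by
    rw [← inv_eq_of_mul_eq_one_right e, mul_inv_rev, ia, ia'])
  obtain ⟨j, h1, h2⟩ := exists_last (two_of_mem hS (h.uS m1)) y1
  have ez : z = z' := (h.uniq (pow_mem m1 _) h1 h2).symm.trans (h'.uniq (pow_mem m2 _) h1 h2)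
  obtain ⟨k, hk⟩ := h.ord hS
  have hdvd : ∀ n : ℤ, u ^ n = 1 ↔ (2 : ℤ) ^ (k + 2) ∣ n := fun n => by
    rw [← orderOf_dvd_iff_zpow_eq_one, hk]; simp
  obtain ⟨m, hm⟩ := mem_zpowers_iff.1
    (h.conj_mem (le_normalizer h'.aS) ⟨a', h'.aS, rfl⟩ (mem_zpowers u))
  have hc : ∀ n : ℤ, a' * u ^ n * a'⁻¹ = u ^ (m * n) := fun n => by
    rw [← conj_zpow, ← hm, zpow_mul]
  have e4 : u ^ ((2 : ℤ) ^ k) * u ^ ((2 : ℤ) ^ k) = z := by
    refine h.uniq (mul_mem (zpow_mem_zpowers _ _) (zpow_mem_zpowers _ _)) ?_ ?_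
    · rw [← zpow_add, Ne, hdvd, ← two_mul, ← pow_succ', 
        pow_dvd_pow_iff (by norm_num) (by rw [Int.isUnit_iff]; omega)]
      omega
    · rw [← zpow_add, ← zpow_add, hdvd]
      exact ⟨1, by ring⟩
  have hm3 : m % 4 = 3 := by
    have n1 : m % 4 ≠ 1 := fun e => by
      refine h'.nsq _ (h.uS (zpow_mem_zpowers u ((2 : ℤ) ^ k))) ?_ (e4.trans ez)
      rw [eq_comm, ← mul_inv_eq_iff_eq_mul, hc, ← mul_inv_eq_one, ← zpow_sub, hdvd]
      obtain ⟨c, rfl⟩ : ∃ c, m = 4 * c + 1 := ⟨m / 4, by omega⟩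
      exact ⟨c, by ring⟩
    have n2 : m % 2 ≠ 0 := fun e => by
      apply h.z1
      have : a' * z * a'⁻¹ = 1 := by
        rw [← e4, ← zpow_add, hc, hdvd]
        obtain ⟨c, rfl⟩ : ∃ c, m = 2 * c := ⟨m / 2, by omega⟩
        exact ⟨c, by ring⟩
      simpa using this
    omega
  obtain ⟨i, hi⟩ := mem_zpowers_iff.1 m1
  rcases Int.even_or_odd' i with ⟨c, rfl | rfl⟩
  · exfalso
    obtain ⟨d, rfl⟩ : ∃ d, m = 2 * (2 * d + 1) + 1 := ⟨m / 4, by omega⟩
    obtain ⟨α, β, e⟩ : IsCoprime (2 * d + 1) ((2 : ℤ) ^ (k + 2)) :=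
      (Int.isCoprime_two_right.2 (odd_two_mul_add_one d)).pow_right
    refine hf _ ((h.mem _).1 (zpow_mem_zpowers u (-c * α))) ?_
    have e1 : a' * a * a'⁻¹ = a * y := by
      calc _ = (a * a) * (a' * a * a'⁻¹) := by rw [h.a2, one_mul]
        _ = _ := by rw [hy, ia']; simp only [mul_assoc]
    rw [eq_comm, ← mul_inv_eq_iff_eq_mul]
    calc _ = (a' * a * a'⁻¹) * (a' * u ^ (-c * α) * a'⁻¹) := by group
      _ = _ := by
        rw [e1, hc, ← hi, mul_assoc, ← zpow_add, mul_right_inj, ← mul_inv_eq_one, ← zpow_sub, hdvd]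
        refine ⟨2 * c * β, ?_⟩
        linear_combination (-2 * c) * e
  · rw [← hi]; exact h.gen_of_odd hS (odd_two_mul_add_one c)

variable {a'' z'' u'' : G}

/-- There are no three different classes. -/
theorem three (hS : IsPGroup 2 S) (h : KD S a z u) (h' : KD S a' z' u') (h'' : KD S a'' z'' u'')
    (f1 : ∀ b, Cl S a b → b * a' ≠ a' * b) (f2 : ∀ b, Cl S a b → b * a'' ≠ a'' * b)
    (f3 : ∀ b, Cl S a' b → b * a'' ≠ a'' * b) (f4 : ∀ b, Cl S a' b → b * a ≠ a * b) : False := by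
  have ia := inv_eq_of_mul_eq_one_right h.a2
  have ia' := inv_eq_of_mul_eq_one_right h'.a2
  have ia'' := inv_eq_of_mul_eq_one_right h''.a2
  have e1 := h.pair hS h' f1
  have e2 := h.pair hS h'' f2
  have e3 := h'.pair hS h'' f3
  have e4 := h'.pair hS h f4
  have e5 : zpowers u' = zpowers u := by
    rw [← e4, ← e1, ← zpowers_inv]
    simp only [mul_inv_rev, ia, ia']
  rw [e5] at e3
  have sq : ∀ {c d : G}, c * c = 1 → d * d = 1 →
      d * (c * d * (c * d)) * d⁻¹ = (c * d * (c * d))⁻¹ := fun hc hd => by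
    simpa only [pow_two] using inv_pow_of (inverts_mul' hc hd) 2
  have i1 : ∀ y ∈ zpowers u, a' * y * a'⁻¹ = y⁻¹ := fun y hy =>
    inv_of_mem (sq h.a2 h'.a2) (e1 ▸ hy)
  have i2 : ∀ y ∈ zpowers u, a'' * y * a''⁻¹ = y⁻¹ := fun y hy =>
    inv_of_mem (sq h.a2 h''.a2) (e2 ▸ hy)
  obtain ⟨i, hi, p1⟩ := h.odd_of_gen hS e1
  obtain ⟨j, hj, p2⟩ := h.odd_of_gen hS e2
  obtain ⟨l, hl, p3⟩ := h.odd_of_gen hS e3
  have iw : ∀ y ∈ zpowers u, (a * a' * a'') * y * (a * a' * a'')⁻¹ = y⁻¹ := fun y hy => by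
    calc _ = a * (a' * (a'' * y * a''⁻¹) * a'⁻¹) * a⁻¹ := by group
      _ = _ := by rw [i2 y hy, i1 _ (inv_mem hy), inv_inv, h.inv hy]
  have ew : (a * a' * a'') * (a * a' * a'') = u ^ (i + l - j) := by
    have q1 : a'' * a = a * a'' * (u ^ j)⁻¹ := by
      rw [← p2, mul_inv_rev, mul_inv_cancel_left, mul_inv_rev, ia, ia'']
    have q2 : (u ^ j)⁻¹ * a' * a'' = a' * a'' * (u ^ j)⁻¹ := by
      have r1 := i1 _ (zpow_mem_zpowers u j)
      have r2 := i2 _ (inv_mem (zpow_mem_zpowers u j))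
      rw [inv_inv] at r2
      calc _ = a' * u ^ j * a'' := by rw [← r1]; group
        _ = _ := by nth_rewrite 1 [← r2]; group
    calc _ = a * a' * (a'' * a) * a' * a'' := by group
      _ = a * a' * (a * a'') * ((u ^ j)⁻¹ * a' * a'') := by rw [q1]; group
      _ = (a * a' * (a * a')) * (a'⁻¹ * a'' * (a' * a'')) * (u ^ j)⁻¹ := by rw [q2]; group
      _ = _ := by rw [ia', p1, p3, zpow_sub, zpow_add]
  have := iw _ (zpow_mem_zpowers u (i + l - j))
  rw [← ew, mul_assoc (a * a' * a''), mul_assoc (a * a' * a''), mul_inv_cancel, mul_one, ew,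
    eq_inv_iff_mul_eq_one, ← (Commute.refl u).mul_zpow] at this
  have e6 := h.gen_of_odd hS ((hi.add_odd hl).sub_odd hj)
  obtain ⟨n, hn⟩ := mem_zpowers_iff.1 (e6.symm ▸ mem_zpowers u)
  apply h.u2
  rw [← hn, ← (Commute.refl _).mul_zpow, ← (Commute.refl u).mul_zpow, this, one_zpow]

end KD

theorem eq_one_of_odd [Finite G] {h c s : G} (ho : Odd (orderOf h)) (hc : Two c)
    (e1 : h * c = c * h) (e2 : h * s * h⁻¹ = c * s) : c = 1 := by
  have key : ∀ n : ℕ, h ^ n * s * (h ^ n)⁻¹ = c ^ n * s := fun n => by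
    induction n with
    | zero => simp
    | succ n ih =>
      calc _ = h * (h ^ n * s * (h ^ n)⁻¹) * h⁻¹ := by rw [pow_succ']; group
        _ = (h * c ^ n) * s * h⁻¹ := by rw [ih]; group
        _ = c ^ n * (h * s * h⁻¹) := by rw [((show Commute h c from e1).pow_right n).eq]; group
        _ = _ := by rw [e2, pow_succ, mul_assoc]
  have e3 := key (orderOf h)
  rw [pow_orderOf_eq_one, one_mul, inv_one, mul_one, eq_comm, mul_eq_right] at e3
  obtain ⟨k, hk⟩ := hc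
  exact orderOf_eq_one_iff.1 (Nat.eq_one_of_dvd_coprimes
    ((Nat.coprime_two_left.2 ho).symm.pow_right k) (orderOf_dvd_of_pow_eq_one e3)
    (orderOf_dvd_of_pow_eq_one hk))

/-- An element of odd order centralizing `Ω₁(U)` centralizes the abelian `2`-group `U`. -/
theorem odd_cent [Finite G] {U : Subgroup G} (hU : IsPGroup 2 U)
    (hc : ∀ x ∈ U, ∀ y ∈ U, x * y = y * x) {h : G} (ho : Odd (orderOf h))
    (hn : ∀ x ∈ U, h * x * h⁻¹ ∈ U) (h1 : ∀ x ∈ U, x * x = 1 → h * x = x * h) {x : G}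
    (hx : x ∈ U) : h * x = x * h := by
  obtain ⟨k, hk⟩ := two_of_mem hU hx
  induction k generalizing x with
  | zero => rw [pow_zero, pow_one] at hk; simp [hk]
  | succ k ih =>
    have e := ih (mul_mem hx hx) (by rw [← pow_two, ← pow_mul, ← pow_succ', hk])
    have hm : h * x * h⁻¹ * x⁻¹ ∈ U := mul_mem (hn x hx) (inv_mem hx)
    have e2 : h * x * h⁻¹ * x⁻¹ * (h * x * h⁻¹ * x⁻¹) = 1 := by
      calc _ = h * x * h⁻¹ * (x⁻¹ * (h * x * h⁻¹)) * x⁻¹ := by group
        _ = h * (x * x) * h⁻¹ * (x * x)⁻¹ := by rw [hc _ (inv_mem hx) _ (hn x hx)]; group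
        _ = 1 := by rw [e]; group
    have := eq_one_of_odd (s := x) ho (two_of_mem hU hm) (h1 _ hm e2) (by group)
    rwa [mul_inv_eq_one, mul_inv_eq_iff_eq_mul] at this

/-- A family of such classes. -/
structure Fam (S : Subgroup G) (A : Set G) : Prop where
  ta : ∀ a ∈ A, ∃ z, TA S a z
  inv : ∀ g ∈ nor S, ∀ a ∈ A, g * a * g⁻¹ ∈ A
  sep : ∀ a ∈ A, ∀ b ∈ A, a * b = b * a → Cl S a b

namespace Fam

variable [Finite G] {S : Subgroup G} {A : Set G} (hS : IsPGroup 2 S) (h : Fam S A)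
include h

omit [Finite G] in
theorem cl_mem {a b : G} (ha : a ∈ A) (hb : Cl S a b) : b ∈ A := by
  obtain ⟨s, hs, rfl⟩ := hb
  exact h.inv s (le_normalizer hs) a ha

omit [Finite G] in
theorem free {a a' : G} (ha : a ∈ A) (ha' : a' ∈ A) (hn : ¬ Cl S a a') :
    ∀ b, Cl S a b → b * a' ≠ a' * b := fun b hb e =>
  hn (hb.trans (h.sep b (h.cl_mem ha hb) a' ha' e))

include hS

theorem kd {a : G} (ha : a ∈ A) : ∃ z u, KD S a z u := by
  obtain ⟨z, hz⟩ := h.ta a ha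
  exact ⟨z, hz.exists_kd hS⟩

theorem three {a a' a'' : G} (ha : a ∈ A) (ha' : a' ∈ A) (ha'' : a'' ∈ A) :
    Cl S a a' ∨ Cl S a a'' ∨ Cl S a' a'' := by
  by_contra hn
  simp only [not_or] at hn
  obtain ⟨_, _, k⟩ := h.kd hS ha
  obtain ⟨_, _, k'⟩ := h.kd hS ha'
  obtain ⟨_, _, k''⟩ := h.kd hS ha''
  exact k.three hS k' k'' (h.free ha ha' hn.1) (h.free ha ha'' hn.2.1) (h.free ha' ha'' hn.2.2)
    (h.free ha' ha fun e => hn.1 e.symm)

theorem odd_fix {g a : G} (hg : g ∈ nor S) (ho : Odd (orderOf g)) (ha : a ∈ A) :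
    g * a = a * g := by
  have h1 := h.inv g hg a ha
  have hcl : Cl S a (g * a * g⁻¹) := by
    rcases h.three hS ha h1 (h.inv g hg _ h1) with e | e | e
    · exact e
    · have key : ∀ n : ℕ, Cl S a (g ^ (2 * n) * a * (g ^ (2 * n))⁻¹) := fun n => by
        induction n with
        | zero => simpa using Cl.refl S a
        | succ n ih =>
          have := e.conj (pow_mem hg (2 * n))
          refine ih.trans (by convert this using 1; group)
      obtain ⟨n, hn⟩ := ho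
      have := key (n + 1)
      rwa [show 2 * (n + 1) = orderOf g + 1 by omega, pow_succ, pow_orderOf_eq_one, one_mul] at this
    · have := e.conj (inv_mem hg)
      convert this using 1 <;> group
  obtain ⟨z, u, k⟩ := h.kd hS ha
  have hK : IsPGroup 2 (zpowers u) := hS.to_le fun y hy => k.uS hy
  have hc : ∀ y ∈ zpowers u, g * y = y * g := fun y hy => by
    refine odd_cent hK ?_ ho (fun x hx => k.conj_mem hg hcl hx) (fun x hx h2 => ?_) hy
    · rintro _ ⟨i, rfl⟩ _ ⟨j, rfl⟩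
      exact zpow_mul_comm u i j
    · by_cases e : x = 1
      · simp [e]
      rw [← mul_inv_eq_iff_eq_mul, k.uniq hx e h2]
      refine k.uniq (k.conj_mem hg hcl k.z_mem) (by simpa using k.z1) ?_
      calc _ = g * (z * z) * g⁻¹ := by group
        _ = 1 := by rw [k.z2]; group
  have hm := k.mul_mem'' hcl (Cl.refl S a)
  have := eq_one_of_odd (s := a) ho (two_of_mem hK hm) (hc _ hm)
    (by rw [mul_assoc _ a a, k.a2, mul_one])
  rwa [mul_eq_one_iff_eq_inv, inv_eq_of_mul_eq_one_right k.a2, mul_inv_eq_iff_eq_mul] at this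

theorem dihedral {a : G} (ha : a ∈ A) :
    ∃ m : ℕ, 2 ≤ m ∧ Nonempty (closure A ≃* DihedralGroup m) := by
  obtain ⟨z, u, k⟩ := h.kd hS ha
  suffices ∃ b ∈ A, b * b = 1 ∧ b * a ≠ a * b ∧ A ⊆ closure {a * b, a} by
    obtain ⟨b, hb, hb2, hn, hA⟩ := this
    have e : closure A = closure {a * b, a} := by
      refine le_antisymm ((closure_le _).2 hA) ((closure_le _).2 ?_)
      rw [Set.insert_subset_iff, Set.singleton_subset_iff]
      exact ⟨mul_mem (subset_closure ha) (subset_closure hb), subset_closure ha⟩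
    rw [e]
    refine ⟨orderOf (a * b), ?_, H3.nonempty_closure_mulEquiv_dihedral rfl
      (by rw [pow_two, k.a2]) (inverts_mul k.a2 hb2) ?_⟩
    · have := orderOf_pos (a * b)
      have : orderOf (a * b) ≠ 1 := fun e => hn (by
        rw [orderOf_eq_one_iff] at e
        rw [← inv_eq_of_mul_eq_one_right e]; simp)
      omega
    · rintro ⟨n, hn'⟩
      have : a * b * a = a * (a * b) := by
        have := ((Commute.refl (a * b)).zpow_right n).eq
        simp only at hn'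
        rwa [hn'] at this
      exact hn (mul_left_cancel (by rwa [mul_assoc] at this))
  have hcl : ∀ {a z u : G} {X : Subgroup G}, KD S a z u → a ∈ X → u ∈ X → ∀ c, Cl S a c → c ∈ X :=
    fun k h1 h2 c hc => (Subgroup.mul_mem_cancel_left _ h1).1 (zpowers_le.2 h2 (k.mul_mem' hc))
  by_cases hall : ∀ c ∈ A, Cl S a c
  · have hu := (k.mem u).1 (mem_zpowers u)
    have e : a * (a * u) = u := by rw [← mul_assoc, k.a2, one_mul]
    refine ⟨a * u, h.cl_mem ha hu, hu.sq k.a2, fun e2 => k.u2 ?_, fun c hc =>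
      hcl k (subset_closure (by simp)) (subset_closure (by simp [e])) c (hall c hc)⟩
    have := k.inv (mem_zpowers u)
    rwa [inv_eq_of_mul_eq_one_right k.a2, e2, e, eq_inv_iff_mul_eq_one] at this
  · push Not at hall
    obtain ⟨b, hb, hn⟩ := hall
    obtain ⟨z', u', k'⟩ := h.kd hS hb
    have e1 := k.pair hS k' (h.free ha hb hn)
    have e2 := k'.pair hS k (h.free hb ha fun e => hn e.symm)
    have m1 : a ∈ closure ({a * b, a} : Set G) := subset_closure (by simp)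
    have m2 : b ∈ closure ({a * b, a} : Set G) :=
      (Subgroup.mul_mem_cancel_left _ m1).1 (subset_closure (by simp))
    refine ⟨b, hb, k'.a2, fun e => h.free ha hb hn a (Cl.refl S a) e.symm, fun c hc => ?_⟩
    rcases h.three hS ha hb hc with e | e | e
    · exact absurd e hn
    · exact hcl k m1 (zpowers_le.2 (mul_mem (mul_mem m1 m2) (mul_mem m1 m2))
        (e1.symm ▸ mem_zpowers u)) c e
    · exact hcl k' m2 (zpowers_le.2 (mul_mem (mul_mem m2 m1) (mul_mem m2 m1))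
        (e2.symm ▸ mem_zpowers u')) c e

end Fam

end H32.Abi
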