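import Cfsg.Agent.H32.AIDih

/-! Abelian Sylow intersections (S3186), part 2: essential subgroups. -/

set_option autoImplicit false

namespace H32.Abi

open Cfsg Subgroup H14 H98 H1.Gold H10.C2
open H86.AG (Ess)
open scoped commutatorElement

universe u

variable {G : Type u} [Group G]

theorem card_rel (H K : Subgroup G) :
    Nat.card (H ⊓ K : Subgroup G) * H.relIndex K = Nat.card K := by
  have := relIndex_mul_relIndex ⊥ (H ⊓ K) K bot_le inf_le_right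
  rwa [relIndex_bot_left, relIndex_bot_left, inf_relIndex_right] at this

theorem rel_ne [Finite G] (H K : Subgroup G) : H.relIndex K ≠ 0 := index_ne_zero_of_finite

theorem rel_le [Finite G] {H H' K : Subgroup G} (h : H ⊓ K ≤ H') :
    H'.relIndex K ≤ H.relIndex K := by
  rw [← inf_relIndex_right H]
  exact relIndex_le_of_le_left h (rel_ne _ _)

theorem two_le_rel [Finite G] {H K : Subgroup G} (h : ¬ K ≤ H) : 2 ≤ H.relIndex K := by
  have := rel_ne H K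
  have := mt relIndex_eq_one.1 h
  omega

theorem mul_mem_of_rel {H K : Subgroup G} (h : H.relIndex K = 2) {a b : G} (ha : a ∈ K)
    (hb : b ∈ K) (h1 : a ∉ H) (h2 : b ∉ H) : a * b ∈ H :=
  (mul_mem_iff_of_index_two (H := H.subgroupOf K) h (a := ⟨a, ha⟩) (b := ⟨b, hb⟩)).2
    (iff_of_false h1 h2)

theorem rel_eq_two {H K : Subgroup G} {x : G} (hx : x ∈ K) (h1 : x ∉ H)
    (h : ∀ b ∈ K, b ∉ H → b * x ∈ H) : H.relIndex K = 2 := by
  refine relIndex_eq_two_iff.2 ⟨x, hx, fun b hb => ?_⟩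
  by_cases e : b ∈ H
  · exact Or.inr ⟨e, fun e2 => h1 ((H.mul_mem_cancel_left e).1 e2)⟩
  · exact Or.inl ⟨h b hb e, e⟩

theorem mem_cen {X : Subgroup G} {g : G} : g ∈ cen X ↔ ∀ x ∈ X, x * g = g * x :=
  mem_centralizer_iff

theorem le_or_le {E A B : Subgroup G} (h : ∀ x ∈ E, x ∈ A ∨ x ∈ B) : E ≤ A ∨ E ≤ B := by
  by_contra hn
  rw [not_or] at hn
  obtain ⟨a, ha, h1⟩ := SetLike.not_le_iff_exists.1 hn.1
  obtain ⟨b, hb, h2⟩ := SetLike.not_le_iff_exists.1 hn.2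
  rcases h _ (mul_mem ha hb) with e | e
  · exact h1 ((A.mul_mem_cancel_right ((h b hb).resolve_right h2)).1 e)
  · exact h2 ((B.mul_mem_cancel_left ((h a ha).resolve_left h1)).1 e)

/-- `Ω₁(U)`. -/
def om (U : Subgroup G) : Subgroup G := closure {x | x ∈ U ∧ x * x = 1}

theorem om_le (U : Subgroup G) : om U ≤ U := (closure_le _).2 fun _ h => h.1

theorem mem_om_of {U : Subgroup G} {x : G} (h : x ∈ U) (h2 : x * x = 1) : x ∈ om U :=
  subset_closure ⟨h, h2⟩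

theorem om_sq {U : Subgroup G} (hc : U ≤ cen U) {x : G} (h : x ∈ om U) : x * x = 1 := by
  induction h using closure_induction with
  | mem x h => exact h.2
  | one => simp
  | mul x y hx hy h1 h2 =>
    rw [mul_assoc, ← mul_assoc y, hc (om_le U hx) y (om_le U hy), mul_assoc, h2, mul_one, h1]
  | inv x _ h => rw [← mul_inv_rev, h, inv_one]

theorem cj_om (g : G) (U : Subgroup G) : cj g (om U) = om (cj g U) := by
  have key : ∀ (g : G) (U : Subgroup G), cj g (om U) ≤ om (cj g U) := fun g U => by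
    rw [cj_le_iff]
    refine (closure_le _).2 fun x h => ?_
    rw [SetLike.mem_coe, mem_cj, inv_inv]
    refine mem_om_of (conj_mem_cj h.1) ?_
    calc _ = g * (x * x) * g⁻¹ := by group
      _ = 1 := by rw [h.2]; group
  refine le_antisymm (key g U) (le_cj_iff.2 ?_)
  simpa [cj_inv_cj] using key g⁻¹ (cj g U)

theorem nor_le_om (U : Subgroup G) : nor U ≤ nor (om U) := fun g hg =>
  cj_eq_self_iff.1 (by rw [cj_om, cj_eq_self hg])

theorem mem_fx {N V : Subgroup G} {x : G} :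
    x ∈ fx N V ↔ x ∈ V ∧ ∀ y ∈ N, Two y → y * x = x * y := by
  refine and_congr_right fun _ => ⟨fun h y hy h2 => h y (subset_closure ⟨hy, h2⟩), fun h => ?_⟩
  have : closure {y | y ∈ N ∧ Two y} ≤ cen1 x :=
    (closure_le _).2 fun y hy => mem_cen1.2 (h y hy.1 hy.2)
  exact fun y hy => mem_cen1.1 (this hy)

theorem fx_conj {N V : Subgroup G} (hN : N ≤ nor V) {g x : G} (hg : g ∈ N) (hx : x ∈ fx N V) :
    g * x * g⁻¹ ∈ fx N V := by
  rw [mem_fx] at hx ⊢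
  refine ⟨conj_mem_of_mem_normalizer (hN hg) hx.1, fun y hy h2 => ?_⟩
  have := hx.2 (g⁻¹ * y * g⁻¹⁻¹) (mul_mem (mul_mem (inv_mem hg) hy) (inv_mem (inv_mem hg)))
    (two_conj h2 _)
  calc _ = g * (g⁻¹ * y * g⁻¹⁻¹ * x) * g⁻¹ := by group
    _ = _ := by rw [this]; group

/-- Abelian Sylow intersections. -/
structure AI (S : Subgroup G) : Prop where
  syl : IsSyl 2 S ⊤
  ai : ∀ g : G, ∀ x ∈ S, ∀ y ∈ S, g * x * g⁻¹ ∈ S → g * y * g⁻¹ ∈ S → x * y ≠ y * x → g ∈ nor S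

theorem AI.nor_le {S X : Subgroup G} (h : AI S) (hX : X ≤ S) (hn : ¬ X ≤ cen X) :
    nor X ≤ nor S := fun g hg => by
  obtain ⟨x, hx, h1⟩ := SetLike.not_le_iff_exists.1 hn
  rw [mem_cen] at h1
  push Not at h1
  obtain ⟨y, hy, h1⟩ := h1
  exact h.ai g y (hX hy) x (hX hx) (hX (conj_mem_of_mem_normalizer hg hy))
    (hX (conj_mem_of_mem_normalizer hg hx)) h1

/-- What is used about an essential subgroup. -/
structure ES (S U : Subgroup G) : Prop where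
  pS : IsPGroup 2 S
  le : U ≤ S
  ab : U ≤ cen U
  cv : S ⊓ cen (om U) ≤ U
  lt : U < S ⊓ nor U
  syl : IsSyl 2 (S ⊓ nor U) (nor U)
  cc : nor U ⊓ cen (om U) ≤ cen U
  nt : nor (S ⊓ nor U) ≤ nor S
  ff : ∀ A ≤ S ⊓ nor U, ¬ A ≤ U → ⁅om U, A⁆ ≤ cen A →
    (cen A).relIndex (om U) ≤ U.relIndex A →
    S ⊓ nor U ≤ A ⊔ U ∧ FFD (nor U) (S ⊓ nor U) (om U)

variable [Finite G] {S U Q : Subgroup G}

theorem le_of_inf_nor {X : Subgroup G} (hX : IsPGroup 2 X) (h1 : U ≤ X) (h2 : X ⊓ nor U ≤ U) :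
    X ≤ U := by
  have : Fact (Nat.Prime 2) := ⟨Nat.prime_two⟩
  by_contra hn
  exact (lt_inf_normalizer hX (lt_of_le_not_ge h1 hn)).not_ge h2

theorem es_of (hF : JobFF.{u}) (hV : JobSEV.{u}) (h : AI S) {M : Subgroup G} (hE : Ess 2 S U M) :
    ES S U := by
  have : Fact (Nat.Prime 2) := ⟨Nat.prime_two⟩
  have hS := h.syl.isPGroup
  have hlt := hE.lt hS
  have hab : U ≤ cen U := by
    by_contra hn
    exact hE.nle ((le_inf le_rfl (le_normalizer_inf (h.nor_le hE.le hn) le_normalizer)).trans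
      (hE.up _ hlt le_rfl))
  have hX : nor U ≤ nor (nor U ⊓ cen (om U)) :=
    le_normalizer_inf le_normalizer (le_normalizer_centralizer (nor_le_om U))
  have hs := hE.syl.inf_of_le_normalizer (N := nor U ⊓ cen (om U)) inf_le_left
    (inf_le_right.trans hX)
  have h3 : nor U ⊓ cen (om U) ≤ (S ⊓ nor U ⊓ (nor U ⊓ cen (om U))) ⊔ cen U := by
    refine hs.sup_res.ge.trans (sup_le_sup_left (res_le_of_forall fun y hy ho x hx => ?_) _)
    exact (odd_cent (hS.to_le hE.le) (fun x hx y hy => hab hy x hx) (Nat.coprime_two_right.1 ho)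
      (fun x hx => conj_mem_of_mem_normalizer hy.1 hx)
      (fun x hx h2 => (hy.2 x (mem_om_of hx h2)).symm) hx).symm
  have h4 : S ⊓ nor U ⊓ (nor U ⊓ cen (om U)) ≤ U := by
    by_contra hn
    exact hE.nle ((hE.not_le_of hS inf_le_left hX h3 hn).trans (sup_le le_rfl hE.cen_le))
  have hcc : nor U ⊓ cen (om U) ≤ cen U := h3.trans (sup_le (h4.trans hab) le_rfl)
  have hUV : U ≤ cen (om U) := hab.trans (centralizer_anti (om_le U))
  have h5 : S ⊓ nor U ⊓ cen (om U) = U :=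
    le_antisymm (fun x hx => h4 ⟨hx.1, hx.1.2, hx.2⟩) (le_inf hlt.le hUV)
  refine ⟨hS, hE.le, hab, le_of_inf_nor (hS.to_le inf_le_left) (le_inf hE.le hUV)
    fun x hx => h5.le ⟨⟨hx.1.1, hx.2⟩, hx.1.2⟩, hlt, hE.syl, hcc, h.nor_le inf_le_left fun hn =>
      hlt.not_ge fun x hx => hE.centric hS ⟨hx.1, centralizer_anti hlt.le (hn hx)⟩,
    fun A hA h1 h2 h3 => ?_⟩
  have := hF G _ _ _ _ A (hV G S U M (om U) hS hE
    (elem_of_forall fun x hx => by rw [pow_two, om_sq hab hx]) (om_le U) (nor_le_om U) h5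
    (hcc.trans hE.cen_le)) hA (fun e => h1 fun x hx => h5.le ⟨hA hx, e hx⟩) h2
    (h3.trans (rel_le fun x hx => h5.le ⟨hA hx.2, hx.1⟩))
  rwa [h5] at this

namespace ES

variable (h : ES S U)
include h

omit [Finite G] in
theorem cenS : S ⊓ cen U ≤ U := (inf_le_inf_left _ (centralizer_anti (om_le U))).trans h.cv

omit [Finite G] in
theorem comm {x y : G} (hx : x ∈ U) (hy : y ∈ U) : x * y = y * x := h.ab hy x hx

omit [Finite G] in
theorem le_cen_om : U ≤ cen (om U) := h.ab.trans (centralizer_anti (om_le U))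

omit [Finite G] in
theorem eq_of_le (h' : ES S Q) (e : U ≤ Q) : U = Q :=
  le_antisymm e fun _ hx => h.cenS ⟨h'.le hx, centralizer_anti e (h'.ab hx)⟩

omit [Finite G] in
theorem not_le : ¬ S ⊓ nor U ≤ cen (om U) := fun e =>
  h.lt.not_ge fun _ hx => h.cv ⟨hx.1, e hx⟩

omit [Finite G] in
theorem rel_om {A : Subgroup G} (hA : A ≤ S) : (cen (om U)).relIndex A = U.relIndex A := by
  rw [← inf_relIndex_right, ← inf_relIndex_right U]
  congr 1
  exact le_antisymm (fun x hx => ⟨h.cv ⟨hA hx.2, hx.1⟩, hx.2⟩) (inf_le_inf_right _ h.le_cen_om)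

theorem cen1_le {a : G} (ha : a ∈ U) (h1 : ∀ s ∈ S ⊓ nor U, s * a = a * s → s ∈ U) :
    ∀ s ∈ S, s * a = a * s → s ∈ U := fun s hs e =>
  le_of_inf_nor (X := S ⊓ cen1 a) (h.pS.to_le inf_le_left)
    (fun x hx => ⟨h.le hx, mem_cen1.2 (h.comm hx ha)⟩)
    (fun x hx => h1 x ⟨hx.1.1, hx.2⟩ (mem_cen1.1 hx.1.2)) ⟨hs, mem_cen1.2 e⟩

theorem mem_nor {a : G} (h1 : ∀ s ∈ S, s * a = a * s → s ∈ U) {s : G} (hs : s ∈ S)
    (e : s * a * s⁻¹ ∈ U) : s ∈ nor U := by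
  refine (inv_mem_iff (H := nor U)).1 (mem_normalizer_of_cj_le fun x hx => ?_)
  rw [mem_cj, inv_inv] at hx
  refine h1 x ((S.mul_mem_cancel_left hs).1 ((S.mul_mem_cancel_right (inv_mem hs)).1
    (h.le hx))) ?_
  have := h.comm hx e
  calc _ = s⁻¹ * (s * x * s⁻¹ * (s * a * s⁻¹)) * s := by group
    _ = _ := by rw [this]; group

/-- Step (1) of the blueprint. -/
theorem pair (h' : ES S Q) (hne : U ≠ Q) (n1 : Q ≤ nor U) (n2 : U ≤ nor Q)
    (hc : Nat.card U ≤ Nat.card Q) :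
    S ⊓ nor U ≤ Q ⊔ U ∧ FFD (nor U) (S ⊓ nor U) (om U) ∧ U ≤ om U ⊔ (U ⊓ Q) ∧
      Q.relIndex (om U) = U.relIndex (S ⊓ nor U) := by
  have i1 : Q.relIndex (om U) ≤ Q.relIndex U := relIndex_le_of_le_right (om_le U) (rel_ne _ _)
  have i2 : Q.relIndex U ≤ U.relIndex Q := by
    rw [← card_rel Q U, ← card_rel U Q, inf_comm] at hc
    exact Nat.le_of_mul_le_mul_left hc Nat.card_pos
  have i3 : U.relIndex Q ≤ U.relIndex (S ⊓ nor U) :=
    relIndex_le_of_le_right (le_inf h'.le n1) (rel_ne _ _)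
  obtain ⟨e1, e2⟩ := h.ff Q (le_inf h'.le n1) (fun e => hne (h'.eq_of_le h e).symm)
    ((commutator_le_right' ((om_le U).trans n2)).trans h'.ab)
    ((rel_le (inf_le_left.trans h'.ab)).trans (i1.trans i2))
  have i4 := e2.idx1
  rw [h.rel_om inf_le_left] at i4
  have i5 : (cen (S ⊓ nor U)).relIndex (om U) ≤ Q.relIndex (om U) := rel_le fun x hx =>
    centralizer_anti e1 (by
      rw [centralizer_sup]; exact ⟨h'.ab hx.1, h.ab (om_le U hx.2)⟩)
  refine ⟨e1, e2, ?_, by omega⟩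
  have j1 := relIndex_mul_relIndex (U ⊓ Q) (om U ⊔ (U ⊓ Q)) U le_sup_right
    (sup_le (om_le U) inf_le_left)
  have j2 : Q.relIndex (om U) ≤ (U ⊓ Q).relIndex (om U ⊔ (U ⊓ Q)) :=
    (rel_le (inf_le_left.trans inf_le_right)).trans
      (relIndex_le_of_le_right le_sup_left (rel_ne _ _))
  rw [inf_relIndex_left] at j1
  have j3 := rel_ne (om U ⊔ (U ⊓ Q)) U
  have j4 := rel_ne Q U
  refine relIndex_eq_one.1 ?_
  by_contra j5
  have : (U ⊓ Q).relIndex (om U ⊔ (U ⊓ Q)) * 2 ≤ Q.relIndex U :=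
    j1 ▸ Nat.mul_le_mul_left _ (by omega)
  omega

theorem exists_cj {y : G} (hy : y ∈ nor U) (h2 : Two y) :
    ∃ g ∈ nor U, g * y * g⁻¹ ∈ S ⊓ nor U := by
  have : Fact (Nat.Prime 2) := ⟨Nat.prime_two⟩
  obtain ⟨g, hg, e⟩ := h.syl.exists_cj_le h2.isPGroup (zpowers_le.2 hy)
  exact ⟨g, hg, e (conj_mem_cj (mem_zpowers y))⟩

/-- `N(U) = O^{2'}(N(U)) (N(U) ∩ N(S))`. -/
theorem le_nor {Y : Subgroup G} (h1 : ∀ g ∈ nor U, g ∈ nor S → g ∈ nor Y)
    (h2 : ∀ g ∈ nor U, ∀ s ∈ S ⊓ nor U, g * s * g⁻¹ ∈ nor Y) : nor U ≤ nor Y := fun g hg => by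
  have : Fact (Nat.Prime 2) := ⟨Nat.prime_two⟩
  have hle : ncl (S ⊓ nor U) (nor U) ≤ nor U := ncl_le inf_le_right
  obtain ⟨a, ha, n, hn, rfl⟩ :=
    (h.syl.of_le (le_ncl _ (nor U)) hle).frattini_mem (le_nor_ncl _ _ hg)
  exact mul_mem (h1 a (((nor U).mul_mem_cancel_right (hle hn)).1 hg) (h.nt ha))
    (ncl_le_iff.2 (fun s hs g hg => h2 g hg s hs) hn)

end ES

/-- `U = Ω₁(U) C_U(T)`. -/
structure Sp (S U : Subgroup G) : Prop extends ES S U where
  ffd : FFD (nor U) (S ⊓ nor U) (om U)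
  split : ∀ a ∈ U, ∃ v ∈ om U, ∃ z ∈ U ⊓ cen (S ⊓ nor U), a = v * z

namespace Sp

variable (h : Sp S U)
include h

theorem cent {a : G} (ha : a ∈ U) (h1 : a ∉ cen (S ⊓ nor U)) :
    ∀ s ∈ S, s * a = a * s → s ∈ U := by
  refine h.cen1_le ha fun s hs e => ?_
  obtain ⟨v, hv, z, hz, rfl⟩ := h.split a ha
  by_contra hn
  refine h1 (mul_mem (h.ffd.cent s hs (fun e2 => hn (h.cv ⟨hs.1, e2⟩)) v hv ?_) hz.2)
  rw [mul_assoc, ← hz.2 s hs, ← mul_assoc, ← mul_assoc] at e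
  exact (mul_right_cancel e).symm

theorem sq_mem {c : G} (hc : c ∈ U) {y : G} (hy : y ∈ nor U) (h2 : Two y) :
    y * (c * c) = c * c * y := by
  obtain ⟨g, hg, e⟩ := h.exists_cj hy h2
  obtain ⟨v, hv, z, hz, e2⟩ := h.split _ (conj_mem_of_mem_normalizer hg hc)
  have e3 : g * (c * c) * g⁻¹ = z * z := by
    calc _ = v * z * (v * z) := by rw [← e2]; group
      _ = _ := by rw [mul_assoc, ← mul_assoc z, h.comm hz.1 (om_le U hv), mul_assoc, ← mul_assoc,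
        om_sq h.ab hv, one_mul]
  have := mul_mem hz.2 hz.2 _ e
  calc _ = g⁻¹ * (g * y * g⁻¹ * (g * (c * c) * g⁻¹)) * g := by group
    _ = _ := by rw [e3, this, ← e3]; group

omit [Finite G] in
theorem ncomm {a s : G} (ha : a ∈ U) (hs : s ∈ S ⊓ nor U) (h1 : ⁅a, s⁆ ≠ 1) :
    ⁅a, s⁆ ∈ om U ∧ ⁅a, s⁆ ∈ cen (S ⊓ nor U) ∧ ⁅a, s⁆ ∉ fx (nor U) (om U) := by
  obtain ⟨v, hv, z, hz, rfl⟩ := h.split a ha
  have e : ⁅v * z, s⁆ = ⁅v, s⁆ := by
    simp only [commutatorElement_def]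
    rw [mul_assoc v, ← hz.2 s hs]; group
  rw [e] at h1 ⊢
  rw [Ne, commutatorElement_eq_one_iff_mul_comm] at h1
  exact ⟨commutator_le_left' (inf_le_right.trans (nor_le_om U)) (commutator_mem_commutator hv hs),
    h.ffd.quad (commutator_mem_commutator hv hs),
    h.ffd.ncomm v hv (fun e2 => h1 (e2 s hs).symm) s hs fun e2 => h1 (e2 v hv)⟩

/-- A nontrivial commutator is not a square in `U`. -/
theorem ns {a s c : G} (ha : a ∈ U) (hs : s ∈ S ⊓ nor U) (hc : c ∈ U) (e : ⁅a, s⁆ = c * c) :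
    ⁅a, s⁆ = 1 := by
  by_contra h1
  obtain ⟨h2, -, h3⟩ := h.ncomm ha hs h1
  exact h3 (mem_fx.2 ⟨h2, fun y hy h4 => e ▸ h.sq_mem hc hy h4⟩)

end Sp

theorem ES.sp_of (h : ES S U) (h' : ES S Q) (hne : U ≠ Q) (n1 : Q ≤ nor U) (n2 : U ≤ nor Q)
    (hc : Nat.card U ≤ Nat.card Q) : Sp S U ∧ U ⊓ Q = U ⊓ cen (S ⊓ nor U) := by
  obtain ⟨e1, e2, e3, -⟩ := h.pair h' hne n1 n2 hc
  have e4 : U ⊓ Q = U ⊓ cen (S ⊓ nor U) := by
    refine le_antisymm (fun x hx => ⟨hx.1, centralizer_anti e1 ?_⟩) fun x hx =>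
      ⟨hx.1, h'.cenS ⟨h.le hx.1, centralizer_anti (le_inf h'.le n1) hx.2⟩⟩
    rw [centralizer_sup]; exact ⟨h'.ab hx.2, h.ab hx.1⟩
  refine ⟨⟨h, e2, fun a ha => ?_⟩, e4⟩
  rw [← e4]
  exact (mem_sup_left_norm (le_normalizer_of_le_centralizer
    ((om_le U).trans (h.ab.trans (centralizer_anti inf_le_left))))).1 (e3 ha)

/-- Two normal essential subgroups give class two. -/
theorem ES.class_two (h : ES S U) (h' : ES S Q) (hne : U ≠ Q) (n1 : S ≤ nor U) (n2 : S ≤ nor Q)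
    (hc : Nat.card U ≤ Nat.card Q) : ⁅S, S⁆ ≤ cen S := by
  have e1 := (h.pair h' hne (h'.le.trans n1) (h.le.trans n2) hc).1
  have e2 := (h.sp_of h' hne (h'.le.trans n1) (h.le.trans n2) hc).2
  rw [inf_of_le_left n1] at e1 e2
  have e3 : S ≤ nor (U ⊓ Q) := le_normalizer_inf n1 n2
  have c1 : ⁅U, Q⁆ ≤ U ⊓ Q :=
    le_inf (commutator_le_left' (h'.le.trans n1)) (commutator_le_right' (h.le.trans n2))
  have c2 : ∀ {X : Subgroup G}, X ≤ cen X → ⁅X, X⁆ ≤ U ⊓ Q := fun hX =>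
    (commutator_eq_bot_iff_le_centralizer.2 hX).le.trans bot_le
  refine (commutator_mono e1 e1).trans (le_trans ?_ (e2.le.trans inf_le_right))
  exact commutator_sup_left_le (h'.le.trans e3) (h.le.trans e3)
    (commutator_sup_right_le (h'.le.trans e3) (h.le.trans e3) (c2 h'.ab)
      (by rw [Subgroup.commutator_comm]; exact c1))
    (commutator_sup_right_le (h'.le.trans e3) (h.le.trans e3) c1 (c2 h.ab))

end H32.Abi
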