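import Cfsg.Agent.H32.AINN
import Cfsg.Agent.H51.GoldHub

/-! Abelian Sylow intersections (S3186), part 4: the theorem, from `JobFF` and `JobSEV`. -/

set_option autoImplicit false

namespace H32.Abi

open Cfsg Subgroup H14 H98 H1.Gold H10.C2
open H86.AG (Ess)
open scoped commutatorElement

universe u

variable {G : Type u} [Group G] [Finite G] {S : Subgroup G}

theorem class_two_of_gt [IsSimpleGroup G] (hG : ¬ IsMulCommutative G) (hS : IsSyl 2 S ⊤)
    (h : GT G) : ⁅S, S⁆ ≤ cen S := by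
  have : Fact (Nat.Prime 2) := ⟨Nat.prime_two⟩
  have key : ∀ T : Subgroup G, IsSyl 2 T ⊤ → ⁅T, T⁆ ≤ cen T → ⁅S, S⁆ ≤ cen S := by
    intro T hT hc
    obtain ⟨g, -, rfl⟩ := hT.exists_cj_eq hS
    rw [← cj_commutator, cen, ← cj_centralizer]
    exact cj_mono g hc
  rcases h with hse | ⟨T, hT, he, -⟩
  · obtain ⟨T, Z, D, hB⟩ := kb G hG hse
    exact key T hB.syl (hB.comm.trans (le_centralizer_iff.1 hB.central))
  · exact key T hT ((commutator_eq_bot_iff_le_centralizer.2 (le_cen_self_of_elem he)).le.trans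
      bot_le)

theorem no_index_two [IsSimpleGroup G] (hG : ¬ IsMulCommutative G) (hS : IsSyl 2 S ⊤)
    {Y : Subgroup G} (hY : Y ≤ S) (h : SC Y) : Y.relIndex S ≠ 2 := fun e => by
  obtain ⟨N, h1, h2⟩ := exists_index_two_of_sc hS hY h e
  rcases h1.eq_bot_or_eq_top with rfl | rfl
  · rw [index_bot] at h2
    have : Fact (Nat.Prime 2) := ⟨Nat.prime_two⟩
    have := isCyclic_of_prime_card h2
    exact hG inferInstance
  · rw [index_top] at h2; omega

theorem exists_rel_two (hS : IsPGroup 2 S) {X : Subgroup G} (h : X < S) :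
    ∃ Y, X ≤ Y ∧ Y ≤ S ∧ Y.relIndex S = 2 := by
  classical
  have : Fact (Nat.Prime 2) := ⟨Nat.prime_two⟩
  obtain ⟨Y, ⟨h1, h2⟩, hm⟩ := (Set.toFinite {Y | X ≤ Y ∧ Y < S}).exists_maximal ⟨X, le_rfl, h⟩
  have key : ∀ Z, Y < Z → Z ≤ S → S ≤ Z := fun Z e1 e2 => by
    by_contra e3
    exact e1.not_ge (hm ⟨h1.trans e1.le, lt_of_le_not_ge e2 e3⟩ e1.le)
  have hn : S ≤ nor Y := (key _ (lt_inf_normalizer hS h2) inf_le_left).trans inf_le_right
  obtain ⟨w, hw, hwY⟩ := SetLike.exists_of_lt h2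
  have hex : ∃ k, w ^ 2 ^ k ∈ Y := (two_of_mem hS hw).imp fun k e => by rw [e]; exact one_mem Y
  obtain ⟨k, hk⟩ := Nat.exists_eq_succ_of_ne_zero (n := Nat.find hex)
    fun e => hwY (by simpa [e] using Nat.find_spec hex)
  have m1 : w ^ 2 ^ k ∉ Y := Nat.find_min hex (by omega)
  have m2 := Nat.find_spec hex
  rw [hk, pow_succ, pow_mul] at m2
  have m3 := pow_mem hw (2 ^ k)
  generalize w ^ 2 ^ k = x at m1 m2 m3
  refine ⟨Y, h1, h2.le, rel_eq_two m3 m1 fun b hb e => ?_⟩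
  obtain ⟨y, hy, _, ⟨i, rfl⟩, rfl⟩ := (mem_sup_right_norm (zpowers_le.2 (hn m3))).1
    (key (Y ⊔ zpowers x) (left_lt_sup.2 fun e => m1 (e (mem_zpowers x)))
      (sup_le h2.le (zpowers_le.2 m3)) hb)
  have m4 : ∀ j : ℤ, x ^ (2 * j) ∈ Y := fun j => by
    rw [zpow_mul]; exact zpow_mem (by exact_mod_cast m2) j
  obtain ⟨j, rfl | rfl⟩ := Int.even_or_odd' i
  · exact absurd (mul_mem hy (m4 j)) e
  · have := mul_mem hy (m4 (j + 1))
    convert this using 1
    group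

/-- The standing hypotheses. -/
structure Ctx (S : Subgroup G) : Prop where
  syl : IsSyl 2 S ⊤
  es : ∀ U M, Ess 2 S U M → ES S U
  ab : ∀ A : Subgroup G, SC A → A ≤ cen A → A = ⊥
  two : ∀ Y ≤ S, SC Y → Y.relIndex S ≠ 2
  cl : ¬ ⁅S, S⁆ ≤ cen S

namespace Ctx

variable (h : Ctx S)
include h

theorem nn {U M : Subgroup G} (hE : Ess 2 S U M) (hn : ¬ S ≤ nor U) : ∃ x, NN S U x := by
  have : Fact (Nat.Prime 2) := ⟨Nat.prime_two⟩
  obtain ⟨x, hx, h1⟩ := SetLike.exists_of_lt (lt_inf_normalizer h.syl.isPGroup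
    (lt_of_le_not_ge (inf_le_left : S ⊓ nor U ≤ S) fun e => hn (e.trans inf_le_right)))
  exact ⟨x, h.es _ _ hE, h.es _ _ (hE.cj (le_normalizer hx.1)), hx.1, hx.2, fun e => h1 ⟨hx.1, e⟩⟩

theorem exists_nn : ∃ U M, Ess 2 S U M ∧ ¬ S ≤ nor U := by
  have : Fact (Nat.Prime 2) := ⟨Nat.prime_two⟩
  by_contra hn
  push Not at hn
  have uq : ∀ U M Q M', Ess 2 S U M → Ess 2 S Q M' → U = Q := fun U M Q M' h1 h2 => by
    by_contra e
    rcases le_total (Nat.card U) (Nat.card Q) with hc | hc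
    · exact h.cl ((h.es _ _ h1).class_two (h.es _ _ h2) e (hn _ _ h1) (hn _ _ h2) hc)
    · exact h.cl ((h.es _ _ h2).class_two (h.es _ _ h1) (Ne.symm e) (hn _ _ h2) (hn _ _ h1) hc)
  have key : ∀ A ≤ S, A ≤ cen A → S ⊓ cen S ≤ A → ¬ SC A := fun A h1 h2 h3 h4 => by
    have e := h.ab A h4 h2
    have e2 : S = ⊥ := by
      by_contra e2
      have : Nontrivial S := (nontrivial_iff_ne_bot S).2 e2
      have := h.syl.isPGroup.center_nontrivial
      obtain ⟨z, hz⟩ := exists_ne (1 : center S)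
      refine hz (Subtype.ext (Subtype.ext (mem_bot.1 (e ▸ h3 ⟨z.1.2, fun y hy => ?_⟩))))
      exact congrArg Subtype.val (mem_center_iff.1 z.2 ⟨y, hy⟩)
    exact h.cl (by rw [e2]; simp)
  by_cases hex : ∃ U M, Ess 2 S U M
  · obtain ⟨U, M, hE⟩ := hex
    have hU := h.es _ _ hE
    refine key U hU.le hU.ab (fun x hx => hU.cenS ⟨hx.1, centralizer_anti hU.le hx.2⟩)
      (sc_of_ess h.syl hU.le (fun y hy => cj_eq_self_iff.1 (uq _ _ _ _ (hE.cj hy) hE))
        fun Q M' hQ g hg x hx _ => ?_)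
    rw [uq _ _ _ _ hE hQ]
    exact conj_mem_of_mem_normalizer hg hx
  · exact key (S ⊓ cen S) inf_le_left (inf_le_right.trans (centralizer_anti inf_le_left)) le_rfl
      (sc_of_ess h.syl inf_le_left
        (le_normalizer_inf le_rfl (normalizer_le_normalizer_centralizer S))
        fun Q M' hQ => absurd ⟨Q, M', hQ⟩ hex)

theorem small {U M : Subgroup G} (hE : Ess 2 S U M) {x : G} (hx : NN S U x) :
    U.relIndex (S ⊓ nor U) = 2 := by
  by_contra hq
  refine h.two _ inf_le_left (sc_of_ess h.syl inf_le_left (hx.nor_le hq)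
    fun R M' hR g hg y hy _ => hx.big4 hq (h.es _ _ hR) ?_ (conj_mem_of_mem_normalizer hg hy))
    (hx.rel_two' hq)
  by_cases e : S ≤ nor R
  · exact Or.inl e
  · obtain ⟨_, hy⟩ := h.nn hR e
    exact Or.inr hy.sp

theorem t2 {U M : Subgroup G} (hE : Ess 2 S U M) : T2 S U ∧ ¬ S ≤ nor U := by
  have hn : ¬ S ≤ nor U := fun e => by
    obtain ⟨Q, M', hQ, hn⟩ := h.exists_nn
    obtain ⟨x, hx⟩ := h.nn hQ hn
    exact hx.no_normal (h.small hQ hx) (h.es _ _ hE) e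
  obtain ⟨x, hx⟩ := h.nn hE hn
  exact ⟨hx.t2 (h.small hE hx), hn⟩

end Ctx

/-- The involutions attached to the essential subgroups. -/
def AA (S : Subgroup G) : Set G :=
  {a | ∃ U M z g, Ess 2 S U M ∧ IsZ S U z ∧ g ∈ nor U ∧ a = g * z * g⁻¹ ∧ a ∉ cen (S ⊓ nor U)}

/-- The intersection of the subgroups `cc U`. -/
def CC (S : Subgroup G) : Subgroup G := S ⊓ ⨅ (U : Subgroup G) (_ : ∃ M, Ess 2 S U M), cc U

omit [Finite G] in
theorem mem_CC {x : G} : x ∈ CC S ↔ x ∈ S ∧ ∀ U M, Ess 2 S U M → x ∈ cc U := by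
  simp only [CC, mem_inf, mem_iInf, forall_exists_index]

namespace Ctx

variable (h : Ctx S)
include h

theorem fam : Fam S (AA S) := by
  refine ⟨?_, ?_, ?_⟩
  · rintro _ ⟨U, M, z, g, hE, hz, hg, rfl, h1⟩
    obtain ⟨ht, hn⟩ := h.t2 hE
    have hV := conj_mem_of_mem_normalizer (nor_le_om U hg) (ht.z_mem hz).1
    exact ⟨z, ht.ta hn hz (om_le U hV) (om_sq ht.ab hV) h1⟩
  · rintro y hy _ ⟨U, M, z, g, hE, hz, hg, rfl, h1⟩
    refine ⟨_, _, _, y * g * y⁻¹, hE.cj hy, hz.conj hy, ?_, by group, fun e => h1 ?_⟩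
    · have := conj_mem_cj (g := y) hg
      rwa [nor, cj_normalizer] at this
    · rwa [nor, ← cj_normalizer, ← cj_eq_self hy, ← cj_inf, cen, ← cj_centralizer,
        conj_mem_cj_iff] at e
  · rintro _ ⟨U, M, z, g, hE, hz, hg, rfl, h1⟩ _ ⟨U', M', z', g', hE', hz', hg', rfl, h1'⟩ e
    obtain ⟨ht, -⟩ := h.t2 hE
    obtain ⟨ht', -⟩ := h.t2 hE'
    have ha := om_le U (conj_mem_of_mem_normalizer (nor_le_om U hg) (ht.z_mem hz).1)
    have ha' := om_le U' (conj_mem_of_mem_normalizer (nor_le_om U' hg') (ht'.z_mem hz').1)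
    have m := ht.cent ha h1 _ (ht'.le ha') e.symm
    obtain rfl : U = U' := ht.eq_of_le ht'.toES fun y hy =>
      ht'.cent ha' h1' y (ht.le hy) (ht.comm hy m)
    obtain rfl := ht.uniq hz hz'
    exact ht.a_cases hz hg hg' h1 h1'

/-- The conjugates of `z` are products of elements of `AA S`. -/
theorem conj_z {U M : Subgroup G} (hE : Ess 2 S U M) {z g : G} (hz : IsZ S U z) (hg : g ∈ nor U) :
    g * z * g⁻¹ ∈ closure (AA S) := by
  obtain ⟨ht, hn⟩ := h.t2 hE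
  by_cases e : g * z * g⁻¹ ∈ cen (S ⊓ nor U)
  · rw [(ht.stab1 hz hg (ht.stab2 hz hg e)).1]
    obtain ⟨k, hk, h1⟩ := ht.exists_a hz
    have hA : k * z * k⁻¹ ∈ AA S := ⟨U, M, z, k, hE, hz, hk, rfl, h1⟩
    have hV := conj_mem_of_mem_normalizer (nor_le_om U hk) (ht.z_mem hz).1
    exact (Subgroup.mul_mem_cancel_left _ (subset_closure hA)).1 (subset_closure
      (h.fam.cl_mem hA (ht.ta hn hz (om_le U hV) (om_sq ht.ab hV) h1).ex))
  · exact subset_closure ⟨U, M, z, g, hE, hz, hg, rfl, e⟩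

theorem cc_eq_bot : CC S = ⊥ := by
  have hn : nor S ≤ nor (CC S) := fun y hy => mem_normalizer_of_cj_le fun x hx => by
    rw [mem_cj, mem_CC] at hx
    refine mem_CC.2 ⟨?_, fun U M hE => ?_⟩
    · simpa [mul_assoc] using conj_mem_of_mem_normalizer hy hx.1
    · have := hx.2 _ _ (hE.cj (inv_mem hy))
      rwa [cc_cj, mem_cj, inv_inv, mul_assoc, mul_assoc, mul_inv_cancel, mul_one,
        mul_inv_cancel_left] at this
  obtain ⟨U, M, hE, -⟩ := h.exists_nn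
  have hU : CC S ≤ U := fun x hx => cc_le U ((mem_CC.1 hx).2 U M hE)
  refine h.ab _ (sc_of_ess h.syl inf_le_left hn fun Q M' hQ g hg x _ hx =>
    conj_mem_of_mem_normalizer ((h.es _ _ hQ).le_nor (fun k _ hk => hn hk)
      (fun k hk s hs => centralizer_le_normalizer _ fun y hy => ?_) hg) hx)
    (hU.trans ((h.es _ _ hE).ab.trans (centralizer_anti hU)))
  exact ((mem_cc.1 ((mem_CC.1 hy).2 Q M' hQ)).2 _ (mul_mem (mul_mem hk hs.2) (inv_mem hk))
    (two_conj (two_of_mem h.syl.isPGroup hs.1) k)).symm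

theorem odd_cen {k : G} (hk : k ∈ nor S) (ho : Odd (orderOf k)) : k ∈ cen S := by
  have hS := h.syl.isPGroup
  have h1 : ∀ a ∈ AA S, k * a = a * k := fun a ha => h.fam.odd_fix hS hk ho ha
  have h2 : closure (AA S) ≤ cen1 k := (closure_le _).2 fun a ha => mem_cen1.2 (h1 a ha).symm
  have h3 : ∀ c ∈ S, (∀ a ∈ AA S, c * a = a * c) → k * c = c * k := fun c hc e => by
    have : k * c * k⁻¹ * c⁻¹ ∈ CC S := by
      refine mem_CC.2 ⟨mul_mem (conj_mem_of_mem_normalizer hk hc) (inv_mem hc), fun U M hE => ?_⟩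
      obtain ⟨ht, -⟩ := h.t2 hE
      obtain ⟨z, hz⟩ := ht.exists_isZ
      obtain ⟨g, hg, e1⟩ := ht.exists_a hz
      have hA : g * z * g⁻¹ ∈ AA S := ⟨U, M, z, g, hE, hz, hg, rfl, e1⟩
      have ha := om_le U (conj_mem_of_mem_normalizer (nor_le_om U hg) (ht.z_mem hz).1)
      refine ht.comm_mem_cc hz (mem_normalizer_of_cj_le fun y hy => ?_)
        (fun g hg => (mem_cen1.1 (h2 (h.conj_z hE hz hg))).symm) (ht.cent ha e1 c hc (e _ hA))
      rw [mem_cj] at hy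
      refine ht.cent ha e1 y (by
        simpa [mul_assoc] using conj_mem_of_mem_normalizer hk (ht.le hy)) ?_
      have e2 := ht.comm hy ha
      have e3 := h1 _ hA
      generalize g * z * g⁻¹ = a at e2 e3
      calc _ = y * (a * k) * k⁻¹ := by group
        _ = k * (k⁻¹ * y * k * a) * k⁻¹ := by rw [← e3]; group
        _ = (k * a) * k⁻¹ * y := by rw [e2]; group
        _ = _ := by rw [e3]; group
    rwa [h.cc_eq_bot, mem_bot, mul_inv_eq_one, mul_inv_eq_iff_eq_mul] at this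
  intro s hs
  have hc : k * s * k⁻¹ * s⁻¹ ∈ S := mul_mem (conj_mem_of_mem_normalizer hk hs) (inv_mem hs)
  have := eq_one_of_odd (s := s) ho (two_of_mem hS hc) (h3 _ hc fun a ha => by
    have e1 := h1 a ha
    have e2 := h1 _ (h.fam.inv s⁻¹ (le_normalizer (inv_mem hs)) a ha)
    calc _ = k * s * k⁻¹ * (s⁻¹ * a * s⁻¹⁻¹ * k) * k⁻¹ * s⁻¹ := by group
      _ = (k * a) * s * k⁻¹ * s⁻¹ := by rw [← e2]; group
      _ = _ := by rw [e1]; group) (by group)
  rw [mul_inv_eq_one, mul_inv_eq_iff_eq_mul] at this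
  exact this.symm

theorem closure_eq : closure (AA S) = S := by
  have : Fact (Nat.Prime 2) := ⟨Nat.prime_two⟩
  have hS := h.syl.isPGroup
  have hle : closure (AA S) ≤ S := (closure_le _).2 fun a ha => (h.fam.ta a ha).choose_spec.aS
  by_contra hn
  obtain ⟨Y, h1, h2, h3⟩ := exists_rel_two hS (lt_of_le_of_ne hle hn)
  have h4 : nor S ≤ nor Y := by
    refine (h.syl.of_le le_normalizer le_top).sup_res.ge.trans (sup_le ?_
      (res_le_of_forall fun k hk ho => centralizer_le_normalizer _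
        (centralizer_anti h2 (h.odd_cen hk (Nat.coprime_two_right.1 ho)))))
    exact (normal_subgroupOf_iff_le_normalizer h2).1 (normal_of_index_eq_two h3)
  refine h.two Y h2 (sc_of_ess h.syl h2 h4 fun U M hE g hg x hx hx' => ?_) h3
  obtain ⟨ht, -⟩ := h.t2 hE
  obtain ⟨z, hz⟩ := ht.exists_isZ
  refine (conj_mem_of_mem_normalizer (ht.le_nor (Y := U ⊓ Y)
    (fun k hk hk' => le_normalizer_inf inf_le_left (inf_le_right.trans h4)
      (show k ∈ nor U ⊓ nor S from ⟨hk, hk'⟩)) (fun k hk s hs => ?_) hg) ⟨hx, hx'⟩).2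
  refine mem_normalizer_of_cj_le ?_
  rintro _ ⟨y, hy, rfl⟩
  refine ⟨conj_mem_of_mem_normalizer (mul_mem (mul_mem hk hs.2) (inv_mem hk)) hy.1, ?_⟩
  show k * s * k⁻¹ * y * (k * s * k⁻¹)⁻¹ ∈ Y
  rcases ht.conj_cases hz hk hs hy.1 with e | e <;> rw [e]
  · exact hy.2
  · exact mul_mem (inv_mem (h1 (h.conj_z hE hz hk))) hy.2

theorem dihedral : ∃ m : ℕ, 2 ≤ m ∧ Nonempty (S ≃* DihedralGroup m) := by
  obtain ⟨U, M, hE, -⟩ := h.exists_nn
  obtain ⟨ht, -⟩ := h.t2 hE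
  obtain ⟨z, hz⟩ := ht.exists_isZ
  obtain ⟨g, hg, e1⟩ := ht.exists_a hz
  have := h.fam.dihedral h.syl.isPGroup ⟨U, M, z, g, hE, hz, hg, rfl, e1⟩
  rwa [h.closure_eq] at this

end Ctx

/-- S3186 from the FF-lemma. -/
theorem s3186 (hF : JobFF.{u}) (hV : JobSEV.{u}) [IsSimpleGroup G] (hG : ¬ IsMulCommutative G)
    (hA : ∀ S T : Sylow 2 G, S ≠ T → IsMulCommutative ↥((S : Subgroup G) ⊓ (T : Subgroup G)))
    (S : Sylow 2 G) :
    (∃ m : ℕ, 2 ≤ m ∧ Nonempty (↥(S : Subgroup G) ≃* DihedralGroup m)) ∨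
      commutator ↥(S : Subgroup G) ≤ Subgroup.center ↥(S : Subgroup G) := by
  have hS := isSyl_sylow S
  have hai : AI (S : Subgroup G) := ⟨hS, fun g x hx y hy h1 h2 e => by
    obtain ⟨T, hT⟩ := isSyl_top_iff.1 (hS.cj_of_mem (mem_top g⁻¹))
    by_contra hn
    have := (hA S T fun e2 => hn (inv_mem_iff.1 (cj_eq_self_iff.1 (hT.symm.trans (by rw [e2]))))
      ).is_comm.comm ⟨x, mem_inf.2 ⟨hx, by rwa [hT, mem_cj, inv_inv]⟩⟩
        ⟨y, mem_inf.2 ⟨hy, by rwa [hT, mem_cj, inv_inv]⟩⟩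
    exact e (congrArg Subtype.val this)⟩
  by_cases hc : ⁅(S : Subgroup G), (S : Subgroup G)⁆ ≤ cen S
  · right
    intro x hx
    refine mem_center_iff.2 fun y => Subtype.ext (hc ?_ y y.2)
    have := mem_map_of_mem (S : Subgroup G).subtype hx
    rwa [_root_.commutator_def, map_commutator, map_subtype_top] at this
  · refine Or.inl (Ctx.dihedral ⟨hS, fun U M hE => es_of hF hV hai hE, fun A h1 h2 => ?_,
      fun Y h1 h2 => no_index_two hG hS h1 h2, hc⟩)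
    by_contra h0
    exact hc (class_two_of_gt hG hS (gt_of H51.asch hG h1
      ⟨⟨fun a b => Subtype.ext (h2 b.2 a a.2)⟩⟩ h0))

end H32.Abi
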