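import Cfsg.Agent.H32.AILoc

/-! Abelian Sylow intersections (S3186), part 3: essential subgroups that are not normal. -/

set_option autoImplicit false

namespace H32.Abi

open Cfsg Subgroup H14 H98 H1.Gold H10.C2
open scoped commutatorElement

universe u

variable {G : Type u} [Group G]

/-- An essential subgroup `U` that is not normal in `S`, and `x ∈ N_S(N_S(U)) \ N_S(U)`. -/
structure NN (S U : Subgroup G) (x : G) : Prop where
  es : ES S U
  es' : ES S (cj x U)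
  xS : x ∈ S
  xT : x ∈ nor (S ⊓ nor U)
  xU : x ∉ nor U

variable [Finite G] {S U R : Subgroup G} {x : G}

theorem ES.cj_eq (h : ES S U) {y : G} (hy : y ∈ nor S) (e : cj y (om U) ≤ U) : cj y U = U := by
  have e1 : S ⊓ cen (om U) = U := le_antisymm h.cv (le_inf h.le h.le_cen_om)
  have e2 : y ∈ nor (om U) := mem_normalizer_of_cj_le fun v hv => mem_om_of (e hv) (by
    have := om_sq h.ab (mem_cj.1 hv)
    calc _ = y * (y⁻¹ * v * y * (y⁻¹ * v * y)) * y⁻¹ := by group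
      _ = 1 := by rw [this]; group)
  rw [← e1, cj_inf, cj_eq_self hy, cj_eq_self (normalizer_le_normalizer_centralizer _ e2)]

omit [Finite G] in
theorem comm_of_cj {E : Subgroup G} (h : E ≤ cen E) (y : G) : cj y E ≤ cen (cj y E) := by
  rw [cen, ← cj_centralizer]; exact cj_mono y h

omit [Finite G] in
theorem sq_of_cj (h : U ≤ cen U) {y t : G} (ht : t ∈ cj y (om U)) : t * t = 1 :=
  om_sq (comm_of_cj h y) (cj_om y U ▸ ht)

namespace NN

variable (h : NN S U x)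
include h

omit [Finite G] in
theorem eT : S ⊓ nor (cj x U) = S ⊓ nor U := by
  rw [nor, ← cj_normalizer, ← cj_eq_self h.xT, cj_inf, cj_eq_self_of_mem h.xS]

omit [Finite G] in
theorem ne : U ≠ cj x U := fun e => h.xU (cj_eq_self_iff.1 e.symm)

omit [Finite G] in
theorem leT : cj x U ≤ S ⊓ nor U := h.eT ▸ h.es'.lt.le

omit [Finite G] in
theorem n1 : cj x U ≤ nor U := h.leT.trans inf_le_right

omit [Finite G] in
theorem n2 : U ≤ nor (cj x U) := (h.es.lt.le.trans h.eT.ge).trans inf_le_right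

theorem sp : Sp S U := (h.es.sp_of h.es' h.ne h.n1 h.n2 (card_cj x U).ge).1

theorem inf_eq : U ⊓ cj x U = U ⊓ cen (S ⊓ nor U) :=
  (h.es.sp_of h.es' h.ne h.n1 h.n2 (card_cj x U).ge).2

theorem sp' : Sp S (cj x U) := (h.es'.sp_of h.es h.ne.symm h.n2 h.n1 (card_cj x U).le).1

theorem inf_eq' : cj x U ⊓ U = cj x U ⊓ cen (S ⊓ nor U) :=
  h.eT ▸ (h.es'.sp_of h.es h.ne.symm h.n2 h.n1 (card_cj x U).le).2

theorem le_sup : S ⊓ nor U ≤ cj x U ⊔ U := (h.es.pair h.es' h.ne h.n1 h.n2 (card_cj x U).ge).1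

theorem idx : (cj x U).relIndex (om U) = U.relIndex (S ⊓ nor U) :=
  (h.es.pair h.es' h.ne h.n1 h.n2 (card_cj x U).ge).2.2.2

theorem inv {t : G} (ht : t ∈ S ⊓ nor U) (h2 : t * t = 1) : t ∈ U ∨ t ∈ cj x U := by
  obtain ⟨b, hb, a, ha, rfl⟩ := (mem_sup_left_norm h.n1).1 (h.le_sup ht)
  obtain ⟨w, hw, z, hz, e⟩ := h.sp'.split b hb
  rw [h.eT] at hz
  have hzU := (h.inf_eq'.ge hz).2
  have e1 : b * b = z * z := by
    rw [e, mul_assoc, ← mul_assoc z, h.es'.comm hz.1 (om_le _ hw), mul_assoc, ← mul_assoc,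
      om_sq h.es'.ab hw, one_mul]
  have e2 : ⁅a, b⁆ = a * z * (a * z) := by
    rw [commutatorElement_def, mul_assoc, ← mul_inv_rev, inv_eq_of_mul_eq_one_right h2]
    calc _ = a * (b * b) * a := by group
      _ = _ := by rw [e1, mul_assoc, mul_assoc, h.es.comm hzU ha, mul_assoc]
  have e3 := h.sp.ns ha (h.leT hb) (mul_mem ha hzU) e2
  rw [commutatorElement_eq_one_iff_mul_comm] at e3
  by_cases e4 : a ∈ cen (S ⊓ nor U)
  · exact Or.inr (mul_mem hb (h.inf_eq.ge ⟨ha, e4⟩).2)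
  · exact Or.inl (mul_mem (h.sp.cent ha e4 b (h.es'.le hb) e3.symm) ha)

theorem perm {y : G} (hy : y ∈ nor S) (e : cj y (om U) ≤ S ⊓ nor U) :
    cj y U = U ∨ cj y U = cj x U := by
  rcases le_or_le fun t ht => h.inv (e ht) (sq_of_cj h.es.ab ht) with e1 | e1
  · exact Or.inl (h.es.cj_eq hy e1)
  · right
    rw [le_cj_iff, cj_cj] at e1
    have := h.es.cj_eq (mul_mem (inv_mem (le_normalizer h.xS)) hy) e1
    nth_rewrite 2 [← this]
    rw [cj_cj, mul_inv_cancel_left]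

theorem perm' {y : G} (hy : y ∈ nor (S ⊓ nor U)) : cj y U = U ∨ cj y U = cj x U :=
  h.perm (h.es.nt hy) (cj_le_of_le ((om_le U).trans h.es.lt.le) hy)

theorem swap {y : G} (hy : y ∈ nor (S ⊓ nor U)) (hn : y ∉ nor U) :
    cj y U = cj x U ∧ cj y (cj x U) = U := by
  have e := (h.perm' hy).resolve_left fun e => hn (cj_eq_self_iff.1 e)
  refine ⟨e, ?_⟩
  rw [cj_cj]
  refine (h.perm' (mul_mem hy h.xT)).resolve_right fun e2 => h.ne ?_
  exact (cj_inj.1 ((cj_cj y x U).trans (e2.trans e.symm))).symm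

theorem rel_two : (S ⊓ nor U).relIndex (S ⊓ nor (S ⊓ nor U)) = 2 :=
  rel_eq_two ⟨h.xS, h.xT⟩ (fun e => h.xU e.2) fun b hb hn => ⟨mul_mem hb.1 h.xS,
    cj_eq_self_iff.1 ((cj_cj b x U).symm.trans (h.swap hb.2 fun e => hn ⟨hb.1, e⟩).2)⟩

/-- An element of `U` or `U^x` centralized by an element swapping them. -/
theorem mem_inf {y t : G} (hy : y ∈ nor (S ⊓ nor U)) (hn : y ∉ nor U) (e : y * t = t * y)
    (ht : t ∈ U ∨ t ∈ cj x U) : t ∈ U ⊓ cj x U := by
  obtain ⟨e1, e2⟩ := h.swap hy hn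
  have e3 : y * t * y⁻¹ = t := mul_inv_eq_iff_eq_mul.2 e
  rcases ht with ht | ht
  · exact ⟨ht, e1 ▸ e3 ▸ conj_mem_cj ht⟩
  · exact ⟨e2 ▸ e3 ▸ conj_mem_cj ht, ht⟩

section Big

variable (hq : U.relIndex (S ⊓ nor U) ≠ 2)
include hq

theorem three_le : 3 ≤ (cj x U).relIndex (om U) := by
  have := two_le_rel h.es.lt.not_ge
  rw [h.idx]; omega

theorem big1 {y : G} (e : cj y (om U) ≤ S ⊓ nor (S ⊓ nor U)) : cj y (om U) ≤ S ⊓ nor U := by
  by_contra hn
  obtain ⟨r, hr, hrT⟩ := SetLike.not_le_iff_exists.1 hn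
  have h1 : S ⊓ nor U ⊓ cj y (om U) ≤ cj x U ⊓ om U := fun t ht => by
    have h2 := sq_of_cj h.es.ab ht.2
    have := h.mem_inf (e hr).2 (fun e2 => hrT ⟨(e hr).1, e2⟩)
      (comm_of_cj ((om_le U).trans h.es.le_cen_om) y ht.2 r hr) (h.inv ht.1 h2)
    exact ⟨this.2, mem_om_of this.1 h2⟩
  have h2 := card_rel (S ⊓ nor U) (cj y (om U))
  have h3 := card_rel (cj x U) (om U)
  have h4 := relIndex_le_of_le_right e (rel_ne (S ⊓ nor U) _)
  have h5 := card_le_of_le h1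
  have h6 := h.three_le hq
  have h7 : 0 < Nat.card (cj x U ⊓ om U : Subgroup G) := Nat.card_pos
  rw [h.rel_two] at h4
  rw [card_cj] at h2
  nlinarith

theorem big2 {y : G} (hy : y ∈ nor S) (hy' : y ∈ nor (S ⊓ nor (S ⊓ nor U))) :
    y ∈ nor (S ⊓ nor U) := by
  have key : ∀ y ∈ nor S, y ∈ nor (S ⊓ nor (S ⊓ nor U)) → cj y U ≤ S ⊓ nor U := fun y hy hy' => by
    rcases h.perm hy (h.big1 hq (cj_le_of_le (((om_le U).trans h.es.lt.le).trans
      (le_inf inf_le_left le_normalizer)) hy')) with e | e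
    · rw [e]; exact h.es.lt.le
    · rw [e]; exact h.leT
  refine mem_normalizer_of_cj_le ((cj_mono y h.le_sup).trans ?_)
  rw [cj_sup, cj_cj]
  exact sup_le (key _ (mul_mem hy (le_normalizer h.xS)) (mul_mem hy' (le_normalizer ⟨h.xS, h.xT⟩)))
    (key y hy hy')

theorem big3 : S ⊓ nor (S ⊓ nor U) = S :=
  le_antisymm inf_le_left (le_of_inf_nor h.es.pS inf_le_left fun _ hy =>
    ⟨hy.1, h.big2 hq (le_normalizer hy.1) hy.2⟩)

theorem nor_le : nor S ≤ nor (S ⊓ nor U) := fun _ hy => h.big2 hq hy (by rwa [h.big3 hq])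

theorem rel_two' : (S ⊓ nor U).relIndex S = 2 := by
  have := h.rel_two
  rwa [h.big3 hq] at this

/-- Step (2): every essential subgroup lies in `N_S(U)`. -/
theorem big4 (hR : ES S R) (hR' : S ≤ nor R ∨ Sp S R) : R ≤ S ⊓ nor U := by
  by_contra hn
  have hT : S ≤ nor (S ⊓ nor U) := le_normalizer.trans (h.nor_le hq)
  have k1 : ∀ t ∈ R, t ∈ U ∨ t ∈ cj x U → t ∈ U ⊓ cj x U := fun t ht e => by
    obtain ⟨r, hr, hrT⟩ := SetLike.not_le_iff_exists.1 hn
    exact h.mem_inf (hT (hR.le hr)) (fun e2 => hrT ⟨hR.le hr, e2⟩) (hR.comm hr ht) e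
  have k2 : S ⊓ nor U ⊓ om R ≤ cen (S ⊓ nor U) := fun t ht =>
    (h.inf_eq.le (k1 t (om_le R ht.2) (h.inv ht.1 (om_sq hR.ab ht.2)))).2
  have k3 : ¬ om R ≤ S ⊓ nor U := fun e => by
    have e1 : S ⊓ nor U ≤ R := fun t ht => hR.cv ⟨ht.1, fun v hv => (k2 ⟨e hv, hv⟩ t ht).symm⟩
    exact h.es.lt.not_ge fun t ht => h.es.cenS ⟨ht.1, centralizer_anti (h.es.lt.le.trans e1)
      (hR.ab (e1 ht))⟩
  obtain ⟨r, hr, hrT⟩ := SetLike.not_le_iff_exists.1 k3
  have hrR := om_le R hr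
  have hrS := hR.le hrR
  have r2 := om_sq hR.ab hr
  have ir := inv_eq_of_mul_eq_one_right r2
  have k4 : ∀ s ∈ S, s ∉ S ⊓ nor U → s * r ∈ S ⊓ nor U := fun s hs e =>
    mul_mem_of_rel (h.rel_two' hq) hs hrS e hrT
  have k5 : ¬ S ⊓ nor U ⊓ nor R ≤ R := fun e => hR.lt.not_ge fun s hs => by
    by_cases e2 : s ∈ S ⊓ nor U
    · exact e ⟨e2, hs.2⟩
    · exact (R.mul_mem_cancel_right hrR).1 (e ⟨k4 s hs.1 e2, mul_mem hs.2 (le_normalizer hrR)⟩)
  have k6 : (S ⊓ nor U).relIndex (om R) ≤ 2 :=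
    h.rel_two' hq ▸ relIndex_le_of_le_right ((om_le R).trans hR.le) (rel_ne _ _)
  obtain ⟨e1, e2⟩ := hR.ff (S ⊓ nor U ⊓ nor R) (inf_le_inf_right _ inf_le_left) k5
    ((le_inf ((commutator_mono le_rfl inf_le_left).trans
      (commutator_le_right' (((om_le R).trans hR.le).trans hT)))
      (commutator_le_left' (inf_le_right.trans (nor_le_om R)))).trans
      (k2.trans (centralizer_anti inf_le_left)))
    (((rel_le (k2.trans (centralizer_anti inf_le_left))).trans k6).trans (two_le_rel k5))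
  have k7 : R.relIndex (S ⊓ nor R) = 2 := by
    have i1 := e2.idx1
    rw [hR.rel_om inf_le_left] at i1
    have i2 : (cen (S ⊓ nor R)).relIndex (om R) ≤ (S ⊓ nor U).relIndex (om R) :=
      rel_le fun t ht => centralizer_anti e1 (by
        rw [centralizer_sup]
        exact ⟨centralizer_anti inf_le_left (k2 ht), hR.ab (om_le R ht.2)⟩)
    have := two_le_rel hR.lt.not_ge
    omega
  have k8 : ∀ s ∈ S, s * r = r * s → s ∈ R := by
    have aux : ∀ s ∈ S ⊓ nor U, s * r = r * s → s ∈ R := fun s hs e =>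
      hR.cv ⟨hs.1, fun v hv => by
        by_cases e3 : v ∈ S ⊓ nor U
        · exact (k2 ⟨e3, hv⟩ s hs).symm
        · have := k2 ⟨k4 v (hR.le (om_le R hv)) e3, mul_mem hv hr⟩ s hs
          rw [mul_assoc, ← e, ← mul_assoc, ← mul_assoc] at this
          exact (mul_right_cancel this).symm⟩
    intro s hs e
    by_cases e3 : s ∈ S ⊓ nor U
    · exact aux s e3 e
    · exact (R.mul_mem_cancel_right hrR).1 (aux _ (k4 s hs e3) (by rw [e, mul_assoc, e])) 
  obtain ⟨v, hv, w, hw, v1, w1, vw⟩ : ∃ v ∈ om U, ∃ w ∈ om U, v ∉ cj x U ∧ w ∉ cj x U ∧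
      v * w ∉ cj x U := by
    by_contra hc
    push Not at hc
    have h3 := h.three_le hq
    obtain ⟨v, hv, v1⟩ := SetLike.not_le_iff_exists.1 fun e : om U ≤ cj x U => by
      rw [relIndex_eq_one.2 e] at h3; omega
    rw [rel_eq_two hv v1 fun b hb e => hc b hb v hv e v1] at h3
    omega
  rcases hR' with hN | hsp
  · rw [inf_of_le_left hN] at k7
    have := mul_mem_of_rel k7 (h.es.le (om_le U hv)) (h.es.le (om_le U hw))
      (fun e => v1 (k1 v e (Or.inl (om_le U hv))).2) (fun e => w1 (k1 w e (Or.inl (om_le U hw))).2)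
    exact vw (k1 _ this (Or.inl (om_le U (mul_mem hv hw)))).2
  obtain ⟨s1, s2⟩ := h.swap (hT hrS) fun e => hrT ⟨hrS, e⟩
  have hQ : ∀ a ∈ U, r * a * r ∈ cj x U := fun a ha => by
    have := conj_mem_cj (g := r) ha
    rwa [s1, ir] at this
  -- the commutators `⁅a, b^r⁆`
  have c1 : ∀ a ∈ om U, ∀ b ∈ om U, ⁅a, r * b * r⁆ ∈ cen (S ⊓ nor U) ∧
      ⁅a, r * b * r⁆ * ⁅a, r * b * r⁆ = 1 := fun a ha b hb => by
    have m1 := commutator_mem_commutator ha (h.leT (hQ b (om_le U hb)))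
    exact ⟨h.sp.ffd.quad m1,
      om_sq h.es.ab (commutator_le_left' (inf_le_right.trans (nor_le_om U)) m1)⟩
  have c2 : ∀ a ∈ om U, ⁅r, a * (r * a * r)⁆ = ⁅a, r * a * r⁆ := fun a ha => by
    have ia := inv_eq_of_mul_eq_one_right (om_sq h.es.ab ha)
    have := inv_eq_of_mul_eq_one_right (c1 a ha a ha).2
    rw [← this]
    simp only [commutatorElement_def, mul_inv_rev, ia, ir, mul_assoc]
    rw [← mul_assoc r r, r2, one_mul]
  have c3 : ∀ a ∈ om U, a ∉ cj x U → a * (r * a * r) ∈ S ⊓ nor R ∧ a * (r * a * r) ∉ R := by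
    intro a ha a1
    have haU := om_le U ha
    have m1 : a * (r * a * r) ∈ S := mul_mem (h.es.le haU) (h.es'.le (hQ a haU))
    have m2 : ⁅a, r * a * r⁆ ∈ S := commutator_le_of_le le_rfl le_rfl
      (commutator_mem_commutator (h.es.le haU) (h.es'.le (hQ a haU)))
    have m3 : ⁅r, a * (r * a * r)⁆ ∈ R := by
      rw [c2 a ha]
      refine k8 _ m2 ?_
      have ia := inv_eq_of_mul_eq_one_right (om_sq h.es.ab ha)
      nth_rewrite 2 [← inv_eq_of_mul_eq_one_right (c1 a ha a ha).2]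
      simp only [commutatorElement_def, mul_inv_rev, ia, ir, mul_assoc, r2, mul_one]
      rw [← mul_assoc r r, r2, one_mul]
    refine ⟨⟨m1, hR.mem_nor k8 m1 ?_⟩, fun e => ?_⟩
    · have := mul_mem (inv_mem m3) hrR
      simpa only [commutatorElement_def, mul_inv_rev, inv_inv, mul_assoc, inv_mul_cancel,
        mul_one] using this
    · have e3 := hR.comm hrR e
      rw [← commutatorElement_eq_one_iff_mul_comm, c2 a ha,
        commutatorElement_eq_one_iff_mul_comm] at e3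
      have := h.sp.cent haU (fun e4 => a1 (h.inf_eq.ge ⟨haU, e4⟩).2) _ (h.es'.le (hQ a haU)) e3.symm
      have e5 := conj_mem_cj (g := r) this
      rw [s1, ir, ← mul_assoc, ← mul_assoc, r2, one_mul, mul_assoc, r2, mul_one] at e5
      exact a1 e5
  have c4 : ∀ a ∈ om U, a ∉ cj x U → ⁅a, r * a * r⁆ = ⁅v, r * v * r⁆ := fun a ha a1 => by
    have := hR.comm hrR (mul_mem_of_rel k7 (inv_mem (c3 v hv v1).1) (c3 a ha a1).1
      (fun e => (c3 v hv v1).2 (inv_mem_iff.1 e)) (c3 a ha a1).2)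
    rw [← c2 a ha, ← c2 v hv]
    generalize a * (r * a * r) = t at this
    generalize v * (r * v * r) = t' at this
    simp only [commutatorElement_def]
    calc _ = r * t' * (t'⁻¹ * t * r⁻¹) * t⁻¹ := by group
      _ = r * t' * (r⁻¹ * (r * (t'⁻¹ * t)) * r⁻¹) * t⁻¹ := by group
      _ = _ := by rw [this]; group
  -- everything is computed in `T`, with central commutators
  have hTU : ∀ a ∈ om U, a ∈ S ⊓ nor U := fun a ha => h.es.lt.le (om_le U ha)
  have hTQ : ∀ a ∈ om U, r * a * r ∈ S ⊓ nor U := fun a ha => h.leT (hQ a (om_le U ha))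
  have c5 : ⁅v * w, r * (v * w) * r⁆ = ⁅v, r * v * r⁆ * ⁅v, r * w * r⁆ *
      (⁅w, r * v * r⁆ * ⁅w, r * w * r⁆) := by
    have e3 : r * (v * w) * r = r * v * r * (r * w * r) := by
      calc _ = r * v * (r * r) * w * r := by rw [r2]; group
        _ = _ := by group
    have l1 : ∀ a ∈ om U, ⁅a, r * (v * w) * r⁆ = ⁅a, r * v * r⁆ * ⁅a, r * w * r⁆ := fun a ha => by
      have := (c1 a ha w hw).1 _ (hTQ v hv)
      rw [e3]
      generalize r * v * r = p at this ⊢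
      generalize r * w * r = q at this ⊢
      calc _ = ⁅a, p⁆ * (p * ⁅a, q⁆) * p⁻¹ := by simp only [commutatorElement_def]; group
        _ = _ := by rw [this]; group
    have := (c1 w hw _ (mul_mem hv hw)).1 v (hTU v hv)
    rw [← l1 v hv, ← l1 w hw, (c1 w hw _ (mul_mem hv hw)).1 _
      (commutator_le_of_le le_rfl le_rfl
        (commutator_mem_commutator (hTU v hv) (hTQ _ (mul_mem hv hw))))]
    generalize r * (v * w) * r = p at this ⊢
    calc _ = (v * ⁅w, p⁆) * v⁻¹ * ⁅v, p⁆ := by simp only [commutatorElement_def]; group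
      _ = _ := by rw [this]; group
  set z := ⁅v, r * v * r⁆ with hz
  set β := ⁅v, r * w * r⁆ with hβ
  have c6 : ⁅w, r * v * r⁆ = r * β * r := by
    rw [hβ, ← inv_eq_of_mul_eq_one_right (c1 v hv w hw).2, commutatorElement_inv]
    simp only [commutatorElement_def, mul_inv_rev, ir, mul_assoc]
    rw [← mul_assoc r r, r2, one_mul]
  rw [c4 _ (mul_mem hv hw) vw, c4 w hw w1, c6] at c5
  have zT : z ∈ S ⊓ nor U :=
    commutator_le_of_le le_rfl le_rfl (commutator_mem_commutator (hTU v hv) (hTQ v hv))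
  have βT : β ∈ S ⊓ nor U :=
    commutator_le_of_le le_rfl le_rfl (commutator_mem_commutator (hTU v hv) (hTQ w hw))
  have z2 : z * z = 1 := (c1 v hv v hv).2
  have β2 : β * β = 1 := (c1 v hv w hw).2
  have c7 : r * β * r = β * z := by
    rw [mul_assoc z, left_eq_mul, ← mul_assoc, mul_eq_one_iff_eq_inv, inv_eq_of_mul_eq_one_right z2,
      ← eq_inv_mul_iff_mul_eq, inv_eq_of_mul_eq_one_right β2] at c5
    exact c5
  have iv := inv_eq_of_mul_eq_one_right (om_sq h.es.ab hv)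
  have c8 : v * (r * v * r) * (v * (r * v * r)) = z := by
    rw [hz]
    simp only [commutatorElement_def, mul_inv_rev, iv, ir, mul_assoc]
  have tT := mul_mem (hTU v hv) (hTQ v hv)
  have c9 := c2 v hv
  rw [← hz] at c9
  have n1 := (c3 v hv v1)
  generalize v * (r * v * r) = t at c8 c9 tT n1
  have d1 : t * β ∈ R := by
    refine k8 _ (mul_mem tT.1 βT.1) ?_
    have e3 : r * t * r = z * t := by
      rw [← c9, commutatorElement_def, ir]; group
    have e4 : r * (t * β) * r = t * β := by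
      calc _ = r * t * (r * r) * β * r := by rw [r2]; group
        _ = z * t * (β * z) := by rw [← e3, ← c7]; group
        _ = z * ((t * β) * z) := by group
        _ = _ := by rw [(c1 v hv v hv).1 _ (mul_mem tT βT), ← mul_assoc, z2, one_mul]
    nth_rewrite 1 [← e4]
    rw [mul_assoc, r2, mul_one]
  have d2 : ⁅r, t⁆ = t * β * (t * β) := by
    rw [c9, mul_assoc, ← mul_assoc β, ← (c1 v hv w hw).1 t tT, mul_assoc, β2, mul_one, c8]
  have := hsp.ns hrR n1.1 d1 d2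
  rw [commutatorElement_eq_one_iff_mul_comm] at this
  exact n1.2 (k8 t tT.1 this.symm)

end Big

end NN

/-- `z` is a nontrivial commutator of `U` with `N_S(U)`. -/
def IsZ (S U : Subgroup G) (z : G) : Prop := z ≠ 1 ∧ ∃ a ∈ U, ∃ s ∈ S ⊓ nor U, z = ⁅a, s⁆

omit [Finite G] in
theorem IsZ.conj {z g : G} (h : IsZ S U z) (hg : g ∈ nor S) :
    IsZ S (cj g U) (g * z * g⁻¹) := by
  obtain ⟨h1, a, ha, s, hs, rfl⟩ := h
  refine ⟨by simpa using h1, _, conj_mem_cj ha, g * s * g⁻¹,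
    ⟨conj_mem_of_mem_normalizer hg hs.1, ?_⟩, by simp only [commutatorElement_def]; group⟩
  have := conj_mem_cj (g := g) hs.2
  rwa [nor, cj_normalizer] at this

omit [Finite G] in
theorem isZ_of {a : G} (ha : a ∈ U) (h1 : a ∉ cen (S ⊓ nor U)) :
    ∃ s ∈ S ⊓ nor U, IsZ S U ⁅a, s⁆ := by
  rw [mem_cen] at h1
  push Not at h1
  obtain ⟨s, hs, e⟩ := h1
  exact ⟨s, hs, fun e2 => e (commutatorElement_eq_one_iff_mul_comm.1 e2).symm, a, ha, s, hs, rfl⟩

omit [Finite G] in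
theorem ES.exists_isZ (h : ES S U) : ∃ z, IsZ S U z := by
  obtain ⟨a, ha, h1⟩ := SetLike.not_le_iff_exists.1 fun e : U ≤ cen (S ⊓ nor U) =>
    h.lt.not_ge fun s hs => h.cenS ⟨hs.1, le_centralizer_iff.1 e hs⟩
  obtain ⟨s, -, h2⟩ := isZ_of ha h1
  exact ⟨_, h2⟩

/-- An essential subgroup of type two. -/
structure T2 (S U : Subgroup G) : Prop extends Sp S U where
  two : U.relIndex (S ⊓ nor U) = 2

namespace T2

variable (h : T2 S U) {z : G}
include h

omit [Finite G] in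
theorem mul_mem_cen {a b : G} (ha : a ∈ U) (hb : b ∈ U) (h1 : a ∉ cen (S ⊓ nor U))
    (h2 : b ∉ cen (S ⊓ nor U)) : a * b ∈ cen (S ⊓ nor U) := by
  obtain ⟨v, hv, y, hy, rfl⟩ := h.split a ha
  obtain ⟨v', hv', y', hy', rfl⟩ := h.split b hb
  have i1 := h.ffd.idx1
  rw [h.rel_om inf_le_left, h.two] at i1
  have := mul_mem_of_rel i1 hv hv' (fun e => h1 (mul_mem e hy.2)) (fun e => h2 (mul_mem e hy'.2))
  rw [mul_assoc, ← mul_assoc y, h.comm hy.1 (om_le U hv'), mul_assoc, ← mul_assoc]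
  exact mul_mem this (mul_mem hy.2 hy'.2)

omit [Finite G] in
theorem uniq {z' : G} (h1 : IsZ S U z) (h2 : IsZ S U z') : z = z' := by
  obtain ⟨n1, a, ha, s, hs, rfl⟩ := h1
  obtain ⟨n2, a', ha', s', hs', rfl⟩ := h2
  rw [Ne, commutatorElement_eq_one_iff_mul_comm] at n1 n2
  have e1 := mul_mem_of_rel h.two (inv_mem hs) hs' (fun e => n1 (h.comm ha (inv_mem_iff.1 e)))
    (fun e => n2 (h.comm ha' e))
  have e2 := h.mul_mem_cen (inv_mem ha) ha' (fun e => n1 (inv_mem_iff.1 e s hs).symm)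
    (fun e => n2 (e s' hs').symm) s hs
  have e3 := h.comm ha' e1
  simp only [commutatorElement_def]
  calc _ = a * (s * (a⁻¹ * a')) * a'⁻¹ * s⁻¹ := by group
    _ = a' * s * (a'⁻¹ * (a' * (s⁻¹ * s')) * (s⁻¹ * s')⁻¹ * a'⁻¹) * s⁻¹ := by rw [e2]; group
    _ = a' * s * (s⁻¹ * s') * ((s⁻¹ * s')⁻¹ * a'⁻¹) * s⁻¹ := by
      rw [e3, ← e3]; group
    _ = a' * s * (s⁻¹ * s') * (a' * (s⁻¹ * s'))⁻¹ * s⁻¹ := by group
    _ = _ := by rw [e3]; group

omit [Finite G] in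
theorem z_mem (hz : IsZ S U z) :
    z ∈ om U ∧ z ∈ cen (S ⊓ nor U) ∧ z ∉ fx (nor U) (om U) := by
  obtain ⟨n1, a, ha, s, hs, rfl⟩ := hz
  exact h.ncomm ha hs n1

omit [Finite G] in
theorem comm_eq (hz : IsZ S U z) {a s : G} (ha : a ∈ U) (hs : s ∈ S ⊓ nor U) :
    ⁅a, s⁆ = 1 ∨ ⁅a, s⁆ = z := by
  by_cases e : ⁅a, s⁆ = 1
  · exact Or.inl e
  · exact Or.inr (h.uniq ⟨e, a, ha, s, hs, rfl⟩ hz)

omit [Finite G] in
theorem stab1 (hz : IsZ S U z) {g : G} (hg : g ∈ nor U)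
    (e : om U ⊓ cen (cj g (S ⊓ nor U)) = om U ⊓ cen (S ⊓ nor U)) :
    g * z * g⁻¹ = z ∧ g ∈ nor (U ⊓ cen (S ⊓ nor U)) := by
  obtain ⟨c, hc, e2⟩ := h.ffd.same g hg e
  have h1 : c⁻¹ * g ∈ nor (S ⊓ nor U) := by
    rw [← cj_eq_self_iff, ← cj_cj, ← e2, cj_inv_cj]
  have h2 : c⁻¹ * g ∈ nor U := mul_mem (inv_mem hc.1) hg
  have h3 := hz.conj (h.nt h1)
  rw [cj_eq_self h2] at h3
  refine ⟨?_, ?_⟩
  · have := hc.2 z (h.z_mem hz).1
    calc _ = c * (c⁻¹ * g * z * (c⁻¹ * g)⁻¹) * c⁻¹ := by group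
      _ = _ := by rw [h.uniq h3 hz, ← this]; group
  · have := mul_mem (le_normalizer_of_le_centralizer (centralizer_anti inf_le_left) (h.cc hc))
      (le_normalizer_inf inf_le_left (le_normalizer_centralizer inf_le_right)
        (show c⁻¹ * g ∈ nor U ⊓ nor (S ⊓ nor U) from ⟨h2, h1⟩))
    rwa [mul_inv_cancel_left] at this

omit [Finite G] in
theorem stab2 (hz : IsZ S U z) {g : G} (hg : g ∈ nor U) (e : g * z * g⁻¹ ∈ cen (S ⊓ nor U)) :
    om U ⊓ cen (cj g (S ⊓ nor U)) = om U ⊓ cen (S ⊓ nor U) := by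
  by_contra hn
  obtain ⟨h1, h2, h3⟩ := h.z_mem hz
  have h4 : g * z * g⁻¹ ∈ fx (nor U) (om U) := (h.ffd.inter g hg hn).le
    ⟨⟨conj_mem_of_mem_normalizer (nor_le_om U hg) h1, e⟩, by
      have := conj_mem_cj (g := g) h2
      rwa [cen, cj_centralizer] at this⟩
  have := fx_conj (nor_le_om U) (inv_mem hg) h4
  exact h3 (by simpa [mul_assoc] using this)

omit [Finite G] in
theorem exists_a (hz : IsZ S U z) : ∃ g ∈ nor U, g * z * g⁻¹ ∉ cen (S ⊓ nor U) := by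
  obtain ⟨g, hg, e⟩ := h.ffd.ex
  exact ⟨g, hg, fun e2 => e (h.stab2 hz hg e2)⟩

omit [Finite G] in
theorem a_cases (hz : IsZ S U z) {g k : G} (hg : g ∈ nor U) (hk : k ∈ nor U)
    (h1 : g * z * g⁻¹ ∉ cen (S ⊓ nor U)) (h2 : k * z * k⁻¹ ∉ cen (S ⊓ nor U)) :
    Cl S (g * z * g⁻¹) (k * z * k⁻¹) := by
  have hz2 := (h.z_mem hz).2.1
  obtain ⟨s, hs, e⟩ := h.ffd.reg g hg k hk (fun e => h1 (by rwa [(h.stab1 hz hg e).1]))
    (fun e => h2 (by rwa [(h.stab1 hz hk e).1]))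
  have hm : k⁻¹ * s * g ∈ nor U := mul_mem (mul_mem (inv_mem hk) hs.2) hg
  have key : ∀ y ∈ nor U, om U ⊓ cen (cj y (S ⊓ nor U)) = cj y (om U ⊓ cen (S ⊓ nor U)) :=
    fun y hy => by rw [cj_inf y (om U), cj_eq_self (nor_le_om U hy), cen, cen, cj_centralizer]
  have := (h.stab1 hz hm (by
    rw [key _ hm, ← cj_cj, ← cj_cj, ← key g hg, e, key k hk, cj_inv_cj])).1
  exact ⟨s, hs.1, by nth_rewrite 2 [← this]; group⟩

theorem ta (hn : ¬ S ≤ nor U) (hz : IsZ S U z) {a : G} (ha : a ∈ U) (a2 : a * a = 1)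
    (h1 : a ∉ cen (S ⊓ nor U)) : TA S a z := by
  have hc := h.cent ha h1
  have hzU := om_le U (h.z_mem hz).1
  have e0 : ∀ s : G, s * a * s⁻¹ = a * ⁅a, s⁆ := fun s => by
    rw [commutatorElement_def, ← mul_assoc, ← mul_assoc, ← mul_assoc, a2, one_mul,
      inv_eq_of_mul_eq_one_right a2]
  refine ⟨h.le ha, a2, h.le hzU, hz.1, h.comm hzU ha,
    fun x hx y hy e1 e2 => h.comm (hc x hx e1) (hc y hy e2), ?_, ?_, ?_, fun c hc' e1 e2 => ?_⟩
  · rintro b ⟨s, hs, rfl⟩ e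
    have := h.mem_nor hc hs (hc _ (Cl.mem ⟨s, hs, rfl⟩ (h.le ha)) e)
    rw [e0]
    rcases h.comm_eq hz ha ⟨hs, this⟩ with e2 | e2 <;> simp [e2]
  · obtain ⟨s, hs, e⟩ := isZ_of ha h1
    exact ⟨s, hs.1, by rw [e0, h.uniq e hz]⟩
  · obtain ⟨s, hs, e⟩ := SetLike.not_le_iff_exists.1 hn
    exact ⟨_, ⟨s, hs, rfl⟩, fun e2 =>
      e (h.mem_nor hc hs (hc _ (Cl.mem ⟨s, hs, rfl⟩ (h.le ha)) e2))⟩
  · obtain ⟨n1, b, hb, s, hs, rfl⟩ := hz
    exact n1 (h.ns hb hs (hc c hc' e1) e2.symm)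

omit [Finite G] in
/-- A `2`-element of `N(U)` acts on `U` as a transvection. -/
theorem conj_cases (hz : IsZ S U z) {g s y : G} (hg : g ∈ nor U) (hs : s ∈ S ⊓ nor U)
    (hy : y ∈ U) : g * s * g⁻¹ * y * (g * s * g⁻¹)⁻¹ = y ∨
      g * s * g⁻¹ * y * (g * s * g⁻¹)⁻¹ = (g * z * g⁻¹)⁻¹ * y := by
  have e : g * s * g⁻¹ * y * (g * s * g⁻¹)⁻¹ = (g * ⁅g⁻¹ * y * g, s⁆ * g⁻¹)⁻¹ * y := by
    simp only [commutatorElement_def]; group
  rw [e]
  rcases h.comm_eq hz (conj_mem_of_mem_normalizer' hg hy) hs with e2 | e2 <;> simp [e2]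

/-- An element centralizing all conjugates of `z` acts trivially on `U / cc U`. -/
theorem comm_mem_cc (hz : IsZ S U z) {k : G} (hk : k ∈ nor U)
    (h1 : ∀ g ∈ nor U, k * (g * z * g⁻¹) = g * z * g⁻¹ * k) {y : G} (hy : y ∈ U) :
    k * y * k⁻¹ * y⁻¹ ∈ cc U := by
  refine mem_cc.2 ⟨mul_mem (conj_mem_of_mem_normalizer hk hy) (inv_mem hy), fun t ht h2 => ?_⟩
  obtain ⟨g, hg, e⟩ := h.exists_cj ht h2
  have m1 : g * k * g⁻¹ ∈ nor U := mul_mem (mul_mem hg hk) (inv_mem hg)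
  have e1 : g * k * g⁻¹ * z * (g * k * g⁻¹)⁻¹ = z := by
    have := h1 g⁻¹ (inv_mem hg)
    calc _ = g * (k * (g⁻¹ * z * g⁻¹⁻¹)) * k⁻¹ * g⁻¹ := by group
      _ = _ := by rw [this]; group
  have m2 := (h.stab1 hz m1 (h.stab2 hz m1 (by rw [e1]; exact (h.z_mem hz).2.1))).2
  have m3 := conj_mem_of_mem_normalizer hg hy
  have m4 := conj_mem_of_mem_normalizer m1 m3
  have m5 : g * k * g⁻¹ * (g * y * g⁻¹) * (g * k * g⁻¹)⁻¹ * (g * y * g⁻¹)⁻¹ ∈
      cen (S ⊓ nor U) := by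
    by_cases e2 : g * y * g⁻¹ ∈ cen (S ⊓ nor U)
    · exact mul_mem (conj_mem_of_mem_normalizer m2 ⟨m3, e2⟩).2 (inv_mem e2)
    · refine h.mul_mem_cen m4 (inv_mem m3) (fun e3 => e2 ?_) fun e3 => e2 (inv_mem_iff.1 e3)
      exact ((mem_normalizer_iff.1 m2 _).2 ⟨m4, e3⟩).2
  have := m5 _ e
  calc _ = g⁻¹ * (g * t * g⁻¹ * (g * k * g⁻¹ * (g * y * g⁻¹) * (g * k * g⁻¹)⁻¹ *
      (g * y * g⁻¹)⁻¹)) * g := by group
    _ = _ := by rw [this]; group

end T2

theorem NN.t2 (h : NN S U x) (hq : U.relIndex (S ⊓ nor U) = 2) : T2 S U := ⟨h.sp, hq⟩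

/-- Step (3): a normal essential subgroup excludes type two. -/
theorem NN.no_normal (h : NN S U x) (hq : U.relIndex (S ⊓ nor U) = 2) (hR : ES S R)
    (hN : S ≤ nor R) : False := by
  have ht := h.t2 hq
  obtain ⟨z, hz⟩ := h.es.exists_isZ
  obtain ⟨g, hg, h1⟩ := ht.exists_a hz
  have hV := conj_mem_of_mem_normalizer (nor_le_om U hg) (ht.z_mem hz).1
  generalize g * z * g⁻¹ = a at h1 hV
  have ha := om_le U hV
  have haS := h.es.le ha
  have a2 := om_sq h.es.ab hV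
  have ia := inv_eq_of_mul_eq_one_right a2
  have hc := ht.cent ha h1
  have haR : a ∉ R := fun e => h.xU (by
    rw [← hR.eq_of_le h.es fun r hr => hc r (hR.le hr) (hR.comm hr e)]; exact hN h.xS)
  have cR : ∀ r ∈ R, a * r * a ∈ R := fun r hr => by
    have := conj_mem_of_mem_normalizer (hN haS) hr
    rwa [ia] at this
  have nrm : ∀ r ∈ R, r * (a * r * a) ∈ U := fun r hr => hc _ (hR.le (mul_mem hr (cR r hr))) (by
    rw [hR.comm hr (cR r hr), ← mul_assoc a, ← mul_assoc a, ← mul_assoc a, a2, one_mul,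
      ← hR.comm hr (cR r hr), ← mul_assoc, ← mul_assoc, mul_assoc _ a a, a2, mul_one])
  have k1 : ∀ w ∈ om R, ⁅w, a⁆ = w * (a * w * a) := fun w hw => by
    rw [commutatorElement_def, inv_eq_of_mul_eq_one_right (om_sq hR.ab hw), ia]; group
  have k2 : om R ≤ S ⊓ nor U := fun w hw => by
    have hwS := hR.le (om_le R hw)
    refine ⟨hwS, h.es.mem_nor hc hwS ?_⟩
    have := mul_mem (k1 w hw ▸ nrm w (om_le R hw)) ha
    rwa [commutatorElement_def, inv_mul_cancel_right] at this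
  have k3 : ¬ zpowers a ≤ R := fun e => haR (e (mem_zpowers a))
  have k4 : U ≤ cen (zpowers a) := h.es.ab.trans (centralizer_anti (zpowers_le.2 ha))
  obtain ⟨e1, e2⟩ := hR.ff (zpowers a) (zpowers_le.2 ⟨haS, hN haS⟩) k3
    (((commutator_mono k2 (zpowers_le.2 ha)).trans (commutator_le_right' inf_le_right)).trans k4)
    ((((rel_le (inf_le_left.trans k4)).trans (relIndex_le_of_le_right k2 (rel_ne _ _))).trans
      hq.le).trans (two_le_rel k3))
  rw [inf_of_le_left hN] at e1 e2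
  obtain ⟨_, ⟨i, rfl⟩, ρ, hρ, e3⟩ := (mem_sup_left_norm (zpowers_le.2 (hN haS))).1 (e1 h.xS)
  have hai : a ^ i ∈ S ⊓ nor U := h.es.lt.le (zpow_mem ha i)
  have ρ1 : ρ ∈ nor (S ⊓ nor U) :=
    ((nor (S ⊓ nor U)).mul_mem_cancel_left (le_normalizer hai)).1 (e3 ▸ h.xT)
  have ρ2 : ρ ∉ nor U := fun e => h.xU (e3 ▸ mul_mem hai.2 e)
  have c1 : ⁅ρ, a⁆ ∈ R := commutator_le_left' (zpowers_le.2 (hN haS))
    (commutator_mem_commutator hρ (mem_zpowers a))
  have c2 : ⁅ρ, a⁆ ∈ S ⊓ nor U :=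
    mul_mem (conj_mem_of_mem_normalizer ρ1 (h.es.lt.le ha)) (inv_mem (h.es.lt.le ha))
  have c3 : ⁅ρ, a⁆ ∉ U := fun e => ρ2 (h.es.mem_nor hc (hR.le hρ)
    ((U.mul_mem_cancel_right (inv_mem ha)).1 e))
  have c4 : a * ⁅ρ, a⁆ * a = ⁅ρ, a⁆⁻¹ := by
    rw [commutatorElement_inv, commutatorElement_def, commutatorElement_def, ia, mul_assoc,
      mul_assoc _ a a, a2]; group
  generalize ⁅ρ, a⁆ = c at c1 c2 c3 c4
  have k5 : ∀ s ∈ S ⊓ nor U, s ∉ U → ⁅s, a⁆ = z := fun s hs e => by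
    rw [← commutatorElement_inv, (ht.comm_eq hz ha hs).resolve_left fun e4 =>
      e (hc s hs.1 (commutatorElement_eq_one_iff_mul_comm.1 e4).symm),
      inv_eq_of_mul_eq_one_right (om_sq h.es.ab (ht.z_mem hz).1)]
  have c5 : c * c = z := by
    rw [← k5 c c2 c3, commutatorElement_def, ia, ← c4]
    calc _ = c * ((a * a) * c * (a * a)) := by rw [a2]; group
      _ = _ := by group
  have k6 : ∀ w ∈ om R, w ∉ cen S → ⁅w, a⁆ = z := fun w hw e => k5 w (k2 hw) fun e4 =>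
    e (centralizer_anti e1 (by rw [centralizer_sup]; exact ⟨k4 e4, hR.ab (om_le R hw)⟩))
  have z1 : z ∈ om R := mem_om_of (c5 ▸ mul_mem c1 c1) (om_sq h.es.ab (ht.z_mem hz).1)
  have z2 : z ∈ cen S := centralizer_anti e1 (by
    rw [centralizer_sup]; exact ⟨k4 (om_le U (ht.z_mem hz).1), hR.ab (om_le R z1)⟩)
  have haV : a ∉ cen (om R) := fun e => haR (hR.cv ⟨haS, e⟩)
  have z3 : z ∉ fx (nor R) (om R) := by
    obtain ⟨w, hw, e⟩ := SetLike.not_le_iff_exists.1 fun e : om R ≤ cen S =>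
      haV (le_centralizer_iff.1 e haS)
    exact k6 w hw e ▸ e2.ncomm w hw e a haS haV
  obtain ⟨k, hk, e4⟩ := e2.ex
  have z4 := conj_mem_of_mem_normalizer (nor_le_om R hk) z1
  have z5 : k * z * k⁻¹ ∉ cen S := fun e => by
    have h4 : k * z * k⁻¹ ∈ fx (nor R) (om R) := (e2.inter k hk e4).le ⟨⟨z4, e⟩, by
      have := conj_mem_cj (g := k) z2
      rwa [cen, cj_centralizer] at this⟩
    have := fx_conj (nor_le_om R) (inv_mem hk) h4
    exact z3 (by simpa [mul_assoc] using this)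
  have d1 := conj_mem_of_mem_normalizer hk c1
  have d2 : k * c * k⁻¹ * (k * c * k⁻¹) = k * z * k⁻¹ := by rw [← c5]; group
  have d3 := k6 _ z4 z5
  rw [k1 _ z4, ← d2] at d3
  generalize k * c * k⁻¹ = d at d1 d3
  obtain ⟨n1, b, hb, s, hs, e5⟩ := hz
  refine n1 (e5.trans (ht.ns hb hs (nrm d d1) (e5.symm.trans (d3.symm.trans ?_))))
  have e6 : a * (d * d) * a = a * d * a * (a * d * a) := by
    calc _ = a * d * (a * a) * d * a := by rw [a2]; group
      _ = _ := by group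
  have e7 := hR.comm d1 (cR d d1)
  rw [e6]
  generalize a * d * a = d' at e7
  calc _ = d * (d * d') * d' := by group
    _ = d * (d' * d) * d' := by rw [e7]
    _ = _ := by group

end H32.Abi
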