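import Cfsg.Agent.H20.DGSpec

/-! DG-T4: the classes of the linear characters of `C(A)` under `N(A)` have one size `e < p`. -/

set_option autoImplicit false

namespace H32.DGT4

open Subgroup MulAction Cfsg H98 H20.DG

universe u v

variable {G : Type u} [Group G]

/-- Conjugation by `N(A)` on `C(A)`. -/
def rho (A : Subgroup G) : normalizer (A : Set G) →* MulAut (Cn A) :=
  (Cn A).normalizerMonoidHom.comp (inclusion (normalizer_le_normalizer_centralizer A))

theorem rho_coe (A : Subgroup G) (n : normalizer (A : Set G)) (c : Cn A) :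
    (rho A n c : G) = n * c * (n : G)⁻¹ := rfl

/-- The action of `N(A)` on the linear characters of `C(A)`. -/
abbrev act (A : Subgroup G) : MulAction (normalizer (A : Set G)) (Cn A →* ℂˣ) where
  smul n μ := μ.comp (rho A n⁻¹).toMonoidHom
  one_smul μ := by
    refine MonoidHom.ext fun c => ?_
    show μ (rho A 1⁻¹ c) = μ c
    simp
  mul_smul n m μ := by
    refine MonoidHom.ext fun c => ?_
    show μ (rho A (n * m)⁻¹ c) = μ (rho A m⁻¹ (rho A n⁻¹ c))
    rw [mul_inv_rev, map_mul]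
    rfl

theorem cj_iff (A : Subgroup G) (μ ν : Cn A →* ℂˣ) :
    Cj A μ ν ↔ ∃ n : normalizer (A : Set G), ∀ c, ν c = μ (rho A n c) := by
  constructor
  · rintro ⟨n, hn, h⟩
    exact ⟨⟨n, hn⟩, fun c => h c _ rfl⟩
  · rintro ⟨n, h⟩
    refine ⟨n, n.2, fun c d e => ?_⟩
    rw [h c]
    congr 1
    exact Subtype.ext e.symm

theorem equiv (A : Subgroup G) : Equivalence (Cj A) := by
  refine ⟨fun μ => (cj_iff _ _ _).2 ⟨1, fun c => by simp⟩, fun h => ?_, fun h k => ?_⟩
  · obtain ⟨n, h⟩ := (cj_iff _ _ _).1 h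
    refine (cj_iff _ _ _).2 ⟨n⁻¹, fun c => ?_⟩
    rw [h, ← MulAut.mul_apply, ← map_mul]
    simp
  · obtain ⟨n, h⟩ := (cj_iff _ _ _).1 h
    obtain ⟨m, k⟩ := (cj_iff _ _ _).1 k
    refine (cj_iff _ _ _).2 ⟨n * m, fun c => ?_⟩
    rw [k, h, map_mul]
    rfl

theorem job : JobT4.{u, v} := by
  intro G Ω _ _ _ _ p q P A L O hy h
  have hp := hy.pp
  have : Fact p.Prime := ⟨hp⟩
  refine ⟨equiv A, (Cn A).relIndex (normalizer (A : Set G)), ?_, fun μ hμ => ?_⟩
  · have : IsCyclic A := isCyclic_of_prime_card h.cardA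
    have h1 : (Cn A).relIndex (normalizer (A : Set G)) = Nat.card A.normalizerMonoidHom.range := by
      rw [← index_ker, normalizerMonoidHom_ker]
      rfl
    have h2 : Nat.card (MulAut A) = p.totient := by rw [IsCyclic.card_mulAut, h.cardA]
    rw [h1]
    exact lt_of_le_of_lt (h2 ▸ card_le_card_group _) (Nat.totient_lt p hp.one_lt)
  have AC : A ≤ Cn A := fun a ha => mem_centralizer_iff.2 fun b hb => h.el.1 b hb a ha
  have nO : ∀ n ∈ normalizer (A : Set G), ∀ a ∈ O, n • a ∈ O := fun n hn a ha => by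
    by_contra hna
    refine (h.fix a).1 (fun x hx => ?_) ha
    have := (h.fix _).2 hna (conj_mem_of_mem_normalizer hn hx)
    rw [mem_stabilizer_iff, mul_smul, mul_smul, inv_smul_smul, smul_left_cancel_iff] at this
    exact this
  have nM : ∀ n : normalizer (A : Set G), μ.comp (rho A n).toMonoidHom ∈ MM A L := fun n => by
    obtain ⟨h1, c, hc, h2⟩ := hμ
    refine ⟨fun d hd => h1 (rho A n d) ((h.memL _).2 fun a ha => ?_), rho A n⁻¹ c,
      conj_mem_of_mem_normalizer (n⁻¹).2 hc, ?_⟩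
    · rw [rho_coe, mul_smul, mul_smul, (h.memL _).1 hd _ (nO _ (inv_mem n.2) a ha), smul_inv_smul]
    · show μ (rho A n (rho A n⁻¹ c)) ≠ 1
      rw [← MulAut.mul_apply, ← map_mul]
      simpa using h2
  have inj : ∀ c : Cn A, (c : G) ∈ A → μ c = 1 → (c : G) = 1 := fun c hc h1 => by
    by_contra hne
    obtain ⟨-, d, hd, h2⟩ := hμ
    have h3 : (⟨c, hc⟩ : A) ≠ 1 := fun e => hne (congrArg Subtype.val e)
    obtain ⟨k, hk⟩ := mem_zpowers_of_prime_card h.cardA h3 (g' := ⟨d, hd⟩)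
    have h4 : d = c ^ k := Subtype.ext (by simpa using (congrArg Subtype.val hk).symm)
    exact h2 (by rw [h4, map_zpow, h1, one_zpow])
  let _ := act A
  have e1 : {ν | ν ∈ MM A L ∧ Cj A μ ν} = orbit (normalizer (A : Set G)) μ := by
    ext ν
    constructor
    · rintro ⟨-, hν⟩
      obtain ⟨n, hn⟩ := (cj_iff _ _ _).1 hν
      refine ⟨n⁻¹, MonoidHom.ext fun c => ?_⟩
      show μ (rho A n⁻¹⁻¹ c) = ν c
      rw [inv_inv, hn]
    · rintro ⟨n, rfl⟩
      exact ⟨nM n⁻¹, (cj_iff _ _ _).2 ⟨n⁻¹, fun c => rfl⟩⟩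
  have e2 : stabilizer (normalizer (A : Set G)) μ = (Cn A).subgroupOf (normalizer (A : Set G)) := by
    ext n
    rw [mem_stabilizer_iff, mem_subgroupOf]
    constructor
    · intro hn
      refine mem_centralizer_iff.2 fun a ha => ?_
      have h1 : μ (rho A n⁻¹ ⟨a, AC ha⟩) = μ ⟨a, AC ha⟩ := DFunLike.congr_fun hn _
      have h2 := inj (rho A n⁻¹ ⟨a, AC ha⟩ * ⟨a, AC ha⟩⁻¹)
        (A.mul_mem (conj_mem_of_mem_normalizer (n⁻¹).2 ha) (A.inv_mem ha))
        (by rw [map_mul, h1, map_inv, mul_inv_cancel])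
      have h3 : (n : G)⁻¹ * a * (n : G)⁻¹⁻¹ * a⁻¹ = 1 := h2
      calc a * n = n * ((n : G)⁻¹ * a * (n : G)⁻¹⁻¹ * a⁻¹) * a := by group
        _ = n * a := by rw [h3, mul_one]
    · intro hn
      refine MonoidHom.ext fun c => ?_
      show μ (rho A n⁻¹ c) = μ c
      have : rho A n⁻¹ c = (⟨n, hn⟩ : Cn A)⁻¹ * c * ⟨n, hn⟩ :=
        Subtype.ext (by rw [rho_coe]; simp)
      rw [this, map_mul, map_mul, map_inv, inv_mul_cancel_comm]
  rw [e1, ← index_stabilizer, e2]
  rfl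

end H32.DGT4
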