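import Cfsg.Agent.H48.DNASpec

/-! DP0-N-S6: pulling the `L₃(2)` model back to the elements for pushing up. -/

set_option autoImplicit false

namespace H32.DNS6

open Subgroup Cfsg H98 H48.DP H57.DPC H48.DP2
open scoped commutatorElement

universe u

variable {G : Type u} [Group G] {Λ : Type*} [Group Λ] {L : Subgroup G}

/-- Preimage in `G` of a subgroup of the quotient of `L`. -/
def pre (f : L →* Λ) (A : Subgroup Λ) : Subgroup G := (A.comap f).map L.subtype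

/-- Image of `Z ⊓ L`. -/
def img (f : L →* Λ) (Z : Subgroup G) : Subgroup Λ := (Z.subgroupOf L).map f

theorem mem_pre (f : L →* Λ) (A : Subgroup Λ) (g : L) : (g : G) ∈ pre f A ↔ f g ∈ A := by
  constructor
  · rintro ⟨a, ha, h⟩
    have : a = g := Subtype.ext h
    subst this
    exact ha
  · intro h
    exact ⟨g, h, rfl⟩

theorem pre_le (f : L →* Λ) (A : Subgroup Λ) : pre f A ≤ L := map_subtype_le _

theorem no_pre (f : L →* Λ) {A : Subgroup Λ} {g : L} (h : f g ∈ No A) :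
    (g : G) ∈ No (pre f A) := by
  have h1 : (No A).comap f ≤ No (A.comap f) := comap_le_normalizer_comap f le_rfl
  have h2 : (No (A.comap f)).map L.subtype ≤ No ((A.comap f).map L.subtype) :=
    map_le_normalizer_map L.subtype le_rfl
  exact h2 ⟨g, h1 h, rfl⟩

theorem no_img (f : L →* Λ) {Z : Subgroup G} {g : L} (h : (g : G) ∈ No Z) :
    f g ∈ No (img f Z) := by
  have h1 : (No Z).comap L.subtype ≤ No (Z.comap L.subtype) :=
    comap_le_normalizer_comap L.subtype le_rfl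
  have h2 : (No (Z.subgroupOf L)).map f ≤ No ((Z.subgroupOf L).map f) :=
    map_le_normalizer_map f le_rfl
  exact h2 ⟨g, h1 h, rfl⟩

theorem pre_sup (f : L →* Λ) (hf : Function.Surjective f) (B : Subgroup Λ) (t : L) :
    pre f (B ⊔ zpowers (f t)) = pre f B ⊔ zpowers (t : G) := by
  unfold pre
  rw [← MonoidHom.map_zpowers f t, ← comap_sup_eq _ _ _ hf, comap_map_eq f (zpowers t),
    sup_comm (zpowers t), ← sup_assoc, sup_of_le_left (ker_le_comap f _), Subgroup.map_sup,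
    MonoidHom.map_zpowers]
  rfl

theorem no_of_comm [Finite G] {Q D : Subgroup G} (hQ : Q ≤ D) {p : G}
    (h : ∀ d ∈ D, ⁅p, d⁆ ∈ Q) : p ∈ No D := by
  refine mem_normalizer_fintype fun d hd => ?_
  have : p * d * p⁻¹ = ⁅p, d⁆ * d := by rw [commutatorElement_def]; group
  rw [this]
  exact D.mul_mem (hQ (h d hd)) hd

theorem job : JS6.{u} := by
  intro pm s6a G _ _ M Q L X P y z r h h7
  have : Fact (Nat.Prime 2) := ⟨Nat.prime_two⟩
  obtain ⟨sa, sb⟩ := s6a G M Q L X P y z r h h7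
  obtain ⟨f, y', hf, hk, hy, hc, ho⟩ := h7.md
  have QL : Q ≤ L := h7.QX.trans h7.XL
  have kQ : ∀ g : L, f g = 1 ↔ (g : G) ∈ Q := fun g => by
    rw [← MonoidHom.mem_ker, hk, mem_subgroupOf]
  have Q2 : IsPGroup 2 Q := by rw [← h.o2]; exact isPGroup_pCoreOf _
  have Qp : ∀ A : Subgroup P7, Q ≤ pre f A := fun A q hq =>
    (mem_pre f A ⟨q, QL hq⟩).2 (by rw [(kQ ⟨q, QL hq⟩).2 hq]; exact A.one_mem)
  have p2 : ∀ A : Subgroup P7, IsPGroup 2 A → IsPGroup 2 (pre f A) := fun A hA =>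
    (hA.comap_of_ker_isPGroup f (by rw [hk]; exact Q2.comap_subtype)).map _
  have Xp : pre f (img f X) = X := by
    refine le_antisymm ?_ fun x hx =>
      (mem_pre f (img f X) ⟨x, h7.XL hx⟩).2 ⟨⟨x, h7.XL hx⟩, hx, rfl⟩
    rintro _ ⟨a, ⟨b, hb, e⟩, rfl⟩
    have h1 : ((b⁻¹ * a : L) : G) ∈ Q := (kQ _).1 (by rw [map_mul, map_inv, e, inv_mul_cancel])
    have h2 := X.mul_mem (show (b : G) ∈ X from hb) (h7.QX h1)
    simpa using h2
  have same : ∀ a b : L, (a : G)⁻¹ * b ∈ Q → f b = f a := fun a b hab => by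
    have := (kQ (a⁻¹ * b)).2 hab
    rw [map_mul, map_inv, inv_mul_eq_one] at this
    exact this.symm
  obtain ⟨D0, V0, l0, t0, s0, m⟩ := pm (img f X) (f y') hc ho (no_img f (by rw [hy]; exact h7.yX))
  obtain ⟨l1, rfl⟩ := hf l0
  obtain ⟨t1, rfl⟩ := hf t0
  obtain ⟨s, rfl⟩ := hf s0
  obtain ⟨l, lL, lP, hl⟩ := sa l1 l1.2
  have ty : (t1 : G) * y * (t1 : G)⁻¹ ∈ Q ⊔ zpowers y := by
    obtain ⟨k, e⟩ := (mem_normalizer_iff.1 m.tN (f y')).1 (mem_zpowers _)
    have h1 : ((t1 * y' * t1⁻¹ * (y' ^ k)⁻¹ : L) : G) ∈ Q := (kQ _).1 (by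
      simp only at e
      rw [map_mul, map_mul, map_mul, map_inv, map_inv, map_zpow, e, mul_inv_cancel])
    have h2 := mul_mem_sup h1 (show y ^ k ∈ zpowers y from ⟨k, rfl⟩)
    simpa [hy] using h2
  obtain ⟨t, tL, tN, ht⟩ := sb t1 t1.2 ty
  have fl : f ⟨l, lL⟩ = f l1 := same l1 ⟨l, lL⟩ hl
  have ft : f ⟨t, tL⟩ = f t1 := same t1 ⟨t, tL⟩ ht
  rw [← fl, ← ft] at m
  obtain ⟨l, rfl⟩ : ∃ a : L, (a : G) = l := ⟨⟨l, lL⟩, rfl⟩
  obtain ⟨t, rfl⟩ : ∃ a : L, (a : G) = t := ⟨⟨t, tL⟩, rfl⟩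
  simp only [Subtype.coe_eta] at m
  subst hy
  have tD : (t : G) ∈ pre f D0 := (mem_pre f _ t).2 (by
    rw [m.eq]; exact mem_sup_right (mem_zpowers _))
  have cs : ∀ a b : G, ⁅a, b⁆ ∈ Q → ⁅b, a⁆ ∈ Q := fun a b hab => by
    rw [← commutatorElement_inv]; exact Q.inv_mem hab
  have lM : (l : G) ∈ M := h7.LM l.2
  have e1 : (l : G) * y' * (l : G)⁻¹ = ((l * y' * l⁻¹ : L) : G) := by simp
  have e2 : f (l * y' * l⁻¹) = f l * f y' * (f l)⁻¹ := by simp
  refine ⟨pre f D0, pre f V0, l, t, s, lM, lP, tN, (p2 _ m.D2).to_le (zpowers_le.2 tD), ?_,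
    fun p hp => cs _ _ (h7.PL p hp _ t.2), cs _ _ (h7.rL _ t.2), ?_, p2 _ m.D2,
    map_mono (comap_mono m.VD), ?_, Qp _, ?_, ?_, (mem_pre f _ s).2 m.sD,
    fun hs => m.sV ((mem_pre f _ s).1 hs), ?_, ?_,
    fun p hp => no_of_comm (Qp _) fun d hd => h7.PL p hp d (pre_le f _ hd), ?_, ?_⟩
  · rw [← Xp]
    exact no_pre f m.tB
  · rw [m.eq, pre_sup f hf, Xp]
  · unfold pre
    rw [relIndex_map_map_of_injective _ _ L.subtype_injective, relIndex_comap,
      map_comap_eq_self_of_surjective hf]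
    exact m.idx
  · rw [e1]
    exact no_pre f (by rw [e2]; exact m.yV)
  · rintro _ ⟨d, hd, rfl⟩
    exact no_pre f (m.DV hd)
  · have : (s : G) * (l * y' * (l : G)⁻¹) * (s : G)⁻¹ * (l * y' * (l : G)⁻¹) =
        ((s * (l * y' * l⁻¹) * s⁻¹ * (l * y' * l⁻¹) : L) : G) := by simp
    rw [this]
    refine Qp _ ((kQ _).1 ?_)
    rw [map_mul, map_mul, map_mul, map_inv, e2, m.sy, inv_mul_cancel]
  · intro hD
    refine m.nab (eq_bot_iff.2 (commutator_le.2 fun a ha b hb => ?_))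
    obtain ⟨a, rfl⟩ := hf a
    obtain ⟨b, rfl⟩ := hf b
    rw [mem_bot, ← map_commutatorElement, kQ]
    exact hD (commutator_mem_commutator ((mem_pre f _ a).2 ha) ((mem_pre f _ b).2 hb))
  · have h1 : r ∈ No (pre f D0) := no_of_comm (Qp _) fun d hd => h7.rL d (pre_le f _ hd)
    have h2 : (l : G) * r * (l : G)⁻¹ = ⁅(l : G), r⁆ * r := by rw [commutatorElement_def]; group
    rw [h2]
    exact mul_mem (le_normalizer (Qp _ (cs _ _ (h7.rL _ l.2)))) h1
  · intro Y hY QY DY yY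
    have lQ : (l : G) ∈ No Q := by rw [h.no]; exact lM
    have cL : cj (l : G) X ≤ L := cj_le_of_le_of_mem h7.XL l.2
    have hb : img f (Y ⊓ cj (l : G) X) = ⊥ := by
      refine m.fin _ ?_ ?_ ?_
      · rintro _ ⟨a, ha, rfl⟩
        have h1 : (l : G)⁻¹ * a * l ∈ X := mem_cj.1 (mem_subgroupOf.1 ha).2
        refine mem_cj.2 ⟨l⁻¹ * a * l, h1, by simp⟩
      · rw [← e2]
        refine no_img f ?_
        rw [← e1]
        have h1 : (l : G) * y' * (l : G)⁻¹ ∈ No (cj (l : G) X) := by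
          have := conj_mem_cj (g := (l : G)) h7.yX
          rwa [cj_normalizer] at this
        exact le_normalizer_inf (zpowers_le.2 yY) (zpowers_le.2 h1) (mem_zpowers _)
      · have h1 : IsPGroup 2 ↥(pre f D0 ⊔ Y) := (p2 _ m.D2).to_sup_of_normal_right' hY DY
        have h2 : IsPGroup 2 (img f (pre f D0 ⊔ Y)) := h1.comap_subtype.map f
        refine h2.to_le (sup_le (map_mono fun a ha => mem_sup_right ha.1) fun d hd => ?_)
        obtain ⟨d, rfl⟩ := hf d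
        exact ⟨d, mem_sup_left ((mem_pre f _ d).2 hd), rfl⟩
    refine le_antisymm (fun a ha => ?_) (le_inf QY ?_)
    · refine (kQ ⟨a, cL ha.2⟩).1 ?_
      rw [← mem_bot, ← hb]
      exact ⟨⟨a, cL ha.2⟩, ha, rfl⟩
    · rw [← cj_eq_self lQ]
      exact cj_mono _ h7.QX

end H32.DNS6
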