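import Cfsg.Agent.H48.DC4Spec

/-! DP0-MA: a larger invariant 2-group centralises `n`. -/

set_option autoImplicit false

namespace H32.DPMA

open Subgroup Cfsg H98 H48.DP H57.DPC H48.DP2
open scoped commutatorElement

universe u

variable {G : Type u} [Group G]

theorem no_conj {X : Subgroup G} {g a : G} (hg : g ∈ No X) (ha : a ∈ X) : g * a * g⁻¹ ∈ X :=
  (mem_normalizer_iff.1 hg a).1 ha

theorem no_of [Finite G] {X : Subgroup G} {g : G} (h : ∀ a ∈ X, g * a * g⁻¹ ∈ X) : g ∈ No X :=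
  mem_normalizer_fintype h

theorem ce_conj {X : Subgroup G} {g a : G} (hg : g ∈ No X) (ha : a ∈ Ce X) :
    g * a * g⁻¹ ∈ Ce X := by
  rw [mem_centralizer_iff] at *
  intro b hb
  have := ha (g⁻¹ * b * g) (by simpa using no_conj (inv_mem hg) hb)
  calc b * (g * a * g⁻¹) = g * ((g⁻¹ * b * g) * a) * g⁻¹ := by group
    _ = g * (a * (g⁻¹ * b * g)) * g⁻¹ := by rw [this]
    _ = _ := by group

theorem om_conj {X : Subgroup G} {g a : G} (hg : g ∈ No X) (ha : a ∈ Om X) :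
    g * a * g⁻¹ ∈ Om X :=
  ⟨no_conj hg ha.1, ce_conj hg ha.2.1, by
    calc g * a * g⁻¹ * (g * a * g⁻¹) = g * (a * a) * g⁻¹ := by group
      _ = 1 := by rw [ha.2.2]; group⟩

theorem no_inf [Finite G] {A B : Subgroup G} {g : G} (h1 : g ∈ No A) (h2 : g ∈ No B) :
    g ∈ No (A ⊓ B) := no_of fun _ ha => ⟨no_conj h1 ha.1, no_conj h2 ha.2⟩

theorem no_no [Finite G] {A : Subgroup G} {g : G} (h : g ∈ No A) : g ∈ No (No A) :=
  le_normalizer h

theorem no_sup_s [Finite G] {A : Subgroup G} {g s : G} (h : g ∈ No A) (hs : Commute s g) :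
    g ∈ No (A ⊔ zpowers s) := by
  refine normalizer_inf_normalizer_le_normalizer_sup A (zpowers s) ⟨h, no_of ?_⟩
  rintro _ ⟨k, rfl⟩
  have := (hs.zpow_left k).eq
  simp only
  rw [← this, mul_inv_cancel_right]
  exact ⟨k, rfl⟩

theorem grow [Finite G] {S T : Subgroup G} (hT : IsPGroup 2 T) (hle : S ≤ T) (hne : ¬ T ≤ S) :
    ¬ T ⊓ No S ≤ S := by
  have : Fact (Nat.Prime 2) := ⟨Nat.prime_two⟩
  have hn := hT.isNilpotent
  have h1 : S.subgroupOf T < ⊤ := by
    rw [lt_top_iff_ne_top]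
    intro h
    exact hne (subgroupOf_eq_top.1 h)
  obtain ⟨q, hq, hq'⟩ := SetLike.exists_of_lt (Group.normalizerCondition_of_isNilpotent _ h1)
  intro h
  refine hq' (h ⟨q.2, no_of fun a ha => ?_⟩)
  exact (mem_normalizer_iff.1 hq ⟨a, hle ha⟩).1 ha

theorem om_ne [Finite G] {X : Subgroup G} (hX : IsPGroup 2 X) (hne : X ≠ ⊥) : Om X ≠ ⊥ := by
  have : Fact (Nat.Prime 2) := ⟨Nat.prime_two⟩
  have : Nontrivial X := (nontrivial_iff_ne_bot X).2 hne
  have h1 := hX.center_nontrivial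
  have h2 : 2 ∣ Nat.card (center X) := by
    obtain ⟨k, hk⟩ := (IsPGroup.iff_card.1 (hX.to_subgroup (center X)))
    have := Finite.one_lt_card (α := center X)
    rw [hk] at this ⊢
    exact dvd_pow_self 2 (by rintro rfl; simp at this)
  obtain ⟨a, ha⟩ := exists_prime_orderOf_dvd_card' 2 h2
  intro h
  have h3 : ((a : X) : G) ∈ Om X := by
    refine ⟨(a : X).2, mem_centralizer_iff.2 fun b hb => ?_, ?_⟩
    · exact congrArg Subtype.val (mem_center_iff.1 a.2 ⟨b, hb⟩)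
    · have := pow_orderOf_eq_one a
      rw [ha, sq] at this
      exact congrArg (fun t : center X => ((t : X) : G)) this
  rw [h, mem_bot] at h3
  have h4 : a = 1 := Subtype.ext (Subtype.ext h3)
  rw [h4, orderOf_one] at ha
  exact absurd ha (by decide)

theorem three_le [Finite G] {A : Subgroup G} {a b : G} (ha : a ∈ A) (hb : b ∈ A) (a1 : a ≠ 1)
    (b1 : b ≠ 1) (hab : a ≠ b) : 3 ≤ Nat.card A := by
  classical
  have := Fintype.ofFinite A
  rw [Nat.card_eq_fintype_card]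
  have h : ({1, ⟨a, ha⟩, ⟨b, hb⟩} : Finset A).card = 3 :=
    Finset.card_eq_three.2 ⟨_, _, _, fun e => a1 (congrArg Subtype.val e).symm,
      fun e => b1 (congrArg Subtype.val e).symm, fun e => hab (congrArg Subtype.val e), rfl⟩
  rw [← h]
  exact Finset.card_le_univ _

theorem eq_of_three [Finite G] {A B : Subgroup G} (hle : A ≤ B) (hB : Nat.card B = 4)
    (h3 : 3 ≤ Nat.card A) : A = B := by
  have h1 := card_dvd_of_le hle
  rw [hB] at h1
  have h2 := Nat.le_of_dvd (by norm_num) h1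
  refine eq_of_le_of_card_ge hle ?_
  interval_cases h : Nat.card A
  · exact absurd h1 (by decide)
  · omega

theorem job : MA.{u} := by
  intro G _ _ M Q J L W X X' y z u n n' l s ba vn wm su xx hlt
  set x := l * z * l⁻¹ with hx
  have hxL : x ∈ L := L.mul_mem (L.mul_mem su.lL ba.lt.zL) (L.inv_mem su.lL)
  have hx3 : x ^ 3 = 1 := by
    rw [hx, conj_pow, ← ba.bd.z3, pow_orderOf_eq_one]; group
  have hSL : X ⊔ zpowers s ≤ L := su.SL.trans inf_le_left
  have hSM : X ⊔ zpowers s ≤ M := su.SL.trans inf_le_right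
  have hSn : X ⊔ zpowers s ≤ C1 n' := (su.SL.trans wm.st.ge).trans inf_le_right
  have hXL : X ≤ L := le_sup_left.trans hSL
  have hsS : s ∈ X ⊔ zpowers s := mem_sup_right (mem_zpowers s)
  have hZc : ∀ a ∈ Om J, ∀ b ∈ Om J, a * b = b * a := fun a ha b hb =>
    mem_centralizer_iff.1 hb.2.1 a ha.1
  have hn' : n' ∈ Om J := wm.le wm.mem
  have hn'1 : n' ∈ W ⊓ Ce X := ⟨wm.mem, mem_centralizer_iff.2 fun b hb =>
    mem_centralizer_singleton_iff.1 (hSn (mem_sup_left hb))⟩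
  have hxW : ∀ a ∈ W ⊓ Ce X, x * a * x⁻¹ ∈ W ⊓ Ce X := fun a ha =>
    ⟨no_conj (wm.nor hxL) ha.1, ce_conj su.xx.2.1 ha.2⟩
  have hxn : x * n' ≠ n' * x := fun h => su.xM
    ((wm.st.le ⟨hxL, mem_centralizer_singleton_iff.2 h⟩).2)
  have hxn' : x * n' * x⁻¹ ≠ n' := fun h => hxn (by rw [← mul_inv_eq_iff_eq_mul, h])
  have hx1 : ∀ a : G, a ≠ 1 → x * a * x⁻¹ ≠ 1 := fun a ha h => ha (by
    calc a = x⁻¹ * (x * a * x⁻¹) * x := by group
      _ = 1 := by rw [h]; group)
  have hx2 : x * x * n' ≠ n' * (x * x) := fun h => hxn (by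
    have e : x = (x * x) * (x * x) := by
      calc x = x ^ 3 * x := by rw [hx3, one_mul]
        _ = _ := by simp only [pow_succ, pow_zero, one_mul, mul_assoc]
    calc x * n' = (x * x) * (x * x * n') := by rw [← mul_assoc (x * x), ← e]
      _ = (x * x) * (n' * (x * x)) := by rw [h]
      _ = (x * x * n') * (x * x) := by rw [← mul_assoc]
      _ = n' * ((x * x) * (x * x)) := by rw [h, mul_assoc]
      _ = n' * x := by rw [← e])
  -- Step 1
  have hc4 : Nat.card ↥(W ⊓ Ce X) = 4 := by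
    have h3 := three_le hn'1 (hxW _ hn'1) wm.ne (hx1 _ wm.ne) hxn'.symm
    have h1 : Nat.card ↥(W ⊓ Ce X) ∣ 8 := wm.card ▸ card_dvd_of_le inf_le_left
    have h2 := Nat.le_of_dvd (by norm_num) h1
    have h8 : Nat.card ↥(W ⊓ Ce X) ≠ 8 := by
      intro h
      have e : W ⊓ Ce X = W := eq_of_le_of_card_ge inf_le_left (by rw [h, wm.card])
      have h4 : X ≤ J := by
        rw [← wm.cW]
        exact le_inf hXL (le_centralizer_iff.1 (e.ge.trans inf_le_right))
      have h5 := su.ix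
      rw [relIndex_eq_one.2 h4] at h5
      omega
    interval_cases h : Nat.card ↥(W ⊓ Ce X) <;> first | rfl | omega | exact absurd h1 (by decide)
  -- an element centralising `n'` and another involution of `W₁` centralises `W₁`
  have hgen : ∀ g : G, g * n' = n' * g → ∀ w ∈ W ⊓ Ce X, w ≠ 1 → w ≠ n' → g * w = w * g →
      g * (x * n' * x⁻¹) = x * n' * x⁻¹ * g := by
    intro g h1 w hw w1 w2 h2
    have e : (W ⊓ Ce X) ⊓ C1 g = W ⊓ Ce X := eq_of_three inf_le_left hc4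
      (three_le ⟨hn'1, mem_centralizer_singleton_iff.2 h1.symm⟩
        ⟨hw, mem_centralizer_singleton_iff.2 h2.symm⟩ wm.ne w1 (Ne.symm w2))
    exact (mem_centralizer_singleton_iff.1 (e.ge (hxW _ hn'1)).2).symm
  have hfix : ∀ w ∈ W ⊓ Ce X, x * w = w * x → w = 1 := by
    intro w hw h
    by_contra w1
    have hw' : (W ⊓ Ce X) ⊓ C1 x ≠ W ⊓ Ce X := fun e =>
      hxn (mem_centralizer_singleton_iff.1 (e.ge hn'1).2).symm
    have w2 : w ≠ n' := fun e => hxn (e ▸ h)
    have w3 : w ≠ x * n' * x⁻¹ := fun e => hxn (by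
      rw [e] at h
      calc x * n' = x⁻¹ * (x * (x * n' * x⁻¹)) * x := by group
        _ = n' * x := by rw [h]; group)
    -- `W₁ = {1, n', x n' x⁻¹, w}` and `x² n' x⁻²` is one of them
    classical
    have := Fintype.ofFinite ↥(W ⊓ Ce X)
    have h4 : ({1, ⟨n', hn'1⟩, ⟨_, hxW _ hn'1⟩, ⟨w, hw⟩} : Finset ↥(W ⊓ Ce X)) = Finset.univ := by
      apply Finset.eq_univ_of_card
      rw [← Nat.card_eq_fintype_card, hc4, Finset.card_insert_of_notMem, Finset.card_insert_of_notMem,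
        Finset.card_pair]
      · exact fun e => w3 (congrArg Subtype.val e).symm
      · simp only [Finset.mem_insert, Finset.mem_singleton, Subtype.ext_iff, not_or]
        exact ⟨hxn'.symm, Ne.symm w2⟩
      · simp only [Finset.mem_insert, Finset.mem_singleton, Subtype.ext_iff, not_or]
        exact ⟨wm.ne.symm, (hx1 _ wm.ne).symm, Ne.symm w1⟩
    have h5 : (⟨_, hxW _ (hxW _ hn'1)⟩ : ↥(W ⊓ Ce X)) ∈ ({1, ⟨n', hn'1⟩, ⟨_, hxW _ hn'1⟩, ⟨w, hw⟩} :
        Finset ↥(W ⊓ Ce X)) := h4 ▸ Finset.mem_univ _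
    simp only [Finset.mem_insert, Finset.mem_singleton, Subtype.ext_iff] at h5
    rcases h5 with e | e | e | e
    · exact hx1 _ (hx1 _ wm.ne) e
    · exact hx2 (by
        calc x * x * n' = x * (x * n' * x⁻¹) * x⁻¹ * (x * x) := by group
          _ = _ := by rw [e])
    · exact hxn' (by
        calc x * n' * x⁻¹ = x⁻¹ * (x * (x * n' * x⁻¹) * x⁻¹) * x := by group
          _ = _ := by rw [e]; group)
    · exact w3 (by
        calc w = x⁻¹ * (x * w) := by group
          _ = x⁻¹ * (x * (x * n' * x⁻¹) * x⁻¹ * x) := by rw [h, e]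
          _ = _ := by group)
  -- the decomposition of `Ω₁(Z(J))`
  have hdec : ∀ g ∈ Om J, ∃ w ∈ W, ∃ c ∈ Om J ⊓ Ce L, g = w * c := by
    intro g hg
    have h1 := wm.sup hg
    have hno : W ≤ No (Om J ⊓ Ce L) := fun w hw => no_of fun a ha => by
      rw [hZc w (wm.le hw) a ha.1, mul_inv_cancel_right]; exact ha
    have h2 : g ∈ ((W ⊔ (Om J ⊓ Ce L) : Subgroup G) : Set G) := h1
    rw [coe_mul_of_left_le_normalizer_right _ _ hno] at h2
    obtain ⟨w, hw, c, hc, e⟩ := h2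
    exact ⟨w, hw, c, hc, e.symm⟩
  have hcw : ∀ w c g : G, c ∈ Ce L → g ∈ L → g * (w * c) = w * c * g → g * w = w * g := by
    intro w c g hc hg h
    have e := mem_centralizer_iff.1 hc g hg
    calc g * w = g * (w * c) * c⁻¹ := by group
      _ = w * (c * g) * c⁻¹ := by rw [h, mul_assoc w c g]
      _ = w * g := by rw [← e]; group
  have hom : ∀ Y : Subgroup G, J ≤ Y → Om Y ≤ Om J := fun Y hY g hg =>
    have h1 : g ∈ Ce J := centralizer_le hY hg.2.1
    ⟨ba.cJ h1, h1, hg.2.2⟩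
  have hX'2 : IsPGroup 2 X' := xx.2.2.2.to_le le_sup_left
  have hNJ : ¬ X' ≤ No J := by
    intro h
    have h1 := ba.lt.two X' h hX'2 xx.1
    exact hlt.ne' (su.mx X' hX'2 h1 hlt.le xx.2.1)
  -- Step 2
  have hce : X' ≤ Ce (W ⊓ Ce X) := by
    have hZ := hom X' (su.JX.trans hlt.le)
    have hex : ∃ g ∈ Om X', x * g ≠ g * x := by
      by_contra hc
      push Not at hc
      have h1 : Om X' ≤ Ce L := by
        intro g hg
        obtain ⟨w, hw, c, hc', rfl⟩ := hdec g (hZ hg)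
        have hw1 : w ∈ W ⊓ Ce X := ⟨hw, mem_centralizer_iff.2 fun b hb =>
          hcw w c b hc'.2 (hXL hb) (mem_centralizer_iff.1 hg.2.1 b (hlt.le hb))⟩
        rw [hfix w hw1 (hcw w c x hc'.2 hxL (hc _ hg)), one_mul]
        exact hc'.2
      have h2 := ba.lt.uniq (Om X') (hX'2.to_le fun g hg => hg.1)
        (om_ne hX'2 (bot_lt_iff_ne_bot.1 (bot_le.trans_lt hlt)))
        ((le_centralizer_iff.1 h1).trans (centralizer_le_normalizer _))
        (no_of fun a ha => om_conj xx.1 ha)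
      exact hNJ (le_trans (fun g hg => no_of fun a ha => om_conj (le_normalizer hg) ha) h2)
    obtain ⟨g, hg, hgx⟩ := hex
    obtain ⟨w, hw, c, hc', rfl⟩ := hdec g (hZ hg)
    have hw1 : w ∈ W ⊓ Ce X := ⟨hw, mem_centralizer_iff.2 fun b hb =>
      hcw w c b hc'.2 (hXL hb) (mem_centralizer_iff.1 hg.2.1 b (hlt.le hb))⟩
    have hxc : x * c = c * x := mem_centralizer_iff.1 hc'.2 x hxL
    have e : x * (w * c) * x⁻¹ * (w * c)⁻¹ = x * w * x⁻¹ * w⁻¹ := by
      calc x * (w * c) * x⁻¹ * (w * c)⁻¹ = x * w * x⁻¹ * (x * c) * x⁻¹ * (w * c)⁻¹ := by group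
        _ = _ := by rw [hxc]; group
    have h1 : x * w * x⁻¹ * w⁻¹ ∈ Om X' :=
      e ▸ mul_mem (om_conj xx.2.1 hg) (inv_mem hg)
    have h2 : x * w * x⁻¹ * w⁻¹ ∈ W ⊓ Ce X := mul_mem (hxW w hw1) (inv_mem hw1)
    have h3 : x * w * x⁻¹ * w⁻¹ ≠ 1 := by
      rw [← e]
      intro h
      apply hgx
      calc x * (w * c) = (x * (w * c) * x⁻¹ * (w * c)⁻¹) * (w * c * x) := by group
        _ = _ := by rw [h, one_mul]
    have h4 : (W ⊓ Ce X) ⊓ Om X' = W ⊓ Ce X := eq_of_three inf_le_left hc4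
      (three_le ⟨h2, h1⟩ ⟨hxW _ h2, om_conj xx.2.1 h1⟩ h3 (hx1 _ h3) fun h => h3
        (hfix _ h2 (by rw [← mul_inv_eq_iff_eq_mul, ← h])))
    exact le_centralizer_iff.1 fun a ha => (h4.ge ha).2.2.1
  refine ⟨?_, hce, hc4⟩
  -- Step 3
  by_contra hnn
  obtain ⟨P, hPM, hyP, -⟩ := ba.bd.syl
  have hyn : y * n = n * y := mem_centralizer_singleton_iff.1 (vn.cn.ge (hPM hyP))
  have hyn' : n' * y = y * n' := mem_centralizer_singleton_iff.1 (wm.yW wm.mem)
  have hTn : X' ⊔ zpowers s ≤ C1 n' := sup_le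
    (fun g hg => mem_centralizer_singleton_iff.2 (mem_centralizer_iff.1 (hce hg) n' hn'1).symm)
    ((zpowers_le.2 hsS).trans hSn)
  have hST : X ⊔ zpowers s ≤ X' ⊔ zpowers s := sup_le_sup_right hlt.le _
  set N := (X' ⊔ zpowers s) ⊓ No (X ⊔ zpowers s) with hN
  have hNS : ¬ N ≤ X ⊔ zpowers s := grow xx.2.2.2 hST fun h =>
    hNJ ((le_sup_left.trans h).trans (hSL.trans ba.lt.LN))
  have hyN : y ∈ No N := no_inf (no_sup_s xx.1 su.sy) (no_no (no_sup_s su.xx.1 su.sy))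
  have hnS : n ∈ Om (X ⊔ zpowers s) := ⟨mem_sup_left (su.JX vn.nJ.1),
    mem_centralizer_iff.2 fun b hb => mem_centralizer_singleton_iff.1 (vn.cn.ge (hSM hb)),
    vn.nJ.2.2⟩
  obtain ⟨B, hBM, hB, hzB⟩ := ba.bd.uU
  have hzB' : z ∈ B := hzB (mem_sup_left (mem_zpowers z))
  have hkey : ∀ q ∈ N, q * (n * n') * q⁻¹ ∈ Om J ⊓ Ce L := by
    intro q hq
    have h1 := om_conj hq.2 hnS
    have hqn : q * n' = n' * q := mem_centralizer_singleton_iff.1 (hTn hq.1)
    obtain ⟨w, hw, c, hc, e⟩ := hdec _ (hom _ (su.JX.trans le_sup_left) h1)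
    have hwS : ∀ b ∈ X ⊔ zpowers s, b * w = w * b := fun b hb =>
      hcw w c b hc.2 (hSL hb) (e ▸ mem_centralizer_iff.1 h1.2.1 b hb)
    have hw1 : w ∈ W ⊓ Ce X := ⟨hw, mem_centralizer_iff.2 fun b hb => hwS b (mem_sup_left hb)⟩
    have w1 : w ≠ 1 := by
      rintro rfl
      rw [one_mul] at e
      have h2 : ∀ b ∈ L, q⁻¹ * b * q⁻¹⁻¹ ∈ M := by
        intro b hb
        rw [← vn.cn, mem_centralizer_singleton_iff]
        have e2 := mem_centralizer_iff.1 hc.2 b hb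
        rw [← e] at e2
        calc q⁻¹ * b * q⁻¹⁻¹ * n = q⁻¹ * (b * (q * n * q⁻¹)) * q := by group
          _ = _ := by rw [e2]; group
      have h3 := ba.bd.tg z q⁻¹ ba.bd.z3 ⟨B, hB, hzB'⟩ (hBM hzB') (h2 z ba.lt.zL)
      refine ba.lt.out fun b hb => ?_
      have := M.mul_mem (M.mul_mem (M.inv_mem h3) (h2 b hb)) h3
      simpa [mul_assoc] using this
    have w2 : w = n' := by
      by_contra w2
      have h2 := hgen s (mem_centralizer_singleton_iff.1 (hSn hsS)) w hw1 w1 w2 (hwS s hsS)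
      have h3 : s * n' = n' * s := mem_centralizer_singleton_iff.1 (hSn hsS)
      apply hx2
      have h4 : x * n' * x⁻¹ = x⁻¹ * n' * x := by
        calc x * n' * x⁻¹ = s * (x * n' * x⁻¹) * s⁻¹ := by rw [h2]; group
          _ = (s * x * s⁻¹) * (s * n') * s⁻¹ * (s * x * s⁻¹)⁻¹ := by group
          _ = _ := by rw [show s * x * s⁻¹ = x⁻¹ from su.sx, h3]; group
      calc x * x * n' = x * (x * n' * x⁻¹) * x := by group
        _ = _ := by rw [h4]; group
    have e3 : q * (n * n') * q⁻¹ = c := by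
      calc q * (n * n') * q⁻¹ = q * n * q⁻¹ * (q * n') * q⁻¹ := by group
        _ = n' * c * n' := by rw [hqn, e, w2]; group
        _ = c * (n' * n') := by rw [hZc n' hn' c hc.1, mul_assoc]
        _ = c := by rw [hn'.2.2, mul_one]
    rw [e3]; exact hc
  let C : Subgroup G :=
    { carrier := {g | ∀ q ∈ N, q * g * q⁻¹ ∈ Om J ⊓ Ce L}
      one_mem' := fun q _ => by simp [one_mem]
      inv_mem' := fun {g} h q hq => by
        have := inv_mem (h q hq)
        rwa [show (q * g * q⁻¹)⁻¹ = q * g⁻¹ * q⁻¹ by group] at this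
      mul_mem' := fun {g h} a b q hq => by
        have := mul_mem (a q hq) (b q hq)
        rwa [show q * g * q⁻¹ * (q * h * q⁻¹) = q * (g * h) * q⁻¹ by group] at this }
  have hCZ : C ≤ Om J ⊓ Ce L := fun g hg => by simpa using hg 1 N.one_mem
  have hC1 : C ≠ ⊥ := by
    intro h
    have h1 : n * n' ∈ C := hkey
    rw [h, mem_bot] at h1
    exact hnn (by
      calc n = n * (n' * n') := by rw [hn'.2.2, mul_one]
        _ = n' := by rw [← mul_assoc, h1, one_mul])
  have hyC : y ∈ No C := no_of fun g hg q hq => by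
    have h1 := hg _ (no_conj (inv_mem hyN) hq)
    have h2 : y * (y⁻¹ * q * y⁻¹⁻¹ * g * (y⁻¹ * q * y⁻¹⁻¹)⁻¹) * y⁻¹ ∈ Om J ⊓ Ce L :=
      ⟨om_conj ba.lt.yN h1.1, ce_conj ba.yL' h1.2⟩
    convert h2 using 1
    group
  have hNC : N ≤ No C := fun r hr => no_of fun g hg q hq => by
    have h1 := hg _ (N.mul_mem hq hr)
    convert h1 using 1
    group
  have h5 := ba.lt.uniq C (ba.j2.to_le fun g hg => (hCZ hg).1.1) hC1
    ((le_centralizer_iff.1 (hCZ.trans inf_le_right)).trans (centralizer_le_normalizer _)) hyC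
  have hN2 : IsPGroup 2 N := xx.2.2.2.to_le inf_le_left
  have h6 := ba.lt.two N (hNC.trans h5) hN2 hyN
  exact hNS (su.syl N hN2 h6 (le_inf hST le_normalizer)).le

end H32.DPMA
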