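import Cfsg.Agent.Base
import Cfsg.Agent.H32.FullyRam
import Cfsg.Agent.H4.HallBasic

/-! Fully ramified characters and `p`-complements in factor groups. -/

set_option autoImplicit false

open Cfsg H28 H33

namespace H32

/-- the stabiliser of a function under an action by automorphisms -/
def autStab {A L : Type*} [Group A] [Group L] (α : A →* MulAut L) (φ : L → ℂ) : Subgroup A where
  carrier := {a | ∀ x, φ (α a x) = φ x}
  one_mem' := fun x => by simp
  mul_mem' := fun {a b} ha hb x => by rw [map_mul, MulAut.mul_apply, ha, hb]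
  inv_mem' := fun {a} ha x => by rw [← ha, ← MulAut.mul_apply, ← map_mul]; simp

theorem mem_autStab {A L : Type*} [Group A] [Group L] {α : A →* MulAut L} {φ : L → ℂ} {a : A} :
    a ∈ autStab α φ ↔ ∀ x, φ (α a x) = φ x := Iff.rfl

variable {G : Type*} [Group G]

theorem exists_sylow_inf [Finite G] (p : ℕ) [Fact p.Prime] (K : Subgroup G) [K.Normal] :
    ∃ S : Sylow p G, Subgroup.normalizer (((S : Subgroup G) ⊓ K : Subgroup G) : Set G) ⊔ K = ⊤ ∧
      ¬ p ∣ (S : Subgroup G).relIndex K := by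
  obtain ⟨Q⟩ : Nonempty (Sylow p K) := inferInstance
  obtain ⟨S, hS⟩ := (Q.2.map K.subtype).exists_le_sylow
  have h1 : (S : Subgroup G).subgroupOf K = Q :=
    Q.3 S.2.comap_subtype (Subgroup.map_le_iff_le_comap.1 hS)
  refine ⟨S, ?_, ?_⟩
  · rw [← Subgroup.subgroupOf_map_subtype, h1]
    exact Q.normalizer_sup_eq_top
  · rw [Subgroup.relIndex, h1]
    exact Q.not_dvd_index

theorem relIndex_sylow_sup [Finite G] {p : ℕ} [Fact p.Prime] (S : Sylow p G) {Z K : Subgroup G}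
    [Z.Normal] [K.Normal] (hZK : Z ≤ K) :
    K.relIndex ((S : Subgroup G) ⊔ Z) = p ^ (Nat.card (G ⧸ K)).factorization p := by
  rw [← (S.mapSurjective (QuotientGroup.mk'_surjective K)).card_eq_multiplicity,
    Sylow.coe_mapSurjective, card_map_mk, ← Subgroup.relIndex_sup_right, sup_assoc,
    sup_eq_right.2 hZK, Subgroup.relIndex_sup_right]

theorem FullyRam.exists_index_eq [Finite G] {Z : Subgroup G} [hZ : Z.Normal] {θ : Z → ℂ}
    {χ : G → ℂ} {e : ℕ} (h : FullyRam Z θ χ e) {K : Subgroup G} [hK : K.Normal] (hZK : Z ≤ K)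
    (p : ℕ) [hp : Fact p.Prime]
    (hyp : ∀ (S : Sylow p G) (P : Subgroup G), P = (S : Subgroup G) ⊔ Z → ∀ (ψ : P → ℂ) (f : ℕ),
      FullyRam (Z.subgroupOf P) (fun x : Z.subgroupOf P => θ ⟨(x : P), x.2⟩) ψ f →
      ∀ (L : Subgroup P) [L.Normal] [Fintype (Z.subgroupOf P)] (hZL : Z.subgroupOf P ≤ L),
      L = K.subgroupOf P → ∀ φ : L → ℂ, IsIrrCharacter L φ →
      classInner (fun z : Z.subgroupOf P => φ ⟨z, hZL z.2⟩)
        (fun x : Z.subgroupOf P => θ ⟨(x : P), x.2⟩) ≠ 0 → inertia φ ≤ L) :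
    ∃ W : Subgroup (G ⧸ K), W.index = p ^ (Nat.card (G ⧸ K)).factorization p := by
  classical
  have := Fintype.ofFinite G
  obtain ⟨S, hS1, hS2⟩ := exists_sylow_inf p K
  let P : Subgroup G := S ⊔ Z
  let L : Subgroup G := P ⊓ K
  have hZP : Z ≤ P := le_sup_right
  have hZL : Z ≤ L := le_inf hZP hZK
  have hLP : L ≤ P := inf_le_left
  have hL : L = ((S : Subgroup G) ⊓ K) ⊔ Z := by
    refine le_antisymm (fun x hx => ?_) (sup_le (inf_le_inf_right K le_sup_left) hZL)
    obtain ⟨s, hs, z, hz, rfl⟩ := Subgroup.mem_sup_of_normal_right.1 hx.1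
    exact Subgroup.mul_mem_sup ⟨hs, (K.mul_mem_cancel_right (hZK hz)).1 hx.2⟩ hz
  obtain ⟨a, ha⟩ : ∃ a, Z.relIndex P = p ^ a := by
    obtain ⟨n, hn⟩ := IsPGroup.iff_card.1 S.2
    have h1 := Subgroup.relIndex_dvd_card Z S
    rw [hn, Nat.dvd_prime_pow hp.out, ← Subgroup.relIndex_sup_right] at h1
    exact h1.imp fun _ h => h.2
  obtain ⟨ψ, f, hψ⟩ := h.exists_sylow hZP hp.out ha fun hd =>
    S.not_dvd_index (hd.trans (Subgroup.index_dvd_of_le le_sup_left))
  obtain ⟨φ, hφ, h1⟩ := exists_constituent_res (H := L) h.irr.isCharacter h.irr.apply_one_ne_zero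
  have h2 := h.over_of_under hZL hφ h1
  let N := Subgroup.normalizer (L : Set G)
  have hPN : P ≤ N := fun x hx => Subgroup.mem_normalizer_fintype fun y hy =>
    ⟨P.mul_mem (P.mul_mem hx hy.1) (P.inv_mem hx), hK.conj_mem _ hy.2 x⟩
  have hL' : L.subgroupOf P = K.subgroupOf P := Subgroup.inf_subgroupOf_left _ _
  have : (L.subgroupOf P).Normal := hL' ▸ inferInstance
  have hZL' : Z.subgroupOf P ≤ L.subgroupOf P := Subgroup.subgroupOf_mono P hZL
  let T := autStab L.normalizerMonoidHom φ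
  have hφ' := isIrrCharacter_subgroupOf hLP hφ
  have h2' := h2
  rw [← classInner_subgroupOf hZP] at h2'
  have h3 : ∀ g : N, ∃ k ∈ P.subgroupOf N, ∃ t ∈ T, g = k * t := fun g => by
    have h4 := hφ.comp_mulEquiv (L.normalizerMonoidHom g⁻¹)
    have h5 : classInner (fun z : Z => φ (L.normalizerMonoidHom g⁻¹ ⟨z, hZL z.2⟩)) θ ≠ 0 := by
      have h9 : cj (g : G)⁻¹ θ = θ := mem_inertia.1 (h.inertia_eq_top ▸ Subgroup.mem_top _)
      rw [← classInner_cj_cj (g : G)⁻¹, h9] at h2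
      exact h2
    rw [← classInner_subgroupOf hZP] at h5
    have h6 := isIrrCharacter_subgroupOf hLP h4
    obtain ⟨x, hx⟩ := mem_conjSet.1 (mem_conjSet_of_constituent hψ.irr hφ' h6
      (hψ.under hZL' hφ' h2') (hψ.under hZL' h6 h5))
    have h7 : ∀ y : L, φ (L.normalizerMonoidHom g⁻¹ y) =
        φ (L.normalizerMonoidHom ⟨x, hPN x.2⟩ y) := fun y => congrFun hx ⟨⟨y, hLP y.2⟩, y.2⟩
    refine ⟨⟨x, hPN x.2⟩⁻¹, (P.subgroupOf N).inv_mem x.2, ⟨x, hPN x.2⟩ * g, fun y => ?_, by group⟩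
    rw [map_mul, MulAut.mul_apply, ← h7, ← MulAut.mul_apply, ← map_mul]
    simp
  have h4 : T ⊓ P.subgroupOf N = L.subgroupOf N := by
    refine le_antisymm (fun x hx => ?_) fun x hx => ⟨fun y => ?_, hLP hx⟩
    · exact hyp S P rfl ψ f hψ _ hZL' hL' _ hφ' h2' (x := ⟨x, hx.2⟩)
        (mem_inertia_iff.2 fun n => hx.1 ⟨_, n.2⟩)
    · exact hφ.isClassFunction.apply_conj ⟨x, hx⟩ y
  have h5 : T.index = p ^ (Nat.card (G ⧸ K)).factorization p := by
    rw [← relIndex_eq_index_of_mul_eq_top h3, ← Subgroup.inf_relIndex_right, h4,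
      Subgroup.relIndex_subgroupOf hPN, Subgroup.inf_relIndex_left, relIndex_sylow_sup S hZK]
  have h6 : K.subgroupOf N ≤ T := by
    rw [← Subgroup.relIndex_eq_one]
    refine Nat.eq_one_of_dvd_coprimes
      (((Nat.Prime.coprime_iff_not_dvd hp.out).2 hS2).pow_left
        ((Nat.card (G ⧸ K)).factorization p)) ?_ ?_
    · exact h5 ▸ H4.relIndex_dvd_index_of_normal_right _ _
    · refine (Subgroup.relIndex_dvd_of_le_left _ (h4.ge.trans inf_le_left)).trans ?_
      rw [← Subgroup.inf_subgroupOf_right K N, Subgroup.relIndex_subgroupOf inf_le_right]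
      refine (Dvd.intro _ (Subgroup.relIndex_mul_relIndex _ _ K
        (le_inf inf_le_right Subgroup.le_normalizer) inf_le_left)).trans ?_
      rw [Subgroup.inf_relIndex_right]
      exact Subgroup.relIndex_dvd_of_le_left _ le_sup_left
  refine ⟨T.map ((QuotientGroup.mk' K).comp N.subtype), ?_⟩
  rw [Subgroup.index_map_eq _ ?_ ?_, h5]
  · intro x
    obtain ⟨g, rfl⟩ := QuotientGroup.mk_surjective x
    obtain ⟨k, hk, n, hn, rfl⟩ := exists_mul_of_sup_eq_top ((sup_comm _ _).trans hS1) g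
    refine ⟨⟨n, ?_⟩, ?_⟩
    · change n ∈ Subgroup.normalizer ((L : Subgroup G) : Set G)
      rw [hL]
      exact Subgroup.normalizer_le_normalizer_sup_normal hn
    · simp [(QuotientGroup.eq_one_iff k).2 hk]
  · intro x hx
    exact h6 ((QuotientGroup.eq_one_iff (x : G)).1 hx)

end H32
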