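import Cfsg.Agent.H63.KgvSpec

/-! KGV-JPB: the product of Gauss sums, inert case. -/

set_option autoImplicit false

namespace H32.KgvPB

open Polynomial Finset H63.Kgv

theorem sum_pow {L : Type} [Field L] [Fintype L] {r : ℕ} (hr : 0 < r) {w : L}
    (hw : IsPrimitiveRoot w r) (f : L → ℂ) (h0 : f 0 = 0) [DecidablePred fun b : L => ∃ a, a ^ r = b] :
    ∑ a : L, f (a ^ r) = ∑ b : L, f b * if ∃ a, a ^ r = b then (r : ℂ) else 0 := by
  classical
  rw [← Finset.sum_fiberwise (s := univ) (g := fun a : L => a ^ r)]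
  refine Finset.sum_congr rfl fun b _ => ?_
  rw [Finset.sum_congr rfl (g := fun _ => f b) fun a ha => by rw [(mem_filter.1 ha).2],
    Finset.sum_const, nsmul_eq_mul, mul_comm]
  by_cases hb : b = 0
  · rw [hb, h0, zero_mul, zero_mul]
  have e : (univ.filter fun a : L => a ^ r = b) = (nthRoots r b).toFinset := by
    ext a
    simp [mem_nthRoots hr]
  rw [e, Multiset.toFinset_card_of_nodup (hw.nthRoots_nodup hb), hw.card_nthRoots]
  split_ifs <;> simp

theorem job : JPB := by
  intro nw1 nw2 pw1 pw2 F L _ _ _ _ _ ψ χ η r ω hr hL hω hχ hη hne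
  classical
  have r0 := hr.pos
  have mu : Mu (lam ψ χ r) := (pw1 F).2.1 ψ χ r
  have ω0 : ω ≠ 0 := by
    rintro rfl
    rw [zero_pow r0.ne'] at hω
    exact zero_ne_one hω
  have ω1 : ω ≠ 1 := by
    rintro rfl
    exact hχ (map_one χ)
  have : Fact r.Prime := ⟨hr⟩
  have oω : orderOf ω = r := orderOf_eq_prime hω ω1
  have oχ : orderOf (χ ω) = r := orderOf_eq_prime (by rw [← map_pow, hω, map_one]) hχ
  have h1 : ∀ m, 0 < m → m < r → sm (lam ψ χ r) m = 0 := fun m m0 mr => by
    obtain ⟨p, hp⟩ := CharP.exists F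
    have : Fact p.Prime := ⟨CharP.char_is_prime F p⟩
    have : NeZero m := ⟨m0.ne'⟩
    let E := FiniteField.Extension F p m
    have := Fintype.ofFinite E
    have hE : Module.finrank F E = m := FiniteField.finrank_extension F p m
    rw [← hE, ← nw2 F E _ mu]
    simp only [pw2 pw1 F E ψ χ r _ r0]
    have w0 : algebraMap F E ω ≠ 0 := by simpa using ω0
    have e := Equiv.sum_comp (Equiv.mulLeft₀ _ w0)
      fun a : E => ψ (Algebra.trace F E (a ^ r)) * χ (Algebra.norm F a)
    simp only [Equiv.mulLeft₀_apply, mul_pow, ← map_pow, hω, map_one, one_mul, map_mul,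
      Algebra.norm_algebraMap, hE] at e
    have e2 : (χ ω ^ m - 1) * ∑ a : E, ψ (Algebra.trace F E (a ^ r)) * χ (Algebra.norm F a) = 0 := by
      rw [sub_mul, one_mul, sub_eq_zero, Finset.mul_sum]
      refine Eq.trans (Finset.sum_congr rfl fun a _ => ?_) e
      rw [map_pow χ ω m]
      ring
    refine (mul_eq_zero.1 e2).resolve_left (sub_ne_zero.2 ?_)
    exact pow_ne_one_of_lt_orderOf m0.ne' (oχ ▸ mr)
  have h2 : (r : ℂ) * an (lam ψ χ r) r = sm (lam ψ χ r) r := by
    obtain ⟨a0, hn⟩ := nw1 F _ mu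
    rw [hn r, Finset.sum_eq_single (r - 1)]
    · rw [Nat.sub_add_cancel r0, Nat.sub_self, a0, mul_one]
    · intro m hm hne
      rw [h1 _ (Nat.succ_pos m) (by have := mem_range.1 hm; omega), zero_mul]
    · intro h
      exact absurd (mem_range.2 (by omega)) h
  set Q := Fintype.card F with hQ
  have Q1 : 1 < Q := Fintype.one_lt_card
  have rQ : r ∣ Q - 1 := oω ▸ orderOf_dvd_of_pow_eq_one (FiniteField.pow_card_sub_one_eq_one ω ω0)
  let f : L → ℂ := fun b => η b * ψ (Algebra.trace F L b)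
  let κ : L → ℂ := fun b => η b ^ (Q - 1)
  have f0 : f 0 = 0 := by
    show η 0 * _ = 0
    rw [MulChar.map_zero, zero_mul]
  have κr : ∀ b : L, b ≠ 0 → κ b ^ r = 1 := fun b hb => by
    show (η b ^ (Q - 1)) ^ r = 1
    rw [← pow_mul, mul_comm, pow_mul, hη, ← map_pow,
      FiniteField.pow_card_sub_one_eq_one _ (Algebra.norm_ne_zero_iff.2 hb), map_one]
  have pQ : ∀ z : ℂ, z ^ Q = z * z ^ (Q - 1) := fun z => by
    rw [← pow_succ', Nat.sub_add_cancel Q1.le]
  let φ := FiniteField.frobeniusAlgEquivOfAlgebraic F L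
  have hφ : ∀ b, φ b = b ^ Q := fun b => rfl
  have h3 : ∀ i : ℕ, ∑ b : L, f b * κ b ^ i = ∑ b : L, f b := by
    intro i
    induction i with
    | zero => simp
    | succ i ih =>
      rw [← ih, ← Equiv.sum_comp φ.toEquiv fun b => f b * κ b ^ i]
      refine Finset.sum_congr rfl fun b _ => ?_
      by_cases hb : b = 0
      · subst hb
        show f 0 * _ = f (φ 0) * _
        rw [map_zero, f0, zero_mul, zero_mul]
      have e1 : f (φ b) = f b * κ b := by
        show η (φ b) * ψ (Algebra.trace F L (φ b)) = η b * ψ (Algebra.trace F L b) * η b ^ (Q - 1)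
        rw [Algebra.trace_eq_of_algEquiv, hφ, map_pow, pQ]
        ring
      have e2 : κ (φ b) = κ b := by
        obtain ⟨k, hk⟩ := rQ
        show η (φ b) ^ (Q - 1) = κ b
        rw [hφ, map_pow, ← pow_mul, mul_comm, pow_mul, pQ]
        show κ b * κ b ^ (Q - 1) = κ b
        rw [hk, pow_mul, κr b hb, one_pow, mul_one]
      show _ = f (φ b) * κ (φ b) ^ i
      rw [e1, e2]
      ring
  obtain ⟨γ, hγ⟩ := IsCyclic.exists_generator (α := Lˣ)
  have κγ : κ γ ≠ 1 := fun h => hne ((MulChar.eq_iff hγ _ _).2 (by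
    rw [MulChar.pow_apply_coe, MulChar.one_apply_coe]; exact h))
  have oκ : orderOf (κ γ) = r := orderOf_eq_prime (κr _ γ.ne_zero) κγ
  have κp : ∀ (b : L) (k : ℕ), κ (b ^ k) = κ b ^ k := fun b k => by
    show η (b ^ k) ^ (Q - 1) = (η b ^ (Q - 1)) ^ k
    rw [map_pow, ← pow_mul, ← pow_mul, mul_comm]
  have h4 : ∀ b : L, b ≠ 0 → ∑ i ∈ range r, κ b ^ i = if ∃ a, a ^ r = b then (r : ℂ) else 0 := by
    intro b hb
    split_ifs with h
    · obtain ⟨a, rfl⟩ := h
      rw [κp, κr a (by rintro rfl; exact hb (zero_pow r0.ne'))]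
      simp
    · have h5 : κ b ≠ 1 := fun h5 => h (by
        obtain ⟨k, hk⟩ := (mem_powers_iff_mem_zpowers.2 (hγ (Units.mk0 b hb)))
        have e : b = (γ : L) ^ k := by simpa using (congrArg Units.val hk).symm
        rw [e, κp] at h5
        obtain ⟨j, rfl⟩ := oκ ▸ orderOf_dvd_of_pow_eq_one h5
        exact ⟨(γ : L) ^ j, by rw [e, ← pow_mul, mul_comm]⟩)
      rw [geom_sum_eq h5, κr b hb, sub_self, zero_div]
  have hw : IsPrimitiveRoot (algebraMap F L ω) r :=
    (oω ▸ IsPrimitiveRoot.orderOf ω).map_of_injective (algebraMap F L).injective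
  have h6 : sm (lam ψ χ r) r = (r : ℂ) * ∑ b : L, f b := by
    have e := nw2 F L _ mu
    rw [hL] at e
    rw [← e]
    have e1 : ∀ a : L, lam ψ χ r (cp F a) = f (a ^ r) := fun a => by
      rw [pw2 pw1 F L ψ χ r a r0, ← hη, ← map_pow, mul_comm]
    simp only [e1]
    rw [sum_pow r0 hw f f0]
    have e2 : (r : ℂ) * ∑ b : L, f b = ∑ i ∈ range r, ∑ b : L, f b * κ b ^ i := by
      simp only [h3, Finset.sum_const, card_range, nsmul_eq_mul]
    rw [e2, Finset.sum_comm]
    refine Finset.sum_congr rfl fun b _ => ?_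
    rw [← Finset.mul_sum]
    by_cases hb : b = 0
    · rw [hb, f0, zero_mul, zero_mul]
    · rw [h4 b hb]
  exact (mul_left_cancel₀ (Nat.cast_ne_zero.2 r0.ne') (h2.trans h6)).symm

end H32.KgvPB
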