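import Cfsg.Agent.Base
import Cfsg.Agent.H32.RealRep
import Cfsg.Agent.H32.CliffordCorr
import Cfsg.Agent.H32.Gallagher
import Cfsg.Agent.H28.Unitary
import Cfsg.Agent.H28.Degree

/-! Linear characters versus characters induced from extensions. -/

set_option autoImplicit false

namespace H32

open Cfsg H28 H30 H33

variable {G : Type*} [Group G]

theorem le_commutator_of_minimal {N : Subgroup G} [hN : N.Normal]
    (hmin : ∀ M : Subgroup G, M.Normal → M ≤ N → M = ⊥ ∨ M = N) (hna : ¬ IsMulCommutative ↥N) :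
    N ≤ commutator G := by
  rcases hmin ⁅N, N⁆ inferInstance (Subgroup.commutator_le_left N N) with h | h
  · exact absurd (Subgroup.le_centralizer_iff_isMulCommutative.1
      (Subgroup.commutator_eq_bot_iff_le_centralizer.1 h)) hna
  · rw [← h]
    exact Subgroup.commutator_mono le_top le_top

/-- Counting lemma: a set `A` of linear characters maps to a set `B` of characters with fibres of
size at most `|G : I|`. -/
theorem card_lin_le [Fintype G] {N : Subgroup G} [hN : N.Normal] (hNG : N ≤ commutator G)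
    {φ : N → ℂ} (hφ : IsIrrCharacter N φ) {I : Subgroup G} (hI : I = inertia φ) (hNI : N ≤ I)
    {ψ : I → ℂ} (hψ : IsIrrCharacter I ψ) (hext : ∀ n : N, ψ ⟨n, hNI n.2⟩ = φ n)
    (A B : IrrCharacter G → Prop) (hA : ∀ χ, A χ → charDegree (χ : G → ℂ) = 1)
    (hAB : ∀ χ χ' : IrrCharacter G, A χ → IsIrrCharacter I ((fun t : I => χ.1 t) * ψ) →
      χ'.1 = indFun I ((fun t : I => χ.1 t) * ψ) → B χ') :
    Nat.card {χ // A χ} ≤ I.index * Nat.card {χ // B χ} := by
  classical
  have h1 : ∀ χ, A χ → (χ : G → ℂ) 1 = 1 := fun χ h => by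
    rw [← χ.2.isCharacter.cast_charDegree, hA χ h, Nat.cast_one]
  have hker : ∀ χ, A χ → ∀ n ∈ N, (χ : G → ℂ) n = 1 := fun χ h n hn => by
    have := χ.2.charDegree_eq_one_iff.1 (hA χ h) (hNG hn)
    rw [χ.2.isCharacter.mem_charKer] at this
    rw [this, h1 χ h]
  have hlin : ∀ χ, A χ → IsIrrCharacter I (fun t : I => χ.1 t) := fun χ h =>
    (χ.2.isCharacter.restrict I).irr_of_degree_one (h1 χ h)
  have hirr : ∀ χ, A χ → IsIrrCharacter I ((fun t : I => χ.1 t) * ψ) := fun χ h => by
    rw [mul_comm]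
    exact hψ.mul_linear (χ.2.isCharacter.restrict I) (h1 χ h)
  have hres : ∀ χ, A χ →
      (fun n : N => ((fun t : I => χ.1 t) * ψ) ⟨n, hNI n.2⟩) = φ := fun χ h => by
    ext n
    simp [hext, hker χ h n n.2]
  have hne : ∀ χ, A χ →
      classInner (fun n : N => ((fun t : I => χ.1 t) * ψ) ⟨n, hNI n.2⟩) φ ≠ 0 := fun χ h => by
    rw [hres χ h, hφ.classInner_self]; exact one_ne_zero
  let F : {χ // A χ} → {χ // B χ} := fun χ =>
    ⟨⟨indFun I ((fun t : I => χ.1.1 t) * ψ),
      (cliffordCorr_irr hφ hI hNI (hirr _ χ.2) (hne _ χ.2)).1⟩, hAB _ _ χ.2 (hirr _ χ.2) rfl⟩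
  rw [Nat.card_eq_fintype_card, Nat.card_eq_fintype_card, ← Finset.card_univ, ← Finset.card_univ]
  refine Finset.card_le_mul_card_image_of_maps_to (f := F) (fun _ _ => Finset.mem_univ _) _ ?_
  intro b _
  by_cases hb : (Finset.univ.filter fun a => F a = b).Nonempty
  swap
  · rw [Finset.not_nonempty_iff_eq_empty.1 hb]; simp
  obtain ⟨μ, hμ⟩ := hb
  rw [Finset.mem_filter] at hμ
  have hresN : IsIrrCharacter (N.subgroupOf I) fun x : N.subgroupOf I => ψ x := by
    have := isIrrCharacter_subgroupOf hNI hφ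
    convert this using 1
    ext x
    rw [← hext]
  have hkerI : ∀ χ, A χ → N.subgroupOf I ≤ charKer fun t : I => χ.1 t := fun χ h x hx => by
    rw [(χ.2.isCharacter.restrict I).mem_charKer]
    simp only [OneMemClass.coe_one]
    rw [hker χ h x hx, h1 χ h]
  have hμc := (μ.1.2.isCharacter.restrict I).indFun
  have hle := hμc.sum_degree_le ((Finset.univ.filter fun a => F a = b).map
    ⟨Subtype.val, Subtype.val_injective⟩) (by
      intro χ hχ
      obtain ⟨a, ha, rfl⟩ := Finset.mem_map.1 hχ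
      rw [Finset.mem_filter] at ha
      have e : F a = F μ := ha.2.trans hμ.2.symm
      have e1 := cliffordCorr_inj hφ hI hNI (hirr _ a.2) (hirr _ μ.2) (hne _ a.2) (hne _ μ.2)
        (congrArg (fun x => x.1.1) e)
      have e2 := gallagher_inj hψ.isCharacter hresN (hlin _ a.2) (hlin _ μ.2) (hkerI _ a.2)
        (hkerI _ μ.2) e1
      change classInner _ a.1.1 ≠ 0
      rw [classInner_indFun_left _ _ a.1.2.isClassFunction, e2, (hlin _ μ.2).classInner_self]
      exact one_ne_zero)
  rw [Finset.sum_map, (μ.1.2.isCharacter.restrict I).charDegree_indFun] at hle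
  have e3 : charDegree (fun t : I => μ.1.1 t) = 1 := hA _ μ.2
  rw [e3, mul_one] at hle
  refine le_trans (le_of_eq ?_) hle
  rw [Finset.card_eq_sum_ones]
  exact Finset.sum_congr rfl fun a _ => (hA _ a.2).symm

end H32
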