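import Cfsg.Agent.Base
import Cfsg.Agent.H32.McE

/-! The base case of the relative McKay equality for `p`-solvable groups. -/

set_option autoImplicit false

namespace H32

open Cfsg H28 H29 H33 H40
open scoped ComplexConjugate Pointwise

variable {Γ : Type*} [Group Γ] [Finite Γ] {p : ℕ} [hp : Fact p.Prime]

theorem cnt_id_eq_card {E T : Subgroup Γ} (h : E ≤ T) (hT : T ≤ Nm E) (h1 : ¬ p ∣ E.relIndex T)
    {η : E → ℂ} (hη : IsIrrCharacter E η) (hd : ¬ p ∣ charDegree η) :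
    cnt p (RingHom.id ℂ) h η = Nat.card {χ : IrrCharacter T // mult h χ.1 η ≠ 0} :=
  Nat.card_congr (Equiv.subtypeEquivRight fun χ => ⟨fun h2 => h2.2.2, fun h2 => ⟨fun h3 => by
    obtain ⟨k, hk, e⟩ := exists_charDegree_eq_mul h hT hη χ.2 h2
    rw [e] at h3
    exact (hp.out.dvd_mul.1 h3).elim (fun h4 => h1 (h4.trans hk)) hd, rfl, h2⟩⟩)

theorem exists_compl_of_pGroup {S V : Subgroup Γ} (hSV : S ≤ V) (hV : V ≤ Nm S)
    (hS : IsPGroup p S) (h : ¬ p ∣ S.relIndex V) :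
    ∃ H, H ≤ V ∧ V = S ⊔ H ∧ ¬ p ∣ Nat.card H := by
  have := Subgroup.normal_subgroupOf_of_le_normalizer hV
  obtain ⟨H, hH⟩ := Subgroup.exists_right_complement'_of_coprime (N := S.subgroupOf V) (by
    rw [Nat.card_congr (Subgroup.subgroupOfEquivOfLe hSV).toEquiv]
    exact coprime_of_pGroup hS h)
  refine ⟨H.map V.subtype, Subgroup.map_subtype_le _, ?_, ?_⟩
  · have := congrArg (Subgroup.map V.subtype) hH.sup_eq_top
    rwa [Subgroup.map_sup, Subgroup.subgroupOf_map_subtype, inf_eq_left.2 hSV,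
      ← MonoidHom.range_eq_map, Subgroup.range_subtype, eq_comm] at this
  · rwa [Subgroup.card_map_of_injective V.subtype_injective, ← hH.symm.index_eq_card]

omit [Finite Γ] in
theorem not_dvd_card_sup {K H : Subgroup Γ} (h : H ≤ Nm K) (h1 : ¬ p ∣ Nat.card K)
    (h2 : ¬ p ∣ Nat.card H) : ¬ p ∣ Nat.card ↥(K ⊔ H) := fun h3 => by
  have h4 := Subgroup.relIndex_mul_relIndex ⊥ K (K ⊔ H) bot_le le_sup_left
  rw [Subgroup.relIndex_bot_left, Subgroup.relIndex_bot_left, relIndex_sup_Nm h] at h4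
  rw [← h4] at h3
  exact (hp.out.dvd_mul.1 h3).elim h1 fun h5 => h2 (h5.trans (Subgroup.relIndex_dvd_card _ _))

theorem id_iterate (n : ℕ) (z : ℂ) : (RingHom.id ℂ)^[n] z = z := by simp

variable {Δ : Type*} [Group Δ] [Finite Δ] {f : Γ →* Δ}

omit [Finite Γ] [Finite Δ] in
theorem comap_sup_map (hf : Function.Surjective f) (A : Subgroup Δ) (P : Subgroup Γ) :
    (A ⊔ P.map f).comap f = A.comap f ⊔ P := by
  rw [← Subgroup.comap_sup_eq f _ _ hf, Subgroup.comap_map_eq, sup_comm _ f.ker, ← sup_assoc,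
    sup_eq_left.2 (f.ker_le_comap A)]

omit [Finite Γ] [Finite Δ] in
theorem relIndex_comap_comap (hf : Function.Surjective f) (A B : Subgroup Δ) :
    (A.comap f).relIndex (B.comap f) = A.relIndex B := by
  rw [Subgroup.relIndex_comap, Subgroup.map_comap_eq_self_of_surjective hf]

omit [Finite Γ] [Finite Δ] hp in
theorem pPair_comap (hf : Function.Surjective f) {K : Subgroup Δ} {P : Subgroup Γ}
    (hP : IsPGroup p P) (hK : ¬ p ∣ Nat.card K) (h : P.map f ≤ Nm K) :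
    PPair p P f.ker (K.comap f) ((K ⊔ P.map f).comap f) where
  pG := hP
  LK := f.ker_le_comap K
  KE := Subgroup.comap_mono le_sup_left
  PE := (Subgroup.le_comap_map f P).trans (Subgroup.comap_mono le_sup_right)
  sup := comap_sup_map hf K P
  PK := (Subgroup.le_comap_map f P).trans (comap_le_Nm h)
  KL := by rw [Nm, Subgroup.normalizer_eq_top]; exact le_top
  cop := by rwa [← MonoidHom.comap_bot, relIndex_comap_comap hf, Subgroup.relIndex_bot_left]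

theorem base_comap (hf : Function.Surjective f) {K G : Subgroup Δ} {P : Subgroup Γ} (hKG : K ≤ G)
    (hG : G ≤ Nm K) (hP : IsPGroup p P) (hPG : P ≤ G.comap f) (hSyl : ¬ p ∣ P.relIndex (G.comap f))
    (hK : ¬ p ∣ Nat.card K) (hE : G ≤ Nm (K ⊔ P.map f)) {ν : f.ker → ℂ}
    (hν : IsIrrCharacter _ ν) (hi : InvAll _ (G.comap f) ν) :
    cnt p (RingHom.id ℂ) (f.ker_le_comap G) ν =
      cnt p (RingHom.id ℂ) (f.ker_le_comap (G ⊓ Nm (P.map f))) ν := by
  have hn : ∀ A : Subgroup Γ, A ≤ Nm f.ker := fun A => by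
    rw [Nm, Subgroup.normalizer_eq_top]; exact le_top
  set S := P.map f with hSdef
  set N := G ⊓ Nm S with hNdef
  let C := K ⊓ Ct S
  have hS : IsPGroup p S := hP.map f
  have hSG : S ≤ G := Subgroup.map_le_iff_le_comap.2 hPG
  have hPS : P ≤ S.comap f := Subgroup.le_comap_map f P
  have hSyl' : ¬ p ∣ S.relIndex G := by
    rw [← relIndex_comap_comap hf]
    exact not_dvd_relIndex_of_le' hPS hSyl
  have hSN : S ≤ N := le_inf hSG Subgroup.le_normalizer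
  have hCN : C ≤ N :=
    le_inf (inf_le_left.trans hKG) (inf_le_right.trans (Subgroup.centralizer_le_normalizer _))
  have hKN : ∀ k ∈ K, k ∈ N → k ∈ C := fun k hk hk' =>
    ⟨hk, Subgroup.mem_centralizer_iff.2 fun s hs => by
      have h1 : s * k * s⁻¹ * k⁻¹ ∈ S ⊓ K := ⟨by
        have := S.mul_mem hs ((Subgroup.mem_normalizer_iff.1 hk'.2 _).1 (S.inv_mem hs))
        simpa [mul_assoc] using this,
        K.mul_mem ((Subgroup.mem_normalizer_iff.1 (hG (hSG hs)) _).1 hk) (K.inv_mem hk)⟩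
      rw [(Subgroup.disjoint_of_coprime_natCard (coprime_of_pGroup hS hK)).eq_bot, Subgroup.mem_bot,
        mul_inv_eq_one, mul_inv_eq_iff_eq_mul] at h1
      exact h1⟩
  have hEN : C ⊔ S = (K ⊔ S) ⊓ N :=
    le_antisymm (le_inf (sup_le_sup_right inf_le_left _) (sup_le hCN hSN)) fun x hx => by
      obtain ⟨k, hk, s, hs, rfl⟩ := exists_mul_of_mem_sup (hSG.trans hG) hx.1
      exact Subgroup.mul_mem_sup (hKN k hk ((Subgroup.mul_mem_cancel_right _ (hSN hs)).1 hx.2)) hs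
  have hNC : N ≤ Nm C :=
    (le_inf (inf_le_left.trans hG) (le_Nm_Ct inf_le_right)).trans Nm_inf_le_Nm_inf
  have hNE : N ≤ Nm (C ⊔ S) := (le_inf hNC inf_le_right).trans Nm_inf_le_Nm_sup
  have hC : ¬ p ∣ Nat.card C := fun h => hK (h.trans (Subgroup.card_dvd_of_le inf_le_left))
  have H := pPair_comap hf hP hK (hSG.trans hG)
  have H' := pPair_comap hf hP hC (hSN.trans hNC)
  have hCK : C.comap f ≤ K.comap f := Subgroup.comap_mono inf_le_left
  have PC := pCorr_comap hf hS (hSG.trans hG) hK rfl hCK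
  have hEG : (K ⊔ S).comap f ≤ G.comap f := Subgroup.comap_mono (sup_le hKG hSG)
  have hEN' : (C ⊔ S).comap f ≤ N.comap f := Subgroup.comap_mono (sup_le hCN hSN)
  have hNG : N.comap f ≤ G.comap f := Subgroup.comap_mono inf_le_left
  have hSE : ∀ A : Subgroup Δ, S.comap f ≤ (A ⊔ S).comap f := fun _ =>
    Subgroup.comap_mono le_sup_right
  let Rel : ((K ⊔ S).comap f → ℂ) → ((C ⊔ S).comap f → ℂ) → Prop := fun η η' =>
    (mult hCK (res H.KE η) (res H'.KE η') : ZMod p) ≠ 0 ∧ ∃ μ, DetOn H.PE η μ ∧ DetOn H'.PE η' μ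
  have uR : ∀ {η η₁ η₂}, IsIrrCharacter _ η → ¬ p ∣ charDegree η → IsIrrCharacter _ η₁ →
      ¬ p ∣ charDegree η₁ → IsIrrCharacter _ η₂ → ¬ p ∣ charDegree η₂ → Rel η η₁ → Rel η η₂ →
      η₁ = η₂ := by
    rintro η η₁ η₂ a b c d e g ⟨h1, μ, h2, h3⟩ ⟨h4, μ', h5, h6⟩
    obtain rfl := h2.unique hP b h5
    exact H'.ext_unique e c g (PC.uniq_right (H.res_irr a b) (H'.res_irr c d) (H'.res_irr e g)
      ((invAll_res _ a.isClassFunction).mono (hSE _)) ((invAll_res _ c.isClassFunction).mono (hSE _))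
      ((invAll_res _ e.isClassFunction).mono (hSE _)) h1 h4) h6 h3
  have uL : ∀ {η η₁ η₂}, IsIrrCharacter _ η → ¬ p ∣ charDegree η → IsIrrCharacter _ η₁ →
      ¬ p ∣ charDegree η₁ → IsIrrCharacter _ η₂ → ¬ p ∣ charDegree η₂ → Rel η₁ η → Rel η₂ η →
      η₁ = η₂ := by
    rintro η η₁ η₂ a b c d e g ⟨h1, μ, h2, h3⟩ ⟨h4, μ', h5, h6⟩
    obtain rfl := h3.unique hP b h6
    exact H.ext_unique e c g (PC.uniq_left (H.res_irr c d) (H.res_irr e g) (H'.res_irr a b)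
      ((invAll_res _ c.isClassFunction).mono (hSE _)) ((invAll_res _ e.isClassFunction).mono (hSE _))
      ((invAll_res _ a.isClassFunction).mono (hSE _)) h1 h4) h5 h2
  have relC : ∀ {η η'}, IsIrrCharacter _ η → IsIrrCharacter _ η' → Rel η η' → ∀ {m : Γ}
      (hm : m ∈ N.comap f), m ∈ Nm P →
      Rel (cjn (comap_le_Nm hE (hNG hm)) η) (cjn (comap_le_Nm hNE hm) η') := by
    rintro η η' a b ⟨h1, μ, h2, h3⟩ m hm hm'
    refine ⟨?_, _, h2.cjn a.isCharacter _ hm', h3.cjn b.isCharacter _ hm'⟩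
    rwa [res_cjn _ _ (comap_le_Nm hG (hNG hm)), res_cjn _ _ (comap_le_Nm hNC hm), mult_cjn]
  obtain ⟨e, he⟩ := exists_equiv_of_rel
    (fun (η : McInv p (RingHom.id ℂ) P (f.ker_le_comap (K ⊔ S)) ν)
      (η' : McInv p (RingHom.id ℂ) P (f.ker_le_comap (C ⊔ S)) ν) => Rel η.1.1 η'.1.1)
    (fun ⟨η, ⟨a, _, b⟩, _⟩ => by
      have h1 := H.res_irr η.2 a
      obtain ⟨θ', h2, h3, h4⟩ := PC.ex_right h1 ((invAll_res _ η.2.isClassFunction).mono (hSE _))
      have h5 := mult_of_invAll H'.LK hCK (hn _) hν (hi.mono (Subgroup.comap_mono hKG)) h1 b h2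
        (ne_zero_of_cast h4)
      obtain ⟨η', h6, h7, rfl, h8⟩ := H.transfer hν (hi.mono hEG) H' (hi.mono (hEN'.trans hNG))
        η.2 a b h2 (h3.mono hPS) h5
      exact ⟨⟨⟨η', h6⟩, ⟨h7, rfl, h5⟩, (invAll_self h6.isClassFunction).mono H'.PE⟩, h4, h8⟩)
    (fun a b c => fun h1 h2 => Subtype.ext (Subtype.ext
      (uR a.1.2 a.2.1.1 b.1.2 b.2.1.1 c.1.2 c.2.1.1 h1 h2)))
    (fun ⟨η', ⟨a, _, b⟩, _⟩ => by
      have h1 := H'.res_irr η'.2 a
      obtain ⟨θ, h2, h3, h4⟩ := PC.ex_left h1 ((invAll_res _ η'.2.isClassFunction).mono (hSE _))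
      have h5 := mult_trans_ne_zero H'.LK hCK h2.isCharacter h1 hν.isCharacter
        (ne_zero_of_cast h4) b
      obtain ⟨η, h6, h7, rfl, μ, h8, h9⟩ := H'.transfer hν (hi.mono (hEN'.trans hNG)) H
        (hi.mono hEG) η'.2 a b h2 (h3.mono hPS) h5
      exact ⟨⟨⟨η, h6⟩, ⟨h7, rfl, h5⟩, (invAll_self h6.isClassFunction).mono H.PE⟩, h4, μ, h9, h8⟩)
    (fun a b c => fun h1 h2 => Subtype.ext (Subtype.ext
      (uL c.1.2 c.2.1.1 a.1.2 a.2.1.1 b.1.2 b.2.1.1 h1 h2)))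
  have hPN : P ≤ N.comap f := hPS.trans (Subgroup.comap_mono hSN)
  have hNP : G.comap f ⊓ Nm P ≤ N.comap f := fun x hx =>
    ⟨hx.1, Subgroup.le_normalizer_map f (Subgroup.mem_map_of_mem f hx.2)⟩
  have heq : ∀ (θ φ : McInv p (RingHom.id ℂ) P (f.ker_le_comap (K ⊔ S)) ν) (m : Γ)
      (hm : m ∈ N.comap f) (_ : m ∈ Nm P), φ.1.1 = cjn (comap_le_Nm hE (hNG hm)) θ.1.1 ↔
        (e φ).1.1 = cjn (comap_le_Nm hNE hm) (e θ).1.1 := fun θ φ m hm hm' => by
    have h1 := relC θ.1.2 (e θ).1.2 (he θ) hm hm'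
    exact ⟨fun h => uR φ.1.2 φ.2.1.1 (e φ).1.2 (e φ).2.1.1 (isIrr_cjn _ (e θ).1.2)
      (by rw [charDegree_cjn]; exact (e θ).2.1.1) (he φ) (h ▸ h1),
      fun h => uL (e φ).1.2 (e φ).2.1.1 φ.1.2 φ.2.1.1 (isIrr_cjn _ θ.1.2)
      (by rw [charDegree_cjn]; exact θ.2.1.1) (he φ) (h ▸ h1)⟩
  refine cnt_eq_of_equiv (id_iterate (p ^ 0)) (f.ker_le_comap (K ⊔ S)) hEG (hn _) (comap_le_Nm hE)
    (f.ker_le_comap (C ⊔ S)) hEN' (comap_le_Nm hNE) hNG hP hPN hSyl hNP hν hi e heq fun θ => ?_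
  have hη := θ.1.2
  have hd := θ.2.1.1
  have hη' := (e θ).1.2
  have hd' := (e θ).2.1.1
  have hR := he θ
  have hkey : ∀ m ∈ N.comap f, m ∈ invSub _ θ.1.1 ↔ m ∈ invSub _ (e θ).1.1 := fun m hm => by
    obtain ⟨l, hl, m, hm', rfl⟩ := frattini_mul (f.ker_le_comap N) (hn _) hP hPN
      (not_dvd_relIndex_of_le hPN hNG hSyl)
      (by rw [sup_comm, ← Subgroup.comap_map_eq]; exact comap_le_Nm inf_le_right) m hm
    rw [Subgroup.mul_mem_cancel_left _ (le_invSub hη.isClassFunction (f.ker_le_comap _ hl)),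
      Subgroup.mul_mem_cancel_left _ (le_invSub hη'.isClassFunction (f.ker_le_comap _ hl)),
      mem_invSub, mem_invSub, and_iff_right (comap_le_Nm hE (hNG hm'.1)),
      and_iff_right (comap_le_Nm hNE hm'.1), invBy_iff_cjn (comap_le_Nm hE (hNG hm'.1)),
      invBy_iff_cjn (comap_le_Nm hNE hm'.1), eq_comm, heq θ θ m hm'.1 hm'.2, eq_comm]
  generalize θ.1.1 = η at hη hd hR hkey ⊢
  generalize (e θ).1.1 = η' at hη' hd' hR hkey ⊢
  let T := G.comap f ⊓ invSub _ η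
  let T' := N.comap f ⊓ invSub _ η'
  have hET : (K ⊔ S).comap f ≤ T := le_inf hEG (le_invSub hη.isClassFunction)
  have hET' : (C ⊔ S).comap f ≤ T' := le_inf hEN' (le_invSub hη'.isClassFunction)
  have hTT : T' ≤ T := fun x hx => ⟨hNG hx.1, (hkey x hx.1).2 hx.2⟩
  have hTN : ∀ x ∈ T, x ∈ N.comap f → x ∈ T' := fun x hx hx' => ⟨hx', (hkey x hx').1 hx.2⟩
  have hSylN := not_dvd_relIndex_of_le hPN hNG hSyl
  rw [← cnt_inertia hp.out _ hET inf_le_left (comap_le_Nm hE) hη rfl rfl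
      (not_dvd_relIndex_of_le' (H.PE.trans hET) hSyl),
    ← cnt_inertia hp.out _ hET' inf_le_left (comap_le_Nm hNE) hη' rfl rfl
      (not_dvd_relIndex_of_le' (H'.PE.trans hET') hSylN),
    cnt_id_eq_card hET (inf_le_left.trans (comap_le_Nm hE)) (not_dvd_relIndex_of_le' H.PE
      (not_dvd_relIndex_of_le (H.PE.trans hET) inf_le_left hSyl)) hη hd,
    cnt_id_eq_card hET' (inf_le_left.trans (comap_le_Nm hNE)) (not_dvd_relIndex_of_le' H'.PE
      (not_dvd_relIndex_of_le (H'.PE.trans hET') inf_le_left hSylN)) hη' hd']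
  refine card_over_eq_of_ext hET (inf_le_left.trans (comap_le_Nm hE)) hTT ?_ hET'
    (fun t ht => ?_) hη (fun x hx => hx.2.2) hη' (fun x hx => hx.2.2) fun U h h' hUT hab => ?_
  · refine le_antisymm (le_inf (Subgroup.comap_mono (sup_le_sup_right inf_le_left _)) hET') ?_
    rw [hEN]
    exact fun x hx => ⟨hx.1, hx.2.1⟩
  · obtain ⟨k, hk, n, hn', rfl⟩ := frattini_mul (Subgroup.comap_mono hKG) (comap_le_Nm hG) hP hPG
      hSyl (by rw [← comap_sup_map hf]; exact comap_le_Nm hE) t ht.1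
    exact ⟨k, H.KE hk, n, hTN n ((Subgroup.mul_mem_cancel_left _ (hET (H.KE hk))).1 ht) (hNP hn'),
      rfl⟩
  obtain ⟨U, rfl⟩ : ∃ U' : Subgroup Δ, U = U'.comap f :=
    ⟨U.map f, (Subgroup.comap_map_eq_self ((f.ker_le_comap _).trans h)).symm⟩
  have hEU : K ⊔ S ≤ U := (Subgroup.comap_le_comap_of_surjective hf).1 h
  have hUG : U ≤ G := (Subgroup.comap_le_comap_of_surjective hf).1 (hUT.trans inf_le_left)
  have hV : U.comap f ⊓ T' = (U ⊓ N).comap f :=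
    le_antisymm (fun x hx => ⟨hx.1, hx.2.1⟩) fun x hx => ⟨hx.1, hTN x (hUT hx.1) hx.2⟩
  have hSV : S ≤ U ⊓ N := le_inf (le_sup_right.trans hEU) hSN
  have hCV : C ≤ U ⊓ N := le_inf (inf_le_left.trans (le_sup_left.trans hEU)) hCN
  have hVG : U ⊓ N ≤ G := inf_le_left.trans hUG
  obtain ⟨H₀, h1, h2, h3⟩ := exists_compl_of_pGroup hSV (inf_le_right.trans inf_le_right) hS
    (not_dvd_relIndex_of_le hSV hVG hSyl')
  have h4 : C ⊔ H₀ ≤ U ⊓ N := sup_le hCV h1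
  have h5 : ¬ p ∣ Nat.card ↥(C ⊔ H₀) := not_dvd_card_sup (h1.trans (inf_le_right.trans hNC)) hC h3
  have h6 : U ⊓ N = (C ⊔ S) ⊔ (C ⊔ H₀) :=
    le_antisymm (h2.le.trans (sup_le_sup le_sup_right le_sup_right)) (sup_le (sup_le hCV hSV) h4)
  have h7 : U = (K ⊔ S) ⊔ (K ⊔ (C ⊔ H₀)) := by
    refine le_antisymm (fun u hu => ?_)
      (sup_le hEU (sup_le (le_sup_left.trans hEU) (h4.trans inf_le_left)))
    obtain ⟨k, hk, n, hn', rfl⟩ := frattini_mul hKG hG hS hSG hSyl' hE u (hUG hu)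
    have h8 : n ∈ U ⊓ N :=
      ⟨(Subgroup.mul_mem_cancel_left _ (hEU (Subgroup.mem_sup_left hk))).1 hu, hn'⟩
    exact Subgroup.mul_mem _ (Subgroup.mem_sup_left (Subgroup.mem_sup_left hk))
      ((sup_le_sup (sup_le_sup_right (inf_le_left : C ≤ K) S) le_sup_right :
        C ⊔ S ⊔ (C ⊔ H₀) ≤ K ⊔ S ⊔ (K ⊔ (C ⊔ H₀))) (h6.le h8))
  have h8 : ¬ p ∣ Nat.card ↥(K ⊔ (C ⊔ H₀)) := not_dvd_card_sup (h4.trans (hVG.trans hG)) hK h5
  have h9 : ∀ a ∈ C ⊔ H₀, ∀ b ∈ C ⊔ H₀, a * b * a⁻¹ * b⁻¹ ∈ C := fun a ha b hb => by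
    have h10 : a * b * a⁻¹ * b⁻¹ ∈ C ⊔ H₀ :=
      mul_mem (mul_mem (mul_mem ha hb) (inv_mem ha)) (inv_mem hb)
    have h11 : a * b * a⁻¹ * b⁻¹ ∈ C ⊔ S := by
      obtain ⟨a, rfl⟩ := hf a
      obtain ⟨b, rfl⟩ := hf b
      exact hEN.ge ⟨by simpa using hab a (h4 ha).1 b (h4 hb).1, (h4 h10).2⟩
    obtain ⟨c, hc, s, hs, e⟩ := exists_mul_of_mem_sup (hSN.trans hNC) h11
    rw [e] at h10 ⊢
    have h12 : s ∈ S ⊓ (C ⊔ H₀) :=
      ⟨hs, (Subgroup.mul_mem_cancel_left _ (Subgroup.mem_sup_left hc)).1 h10⟩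
    rw [(Subgroup.disjoint_of_coprime_natCard (coprime_of_pGroup hS h5)).eq_bot, Subgroup.mem_bot] at h12
    rwa [h12, mul_one]
  rw [ext_congr hV h' (hV ▸ h'),
    ext_iff_ext_compl (p := p) (W := (K ⊔ (C ⊔ H₀)).comap f) H.KE h (Subgroup.comap_mono le_sup_left)
      (by rw [Subgroup.comap_sup_eq f _ _ hf, ← h7]) (comap_le_Nm (hUG.trans hG))
      (comap_le_Nm (hUG.trans hE)) (not_dvd_relIndex_of_le' H.PE
        (not_dvd_relIndex_of_le (H.PE.trans h) (Subgroup.comap_mono hUG) hSyl))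
      H.coprime_relIndex hη.isCharacter (H.res_irr hη hd) (fun x hx => (hUT hx).2.2),
    ext_iff_ext_compl (p := p) (W := (C ⊔ H₀).comap f) H'.KE _ (Subgroup.comap_mono le_sup_left)
      (by rw [Subgroup.comap_sup_eq f _ _ hf, ← h6]) (comap_le_Nm (inf_le_right.trans hNC))
      (comap_le_Nm (inf_le_right.trans hNE)) (not_dvd_relIndex_of_le' H'.PE
        (not_dvd_relIndex_of_le (H'.PE.trans (hV ▸ h')) (Subgroup.comap_mono hVG) hSyl))
      H'.coprime_relIndex hη'.isCharacter (H'.res_irr hη' hd') (fun x hx => (hV.ge hx).2.2.2)]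
  exact ow hf (H.res_irr hη hd) S hS (hSG.trans hG) (h4.trans (hVG.trans hG))
    (h4.trans (inf_le_right.trans inf_le_right)) rfl h8 rfl h9 hCK _ _ (H'.res_irr hη' hd')
    ((invAll_res _ hη.isClassFunction).mono (hSE _))
    ((invAll_res _ hη'.isClassFunction).mono (hSE _)) hR.1

/-- transport of irreducible characters along an isomorphism -/
def irrCongr {G H : Type*} [Group G] [Group H] (e : H ≃* G) : IrrCharacter G ≃ IrrCharacter H where
  toFun χ := ⟨fun x => χ.1 (e x), χ.2.comp_mulEquiv e⟩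
  invFun χ := ⟨fun x => χ.1 (e.symm x), χ.2.comp_mulEquiv e.symm⟩
  left_inv χ := Subtype.ext (funext fun x => by simp)
  right_inv χ := Subtype.ext (funext fun x => by simp)

omit hp in
theorem cnt_subgroupOf (σ : ℂ →+* ℂ) {L M G : Subgroup Γ} (hLM : L ≤ M) (hMG : M ≤ G)
    (h' : L.subgroupOf G ≤ M.subgroupOf G) (ν : L → ℂ) :
    cnt p σ h' (sg G ν) = cnt p σ hLM ν := by
  let e := Subgroup.subgroupOfEquivOfLe hMG
  refine (Nat.card_congr (Equiv.subtypeEquiv (irrCongr e) fun χ => ?_)).symm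
  refine and_congr Iff.rfl (and_congr ⟨fun h => funext fun x => congrFun h (e x),
    fun h => funext fun x => ?_⟩ ?_)
  · obtain ⟨y, rfl⟩ := e.surjective x
    exact congrFun h y
  · rw [mult, mult, ← @classInner_comp_equiv _ _ (Fintype.ofFinite L) _ _ (Fintype.ofFinite _)
      (Subgroup.subgroupOfEquivOfLe (hLM.trans hMG)).toEquiv]
    rfl

/-- The base case of the McKay equality. -/
theorem mcBase_id : McBase p (RingHom.id ℂ) Γ := by
  intro L K G S hLK hKG hGL hGK hS hSG hSyl hK hE ν hν hi _ hLN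
  have := Subgroup.normal_subgroupOf_of_le_normalizer hGL
  let f := QuotientGroup.mk' (L.subgroupOf G)
  have hf : Function.Surjective f := QuotientGroup.mk'_surjective _
  have key : ∀ {L' : Subgroup G} (_ : f.ker = L') {ν' : L' → ℂ} (h1 : L' ≤ (⊤ : Subgroup _).comap f)
      (h2 : L' ≤ (⊤ ⊓ Nm ((S.subgroupOf G).map f)).comap f), IsIrrCharacter _ ν' →
      InvAll _ ((⊤ : Subgroup _).comap f) ν' →
      cnt p (RingHom.id ℂ) h1 ν' = cnt p (RingHom.id ℂ) h2 ν' := by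
    rintro _ rfl ν' h1 h2 h3 h4
    have n1 := Subgroup.normal_subgroupOf_of_le_normalizer hGK
    have n2 := Subgroup.normal_subgroupOf_of_le_normalizer hE
    refine base_comap (K := (K.subgroupOf G).map f) hf le_top ?_
      (hS.of_equiv (Subgroup.subgroupOfEquivOfLe hSG).symm) le_top ?_ ?_ ?_ h3 h4
    · exact (Subgroup.normalizer_eq_top_iff.2 (n1.map f hf)).ge
    · rwa [Subgroup.comap_top, Subgroup.relIndex_top_right]
    · rwa [← Subgroup.relIndex_ker, QuotientGroup.ker_mk', Subgroup.relIndex_subgroupOf hKG]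
    · rw [← Subgroup.map_sup, ← Subgroup.subgroupOf_sup hKG hSG]
      exact (Subgroup.normalizer_eq_top_iff.2 (n2.map f hf)).ge
  have e1 : (⊤ : Subgroup _).comap f = G.subgroupOf G := by simp
  have e2 : (⊤ ⊓ Nm ((S.subgroupOf G).map f)).comap f = (G ⊓ Nm (L ⊔ S)).subgroupOf G := by
    rw [top_inf_eq, Subgroup.inf_subgroupOf_left, Nm, Subgroup.comap_normalizer_eq_of_surjective _ hf,
      Subgroup.comap_map_eq, QuotientGroup.ker_mk', sup_comm,
      ← Subgroup.subgroupOf_sup (hLK.trans hKG) hSG,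
      Subgroup.subgroupOf_normalizer_eq (sup_le (hLK.trans hKG) hSG)]
  have h1 : L.subgroupOf G ≤ G.subgroupOf G := Subgroup.subgroupOf_mono _ (hLK.trans hKG)
  have h2 := Subgroup.subgroupOf_mono G hLN
  rw [← cnt_subgroupOf _ (hLK.trans hKG) le_rfl h1, ← cnt_subgroupOf _ hLN inf_le_left h2,
    ← cnt_congr _ _ e1 (e1 ▸ h1), ← cnt_congr _ _ e2 (e2 ▸ h2)]
  exact key (QuotientGroup.ker_mk' _) _ _ (isIrr_subgroupOf (hLK.trans hKG) hν)
    fun x _ a b e => hi x x.2 _ _ (congrArg Subtype.val e)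

omit hp in
theorem cnt_top (σ : ℂ →+* ℂ) {L : Subgroup Γ} [Fintype L] {ν : L → ℂ} (hν : IsCharacter L ν) :
    cnt p σ (le_top : L ≤ ⊤) ν = Nat.card {χ : IrrCharacter Γ // ¬ p ∣ charDegree χ.1 ∧
      gl σ χ.1 = χ.1 ∧ classInner (fun l : L => χ.1 l) ν ≠ 0} := by
  refine (Nat.card_congr (Equiv.subtypeEquiv (irrCongr Subgroup.topEquiv) fun χ => ?_)).symm
  refine and_congr Iff.rfl (and_congr ⟨fun h => funext fun x => congrFun h x,
    fun h => funext fun x => congrFun h ⟨x, trivial⟩⟩ ?_)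
  exact (mult_ne_zero_iff le_top (irrCongr Subgroup.topEquiv χ).2.isCharacter hν).symm

/-- The relative McKay equality for `p`-solvable groups. -/
theorem mcKay_rel {σ : ℂ →+* ℂ} {k : ℕ} (hσ : ∀ z, σ^[p ^ k] z = z) (hΓ : IsPSolvable p Γ)
    (hb : McBase p σ Γ) (S : Sylow p Γ) {L : Subgroup Γ} [L.Normal] [Fintype L] {ν : L → ℂ}
    (hν : IsIrrCharacter L ν) (hi : InvAll L S ν) (hg : gl σ ν = ν) (hLN : L ≤ Nm (L ⊔ S)) :
    Nat.card {χ : IrrCharacter Γ // ¬ p ∣ charDegree χ.1 ∧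
      gl σ χ.1 = χ.1 ∧ classInner (fun l : L => χ.1 l) ν ≠ 0} =
    Nat.card {χ : IrrCharacter (Nm (L ⊔ S)) // ¬ p ∣ charDegree χ.1 ∧
      gl σ χ.1 = χ.1 ∧ classInner (res hLN χ.1) ν ≠ 0} := by
  rw [← cnt_top σ hν.isCharacter, cnt_normalizer_of_base hσ hΓ hb S.2 _ L ⊤ le_top rfl
    (by rw [Nm, Subgroup.normalizer_eq_top]) le_top
    (by rw [Subgroup.relIndex_top_right]; exact S.not_dvd_index) ν hν hi hg (le_inf le_top hLN),
    cnt_congr _ _ (top_inf_eq _) _ hLN]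
  exact Nat.card_congr (Equiv.subtypeEquivRight fun χ => and_congr Iff.rfl (and_congr Iff.rfl
    (mult_ne_zero_iff hLN χ.2.isCharacter hν.isCharacter)))

/-- The McKay equality for `p`-solvable groups. -/
theorem mcKay_abs {σ : ℂ →+* ℂ} {k : ℕ} (hσ : ∀ z, σ^[p ^ k] z = z) (hΓ : IsPSolvable p Γ)
    (hb : McBase p σ Γ) (S : Sylow p Γ) :
    Nat.card {χ : IrrCharacter Γ // ¬ p ∣ charDegree χ.1 ∧ gl σ χ.1 = χ.1} =
    Nat.card {χ : IrrCharacter (Nm (S : Subgroup Γ)) //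
      ¬ p ∣ charDegree χ.1 ∧ gl σ χ.1 = χ.1} := by
  have h1 := mcKay_rel hσ hΓ hb S (L := ⊥) (ν := fun _ => 1) isIrrCharacter_one
    (fun _ _ _ _ _ => rfl) (funext fun _ => map_one σ) bot_le
  have h2 : ∀ {φ : (⊥ : Subgroup Γ) → ℂ}, φ 1 ≠ 0 → classInner φ (fun _ => 1) ≠ 0 := fun h => by
    simpa [classInner, Subsingleton.elim (default : (⊥ : Subgroup Γ)) 1] using h
  have h3 : ∀ M : Subgroup Γ, M = ⊥ ⊔ (S : Subgroup Γ) →
      Nat.card {χ : IrrCharacter (Nm M) // ¬ p ∣ charDegree χ.1 ∧ gl σ χ.1 = χ.1} =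
      Nat.card {χ : IrrCharacter (Nm (⊥ ⊔ (S : Subgroup Γ))) // ¬ p ∣ charDegree χ.1 ∧
        gl σ χ.1 = χ.1 ∧ classInner (res bot_le χ.1) (fun _ => 1) ≠ 0} := by
    rintro _ rfl
    exact Nat.card_congr (Equiv.subtypeEquivRight fun χ => and_congr_right fun _ =>
      (and_iff_left (h2 χ.2.apply_one_ne_zero)).symm)
  rw [h3 _ (bot_sup_eq _).symm, ← h1]
  exact Nat.card_congr (Equiv.subtypeEquivRight fun χ => and_congr_right fun _ =>
    (and_iff_left (h2 χ.2.apply_one_ne_zero)).symm)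

end H32
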