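import Cfsg.Agent.Base
import Cfsg.Agent.H28.CharBasis
import Cfsg.Agent.H33.Ind

/-! Characters of finite direct products `∀ i, M i`. -/

set_option autoImplicit false

namespace H32

open Cfsg H28 H33
open scoped ComplexConjugate

variable {ι : Type*} [Fintype ι] {M : ι → Type*} [∀ i, Group (M i)]

/-- the outer product of a family of functions -/
def piFun (φ : ∀ i, M i → ℂ) : (∀ i, M i) → ℂ := fun g => ∏ i, φ i (g i)

omit [∀ i, Group (M i)] in
theorem piFun_apply (φ : ∀ i, M i → ℂ) (g : ∀ i, M i) : piFun φ g = ∏ i, φ i (g i) := rfl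

theorem isCharacter_piFun {φ : ∀ i, M i → ℂ} (h : ∀ i, IsCharacter (M i) (φ i)) :
    IsCharacter (∀ i, M i) (piFun φ) := by
  have := isCharacter_prod (G := ∀ i, M i) Finset.univ
    (f := fun i g => φ i (Pi.evalMonoidHom M i g)) fun i _ => (h i).comp _
  convert this using 1
  ext g
  simp [piFun_apply]

variable [DecidableEq ι] [∀ i, Fintype (M i)]

theorem classInner_piFun (φ ψ : ∀ i, M i → ℂ) :
    classInner (piFun φ) (piFun ψ) = ∏ i, classInner (φ i) (ψ i) := by
  simp only [classInner_def, piFun_apply, map_prod, ← Finset.prod_mul_distrib]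
  rw [Finset.prod_mul_distrib, Finset.prod_univ_sum, Fintype.piFinset_univ, Nat.card_pi]
  simp

omit [DecidableEq ι] [∀ i, Fintype (M i)] in
theorem isIrrCharacter_piFun [∀ i, Finite (M i)] {φ : ∀ i, M i → ℂ}
    (h : ∀ i, IsIrrCharacter (M i) (φ i)) : IsIrrCharacter (∀ i, M i) (piFun φ) := by
  classical
  have := fun i => Fintype.ofFinite (M i)
  refine (isCharacter_piFun fun i => (h i).isCharacter).irr_of_norm_one ?_
  rw [classInner_piFun]
  exact Finset.prod_eq_one fun i _ => (h i).classInner_self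

omit [DecidableEq ι] [∀ i, Fintype (M i)] in
theorem eq_of_piFun_eq [∀ i, Finite (M i)] {φ ψ : ∀ i, M i → ℂ}
    (h : ∀ i, IsIrrCharacter (M i) (φ i)) (h' : ∀ i, IsIrrCharacter (M i) (ψ i))
    (e : piFun φ = piFun ψ) : φ = ψ := by
  classical
  have := fun i => Fintype.ofFinite (M i)
  have h1 := (isIrrCharacter_piFun h).classInner_self
  nth_rewrite 2 [e] at h1
  rw [classInner_piFun] at h1
  funext i
  refine (h i).eq_of_classInner_ne_zero (h' i) fun h0 => ?_
  rw [Finset.prod_eq_zero (Finset.mem_univ i) h0] at h1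
  exact zero_ne_one h1

omit [DecidableEq ι] [∀ i, Fintype (M i)] in
theorem exists_eq_piFun [∀ i, Finite (M i)] {θ : (∀ i, M i) → ℂ}
    (hθ : IsIrrCharacter (∀ i, M i) θ) :
    ∃ φ : ∀ i, M i → ℂ, (∀ i, IsIrrCharacter (M i) (φ i)) ∧ θ = piFun φ := by
  classical
  have := fun i => Fintype.ofFinite (M i)
  by_contra hcon
  push Not at hcon
  have hreg : regChar (∀ i, M i) = piFun fun i => regChar (M i) := by
    ext g
    by_cases hg : g = 1
    · subst hg
      simp [piFun_apply, regChar_one]
    · obtain ⟨i, hi⟩ := Function.ne_iff.1 hg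
      rw [regChar_of_ne hg, piFun_apply]
      exact (Finset.prod_eq_zero (f := fun i => regChar (M i) (g i)) (Finset.mem_univ i)
        (regChar_of_ne hi)).symm
  have hsum : (piFun fun i => regChar (M i)) = ∑ φ : ∀ i, IrrCharacter (M i),
      (∏ i, classInner (regChar (M i)) (φ i)) • piFun fun i => (φ i).1 := by
    ext g
    rw [piFun_apply, Finset.sum_apply]
    simp only [fun i => (isCharacter_regChar (G := M i)).isClassFunction.apply_eq_sum_irr (g i)]
    rw [Finset.prod_univ_sum, Fintype.piFinset_univ]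
    simp [piFun_apply, Finset.prod_mul_distrib]
  have h1 := classInner_regChar_left θ
  rw [hreg, hsum, classInner_sum_left, Finset.sum_eq_zero] at h1
  · exact hθ.apply_one_ne_zero (by simpa using h1.symm)
  · intro φ _
    rw [classInner_smul_left, (isIrrCharacter_piFun fun i => (φ i).2).classInner_of_ne hθ
      (hcon _ fun i => (φ i).2).symm, mul_zero]

omit [DecidableEq ι] [∀ i, Fintype (M i)] in
theorem ext0_pi (H : ∀ i, Subgroup (M i)) (θ : ∀ i, H i → ℂ) (g : ∀ i, M i) :
    extendByZero (Subgroup.pi Set.univ H) (fun x => ∏ i, θ i ⟨x.1 i, x.2 i trivial⟩) g =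
      ∏ i, extendByZero (H i) (θ i) (g i) := by
  by_cases hg : g ∈ Subgroup.pi Set.univ H
  · rw [ext0_of_mem _ _ hg]
    exact Finset.prod_congr rfl fun i _ => (ext0_of_mem _ _ (hg i trivial)).symm
  · rw [ext0_of_not_mem _ _ hg]
    obtain ⟨i, hi⟩ : ∃ i, g i ∉ H i := by
      by_contra hh
      push Not at hh
      exact hg fun i _ => hh i
    exact (Finset.prod_eq_zero (f := fun i => extendByZero (H i) (θ i) (g i))
      (Finset.mem_univ i) (ext0_of_not_mem _ _ hi)).symm

omit [DecidableEq ι] [∀ i, Fintype (M i)] in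
theorem card_subgroup_pi (H : ∀ i, Subgroup (M i)) :
    Nat.card (Subgroup.pi Set.univ H) = ∏ i, Nat.card (H i) := by
  rw [← Nat.card_pi]
  exact Nat.card_congr
    { toFun := fun x i => ⟨x.1 i, x.2 i trivial⟩
      invFun := fun x => ⟨fun i => x i, fun i _ => (x i).2⟩
      left_inv := fun _ => rfl
      right_inv := fun _ => rfl }

theorem indFun_pi (H : ∀ i, Subgroup (M i)) (θ : ∀ i, H i → ℂ) :
    indFun (Subgroup.pi Set.univ H) (fun x => ∏ i, θ i ⟨x.1 i, x.2 i trivial⟩) =
      piFun fun i => indFun (H i) (θ i) := by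
  ext g
  simp only [piFun_apply, indFun_apply, ext0_pi]
  rw [Finset.prod_mul_distrib, Finset.prod_univ_sum, Fintype.piFinset_univ, card_subgroup_pi]
  simp

end H32
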