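import Cfsg.Agent.H90.RFSpec
import Cfsg.Agent.H51.SEMod
import Cfsg.Agent.H82.Hub

/-! RF-SE: module bounds for groups with a strongly embedded subgroup. -/

set_option autoImplicit false
set_option linter.unusedSectionVars false

namespace H32.RF

open Cfsg hiding pRank
open H46 H69 H51 Subgroup MulAction Module

universe u v

theorem card_Q0 {G : Type u} {Ω : Type v} [Group G] [Finite G] [MulAction G Ω] {a : Ω} {t : G}
    {Q : Subgroup G} [FaithfulSMul G Ω] (hS : IsRankOneSetup G Ω a t Q) (h2 : TwoRank G) :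
    Nat.card (RO.Q0 hS h2) = roq G a := by
  refine card_eq_roq fun x => ?_
  rw [RO.mem_Q0]
  constructor
  · rintro ⟨h3, h4⟩
    by_cases h1 : x = 1
    · exact Or.inl h1
    · exact Or.inr ⟨h3, h1, h4⟩
  · rintro (rfl | hx)
    · simp
    · exact ⟨hx.1, hx.2.2⟩

theorem card_two_pow (W : Type*) [AddCommGroup W] [Module (ZMod 2) W] [Module.Finite (ZMod 2) W] :
    Nat.card W = 2 ^ finrank (ZMod 2) W := by
  rw [Module.natCard_eq_pow_finrank (K := ZMod 2), Nat.card_zmod]

section
variable {G : Type u} [Group G] [Finite G]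
  {V : Type*} [AddCommGroup V] [Module (ZMod 2) V] [Module.Finite (ZMod 2) V]
  (ρ : Representation (ZMod 2) G V) (hρ : Function.Injective ρ)
include hρ

theorem elem_le {H : Subgroup G} (hH : IsStronglyEmbedded H) (S : Sylow 2 G) {B : Subgroup G}
    (hBS : B ≤ S) (hB : ∀ b ∈ B, b * b = 1) {s : G} (hs : s ∈ (S : Subgroup G)) (hs1 : s ≠ 1) :
    Nat.card B ≤ 2 ^ cdim ρ s := by
  by_cases h2 : TwoRank G
  · obtain ⟨t, Q, hS⟩ := H99.hub_quot H82.hub hH h2
    have hO : Odd (Nat.card (pPrimeCore 2 G)) := H99.odd_card_oddCore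
    have h2' := H99.twoRank_quot h2 _ hO
    have := H99.faithful_of_normalCore (H99.se_quot_normalCore hH h2)
    obtain ⟨T, rfl⟩ := H99.ro_exists_sylow hS h2'
    obtain ⟨e⟩ := nonempty_sylow_equiv hO S T
    have hq := card_Q0 hS h2'
    obtain ⟨n, hn⟩ := IsPGroup.iff_card.1 (T.isPGroup'.to_le (RO.Q0_le_Q hS h2'))
    have hBn : Nat.card B ≤ 2 ^ n := by
      rw [← hn]
      refine Nat.card_le_card_of_injective (fun b : B => (⟨(e ⟨b, hBS b.2⟩ : _), ?_⟩ : RO.Q0 hS h2'))
        fun b c h => ?_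
      · refine ⟨RO.smul_a_of_mem_Q hS (e ⟨b, hBS b.2⟩).2, ?_⟩
        rw [← coe_mul, ← map_mul]
        have : (⟨b, hBS b.2⟩ * ⟨b, hBS b.2⟩ : (S : Subgroup G)) = 1 := Subtype.ext (hB b b.2)
        rw [this, map_one, coe_one]
      · have h3 : e ⟨b, hBS b.2⟩ = e ⟨c, hBS c.2⟩ := Subtype.ext (congrArg Subtype.val h :)
        exact Subtype.ext (congrArg Subtype.val (e.injective h3) :)
    rw [hq] at hn
    refine hBn.trans (Nat.pow_le_pow_right two_pos ?_)
    obtain ⟨s', u, r, h4, h5, hr, hr2, h6, h7⟩ := ro_real hS h2' hn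
    obtain ⟨s', x, h8, h9, h10⟩ := lift_real hO h4 h5 h6
    have h11 := dim_ge_of_real ρ hρ h8 hr hr2 h9 h10 h7
    have hxo : Odd (orderOf x) := h9 ▸ hr.odd_of_ne_two hr2
    have h12 := cdim_le_two_mul ρ h8 hxo h10
    have hs'1 : s' ≠ 1 := by
      rintro rfl
      rw [one_mul, inv_one, mul_one] at h10
      have : x = 1 := eq_one_of_odd_of_mul_self hxo (by nth_rewrite 1 [h10]; exact inv_mul_cancel x)
      exact hr.ne_one (by rw [← h9, this, orderOf_one])
    obtain ⟨z, hz, hz2⟩ := H88.exists_involution_of_isPGroup (S.isPGroup'.to_le (zpowers_le.2 hs))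
      (by simpa using hs1)
    obtain ⟨g, rfl⟩ := isConj_iff.1 (H88.se_isConj hH hz2 (orderOf_eq_two_of hs'1 h8))
    obtain ⟨j, rfl⟩ := (Submonoid.mem_powers_iff _ _).1 (mem_powers_iff_mem_zpowers.2 hz)
    have h13 := cdim_pow_le ρ s j
    rw [cdim_conj] at h12
    omega
  · have h1 := H99.twoRankOne_of_not_twoRank h2
    refine le_trans ?_ (Nat.pow_le_pow_right two_pos (cdim_pos ρ hρ hs1))
    by_contra h5
    have := Fintype.ofFinite B
    rw [Nat.card_eq_fintype_card] at h5
    obtain ⟨x, y, z, h6, h7, h8⟩ := Fintype.two_lt_card_iff.1 (not_le.1 h5)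
    have key : ∀ x y : B, x ≠ 1 → y ≠ 1 → x = y := fun x y hx hy =>
      Subtype.ext (h1.eq_of_mem_pgroup S.isPGroup' (hBS x.2) (hBS y.2)
      (fun e => hx (Subtype.ext e)) (fun e => hy (Subtype.ext e)) (hB _ x.2) (hB _ y.2))
    by_cases hx : x = 1
    · exact h8 (key y z (fun e => h6 (hx.trans e.symm)) fun e => h7 (hx.trans e.symm))
    · by_cases hy : y = 1
      · exact h7 (key x z hx fun e => h8 (hy.trans e.symm))
      · exact h6 (key x y hx hy)

end

/-- Automorphisms of an elementary abelian group as linear maps. -/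
def toEnd (V : Type*) [CommGroup V] [Module (ZMod 2) (Additive V)] :
    MulAut V →* Module.End (ZMod 2) (Additive V) where
  toFun φ := (MonoidHom.toAdditive φ.toMonoidHom).toZModLinearMap 2
  map_one' := by ext; rfl
  map_mul' _ _ := by ext; rfl

theorem toEnd_injective (V : Type*) [CommGroup V] [Module (ZMod 2) (Additive V)] :
    Function.Injective (toEnd V) := fun φ ψ h => by
  ext v
  exact congrArg (fun f : Module.End (ZMod 2) (Additive V) => (f (Additive.ofMul v)).toMul) h

/-- The quotient by the kernel has a strongly embedded subgroup. -/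
theorem se_ker {X A : Type*} [Group X] [Finite X] [Group A] {H : Subgroup X}
    (hH : IsStronglyPEmbedded 2 H) (ρ : X →* A) (hK : Odd (Nat.card ρ.ker))
    (hN : ∀ N : Subgroup X, N.Normal → (∀ x ∈ N, ∃ k : ℕ, ρ x ^ 2 ^ k = 1) → ∀ x ∈ N, ρ x = 1) :
    ∃ Y : Subgroup (X ⧸ ρ.ker), IsStronglyEmbedded Y := by
  haveI : Fact (Nat.Prime 2) := ⟨Nat.prime_two⟩
  have hK' : ¬ 2 ∣ Nat.card ρ.ker := fun h => (Nat.not_even_iff_odd.2 hK) (even_iff_two_dvd.2 h)
  have hH' := H84.spe_two_iff.1 hH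
  by_cases h2 : TwoRank X
  · refine ⟨_, H84.spe_two_iff.1 (H99.spe_map_mk hH _ hK' ?_)⟩
    rw [sup_eq_left.2 ((H99.le_oddCore hK).trans (H99.se_oddCore_le hH' h2))]
    exact hH'.1
  · have h1 := H99.twoRankOne_of_not_twoRank h2
    obtain ⟨t, -, ht⟩ := H88.se_exists_involution hH'
    have htt := H99.mul_self_of_orderOf_two ht
    have ht1 := H99.ne_one_of_orderOf_two ht
    have hne : centralizer ({t} : Set X) ⊔ ρ.ker ≠ ⊤ := fun h => by
      have hc : ∀ g : X, ρ g * ρ t = ρ t * ρ g := fun g => by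
        obtain ⟨c, hc, k, hk, rfl⟩ := mem_sup_of_normal_right.1 (h ▸ mem_top g)
        rw [map_mul, MonoidHom.mem_ker.1 hk, mul_one, ← map_mul, ← map_mul,
          mem_centralizer_singleton_iff.1 hc]
      have hn : ((zpowers (ρ t)).comap ρ).Normal := ⟨fun x hx g => by
        obtain ⟨n, hn⟩ := mem_zpowers_iff.1 hx
        refine mem_zpowers_iff.2 ⟨n, ?_⟩
        rw [map_mul, map_mul, ← hn, map_inv, eq_mul_inv_iff_mul_eq]
        exact ((show Commute (ρ g) (ρ t) from hc g).zpow_right n).eq.symm⟩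
      have := hN _ hn (fun x hx => by
        obtain ⟨n, hn⟩ := mem_zpowers_iff.1 hx
        refine ⟨1, ?_⟩
        rw [← hn, pow_one, ← zpow_natCast, ← zpow_mul, mul_comm, zpow_mul, zpow_natCast, pow_two,
          ← map_mul, htt, map_one, one_zpow]) t (mem_zpowers _)
      exact ht1 (H88.eq_one_of_odd_card_of_mul_self hK this htt)
    have hC : IsStronglyEmbedded (centralizer ({t} : Set X)) :=
      (H88.isStronglyEmbedded_iff _).2 ⟨fun h => hne (by rw [h, top_sup_eq]),
        ⟨t, mem_centralizer_singleton_iff.2 rfl, ht⟩, fun u hu hu2 g hg => by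
          have e1 : u = t := h1 u t (H99.ne_one_of_orderOf_two hu2) ht1
            (H99.mul_self_of_orderOf_two hu2) htt (mem_centralizer_singleton_iff.1 hu)
          subst e1
          have e2 : g * u * g⁻¹ = u := h1 _ u (by simpa using ht1) ht1
            (by rw [conj_mul, htt, mul_one, mul_inv_cancel]) htt (mem_centralizer_singleton_iff.1 hg)
          rw [mem_centralizer_singleton_iff, ← mul_inv_eq_iff_eq_mul, e2]⟩
    exact ⟨_, H84.spe_two_iff.1 (H99.spe_map_mk (H84.spe_two_iff.2 hC) _ hK' hne)⟩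

theorem jobSE : H90.RF.JobSE.{v} := by
  intro X V _ _ _ _ H S ρ hH hV hS hN
  haveI : Fact (Nat.Prime 2) := ⟨Nat.prime_two⟩
  letI : Module (ZMod 2) (Additive V) := AddCommGroup.zmodModule fun x => by
    rw [two_nsmul]; exact congrArg Additive.ofMul (hV x.toMul)
  haveI : Module.Finite (ZMod 2) (Additive V) := Module.Finite.of_finite
  have hK : Odd (Nat.card ρ.ker) := by
    rw [H88.odd_card_iff_no_involution]
    intro t ht h2
    have hp : IsPGroup 2 (zpowers t) := IsPGroup.of_card (n := 1) (by rw [Nat.card_zpowers, h2, pow_one])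
    obtain ⟨Q, hQ⟩ := hp.exists_le_sylow
    obtain ⟨g, hg⟩ := MulAction.exists_smul_eq X Q S
    have h3 : g * t * g⁻¹ ∈ (S : Subgroup X) := by
      rw [← hg]
      exact smul_mem_pointwise_smul _ (MulAut.conj g) _ (hQ (mem_zpowers t))
    have h4 := hS _ h3 ((inferInstance : ρ.ker.Normal).conj_mem t ht g)
    exact H99.ne_one_of_orderOf_two h2 (by simpa using h4)
  obtain ⟨Y, hY⟩ := se_ker hH ρ hK hN
  let ρ' : Representation (ZMod 2) (X ⧸ ρ.ker) (Additive V) :=
    (toEnd V).comp (QuotientGroup.kerLift ρ)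
  have hρ' : Function.Injective ρ' := (toEnd_injective V).comp (QuotientGroup.kerLift_injective ρ)
  have hf := QuotientGroup.mk'_surjective ρ.ker
  have hinj : ∀ B : Subgroup X, B ≤ S → Nat.card (B.map (QuotientGroup.mk' ρ.ker)) = Nat.card B :=
    fun B hB => by
      refine (Nat.card_congr (MulEquiv.ofBijective ((QuotientGroup.mk' ρ.ker).subgroupMap B) ⟨?_,
        MonoidHom.subgroupMap_surjective _ _⟩).toEquiv).symm
      rw [injective_iff_map_eq_one]
      intro x hx
      exact Subtype.ext (hS _ (hB x.2) ((QuotientGroup.eq_one_iff _).1 (congrArg Subtype.val hx)))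
  refine ⟨?_, fun B hBS hB s hs hs1 => ?_⟩
  · obtain ⟨k, hk⟩ := IsPGroup.iff_card.1 S.isPGroup'
    have h1 := (s3841 ρ' hρ' H82.hub Y hY (S.mapSurjective hf)).1 k (by
      rw [← hk]; exact hinj _ le_rfl)
    have h2 : Nat.card V = 2 ^ finrank (ZMod 2) (Additive V) := card_two_pow (Additive V)
    rw [hk, h2, ← pow_mul, mul_comm]
    exact Nat.pow_le_pow_right two_pos h1
  · have h1 := elem_le ρ' hρ' hY (S.mapSurjective hf) (B := B.map (QuotientGroup.mk' ρ.ker))
      (map_mono hBS) (by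
        rintro _ ⟨b, hb, rfl⟩
        rw [← map_mul, hB b hb, map_one]) (s := QuotientGroup.mk' ρ.ker s) ⟨s, hs, rfl⟩
      (fun h => hs1 (hS s hs ((QuotientGroup.eq_one_iff _).1 h)))
    rw [hinj B hBS] at h1
    refine h1.trans (le_of_eq ?_)
    rw [cdim, ← card_two_pow, ← Nat.card_coe_set_eq]
    refine Nat.card_congr (Additive.toMul.subtypeEquiv fun w => ?_)
    constructor
    · rintro ⟨v, rfl⟩
      exact ⟨v.toMul, by
        change _ = ρ s v.toMul / v.toMul
        rw [div_eq_mul_inv, mul_comm]⟩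
    · rintro ⟨v, hv⟩
      refine ⟨Additive.ofMul v, Additive.toMul.injective ?_⟩
      rw [← hv]
      change ρ s v / v = _
      rw [div_eq_mul_inv, mul_comm]

end H32.RF
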