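import Cfsg.Agent.Base
import Cfsg.Agent.H32.PiChar
import Cfsg.Agent.H32.IndKer
import Cfsg.Agent.H32.IndSurj
import Cfsg.Agent.H32.CliffordCorr
import Cfsg.Agent.H32.Gallagher
import Cfsg.Agent.H28.Degree
import Cfsg.Agent.H1.Cocycle

/-! Regular wreath products: Kaloujnine–Krasner embedding, characters, Dade's embedding of
solvable groups in M-groups. -/

set_option autoImplicit false

namespace H32

open Cfsg H28 H33 RegularWreathProduct

universe u

section wr
variable {D D' Q : Type*} [Group D] [Group D'] [Group Q]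

/-- the base group of a wreath product -/
abbrev wrBase (D Q : Type*) [Group D] [Group Q] : Subgroup (D ≀ᵣ Q) :=
  (rightHom : D ≀ᵣ Q →* Q).ker

/-- the base group is the group of functions -/
def wrBaseEquiv : wrBase D Q ≃* (Q → D) where
  toFun b := b.1.left
  invFun f := ⟨⟨f, 1⟩, rfl⟩
  left_inv b := Subtype.ext (RegularWreathProduct.ext rfl (Eq.symm b.2))
  right_inv _ := rfl
  map_mul' a b := by
    have : a.1.right = 1 := a.2
    ext x
    simp [this]

theorem wrBaseEquiv_apply (b : wrBase D Q) : wrBaseEquiv b = b.1.left := rfl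

theorem rightHom_surjective : Function.Surjective (rightHom : D ≀ᵣ Q →* Q) :=
  fun q => ⟨inl q, rfl⟩

theorem wrBase_index : (wrBase D Q).index = Nat.card Q := by
  rw [Subgroup.index_ker, MonoidHom.range_eq_top.2 rightHom_surjective, Subgroup.card_top]

/-- functoriality of the wreath product in the first argument -/
def wrMap (f : D →* D') : D ≀ᵣ Q →* D' ≀ᵣ Q where
  toFun w := ⟨fun q => f (w.left q), w.right⟩
  map_one' := by ext <;> simp
  map_mul' a b := by ext <;> simp

theorem wrMap_injective {f : D →* D'} (hf : Function.Injective f) :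
    Function.Injective (wrMap f : D ≀ᵣ Q →* D' ≀ᵣ Q) := by
  intro a b h
  ext q
  · exact hf (congrFun (congrArg RegularWreathProduct.left h) q)
  · exact congrArg (fun w : D' ≀ᵣ Q => w.right) h

/-- The Kaloujnine–Krasner homomorphism. -/
noncomputable def kkHom {G : Type*} [Group G] (N : Subgroup G) [N.Normal] :
    G →* N ≀ᵣ (G ⧸ N) where
  toFun g := ⟨fun q => indCocycle N g q, g⟩
  map_one' := by
    ext q
    · simp [indCocycle_one]
    · simp
  map_mul' a b := by
    ext q
    · exact congrArg Subtype.val (indCocycle_mul N a b q)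
    · simp

theorem kkHom_injective {G : Type*} [Group G] (N : Subgroup G) [N.Normal] :
    Function.Injective (kkHom N) := by
  rw [injective_iff_map_eq_one]
  intro g hg
  have h1 : indCocycle N g 1 = 1 := congrFun (congrArg RegularWreathProduct.left hg) 1
  have h2 : (g : G ⧸ N) = 1 := congrArg RegularWreathProduct.right hg
  have h3 := indCocycle_coe N g 1
  have h4 : g⁻¹ • (1 : G ⧸ N) = 1 := by
    change ((g⁻¹ : G) : G ⧸ N) * 1 = 1
    rw [QuotientGroup.mk_inv, h2, inv_one, one_mul]
  rw [h1, h4] at h3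
  have h5 : g = (1 : G ⧸ N).out * ((1 : G ⧸ N).out⁻¹ * g * (1 : G ⧸ N).out) *
    (1 : G ⧸ N).out⁻¹ := by group
  rw [h5, ← h3]
  simp

theorem cj_wrBase [Fintype Q] (w : D ≀ᵣ Q) {φ : Q → D → ℂ} (hφ : ∀ q, IsClassFunction D (φ q)) :
    cj w (fun b : wrBase D Q => piFun φ (wrBaseEquiv b)) =
      fun b : wrBase D Q => piFun (fun q => φ (w.right * q)) (wrBaseEquiv b) := by
  ext b
  have hb : b.1.right = 1 := b.2
  rw [cj_apply]
  simp only [piFun_apply, wrBaseEquiv_apply]
  refine (Fintype.prod_equiv (Equiv.mulLeft w.right) _ _ fun q => ?_).symm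
  have := (hφ (w.right * q)).apply_conj (w.left (w.right * q)) (b.1.left q)
  simpa [hb] using this.symm

end wr

/-- M-groups. -/
def IsMGrp (M : Type*) [Group M] [Fintype M] : Prop :=
  ∀ χ : M → ℂ, IsIrrCharacter M χ →
    ∃ (H : Subgroup M) (lam : H →* ℂˣ), χ = indFun H (fun h => (lam h : ℂ))

theorem eq_of_le_of_index_prime {G : Type*} [Group G] {N T : Subgroup G} (hp : N.index.Prime)
    (hNT : N ≤ T) (hT : T ≠ ⊤) : T = N := by
  rcases (Nat.dvd_prime hp).1 (Subgroup.index_dvd_of_le hNT) with h | h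
  · exact absurd (Subgroup.index_eq_one.1 h) hT
  · have h1 := Subgroup.relIndex_mul_index hNT
    rw [h] at h1
    have h2 : N.relIndex T = 1 := Nat.eq_of_mul_eq_mul_right hp.pos (by rw [h1, one_mul])
    exact le_antisymm (Subgroup.relIndex_eq_one.1 h2) hNT

theorem isMGrp_wreath {D Q : Type*} [Group D] [Fintype D] [Group Q] [Fintype Q]
    [Fintype (D ≀ᵣ Q)] (hD : IsMGrp D) (hQ : (Nat.card Q).Prime) : IsMGrp (D ≀ᵣ Q) := by
  classical
  intro χ hχ
  obtain ⟨θ, hθ, hc⟩ := exists_constituent_res (H := wrBase D Q) hχ.isCharacter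
    hχ.apply_one_ne_zero
  obtain ⟨φ, hφ, e⟩ := exists_eq_piFun (hθ.comp_mulEquiv wrBaseEquiv.symm)
  have eθ : θ = fun b => piFun φ (wrBaseEquiv b) := by
    ext b; rw [← e]; simp
  choose H lam hH using fun q => hD (φ q) (hφ q)
  by_cases hinv : inertia θ = ⊤
  · have hq : ∀ q, φ q = φ 1 := by
      intro q
      have h1 : cj (inl q : D ≀ᵣ Q) θ = θ := mem_inertia.1 (hinv ▸ Subgroup.mem_top _)
      rw [eθ, cj_wrBase _ fun q => (hφ q).isClassFunction] at h1
      have h2 : piFun (fun x => φ (q * x)) = piFun φ := by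
        ext f
        simpa using congrFun h1 (wrBaseEquiv.symm f)
      simpa using congrFun (eq_of_piFun_eq (fun x => hφ (q * x)) hφ h2) 1
    let K : Subgroup (D ≀ᵣ Q) :=
      { carrier := {w | ∀ q, w.left q ∈ H 1}
        mul_mem' := fun ha hb q => (H 1).mul_mem (ha q) (hb _)
        one_mem' := fun q => (H 1).one_mem
        inv_mem' := fun ha q => (H 1).inv_mem (ha _) }
    let mu : K →* ℂˣ :=
      { toFun := fun w => ∏ q, lam 1 ⟨w.1.left q, w.2 q⟩
        map_one' := Finset.prod_eq_one fun q _ => map_one _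
        map_mul' := fun a b => by
          rw [← Fintype.prod_equiv (Equiv.mulLeft a.1.right⁻¹)
            (fun q => lam 1 ⟨b.1.left (a.1.right⁻¹ * q), b.2 _⟩)
            (fun q => lam 1 ⟨b.1.left q, b.2 q⟩) fun _ => rfl, ← Finset.prod_mul_distrib]
          exact Finset.prod_congr rfl fun q _ => by rw [← map_mul]; rfl }
    have hψ : IsCharacter _ (indFun K fun k => (mu k : ℂ)) := (isCharacter_of_hom mu).indFun
    have hres : (fun b : wrBase D Q => indFun K (fun k => (mu k : ℂ)) b) = θ := by
      rw [res_indFun_of_mul_eq_top (H := K) (K := wrBase D Q) (fun g =>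
        ⟨⟨g.left, 1⟩, rfl, inl g.right, fun q => (H 1).one_mem, by ext <;> simp⟩)
        (isCharacter_of_hom mu).isClassFunction, eθ]
      ext b
      have e1 : φ = fun _ => indFun (H 1) fun h => (lam 1 h : ℂ) := by
        ext1 q; rw [hq, hH]
      rw [e1, ← indFun_pi]
      refine (indFun_comp_surjective (wrBaseEquiv (D := D) (Q := Q)).toMonoidHom
        wrBaseEquiv.surjective (T := K.subgroupOf (wrBase D Q))
        (H := Subgroup.pi Set.univ fun _ => H 1)
        (fun x => ⟨fun h q => h q trivial, fun h q _ => h q⟩) ?_ b).symm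
      rintro t ⟨h, hh⟩ rfl
      simp [mu, wrBaseEquiv_apply]
    obtain ⟨β, hβ, hk, rfl⟩ := gallagher_surj (N := wrBase D Q) hψ (hres ▸ hθ) hχ (hres ▸ hc)
    have : Fact (Nat.card Q).Prime := ⟨hQ⟩
    have hcyc : IsCyclic Q := isCyclic_of_prime_card rfl
    have hlin : β 1 = 1 := by
      rw [← hβ.isCharacter.charDegree_eq_one_iff, hβ.charDegree_eq_one_iff]
      refine le_trans ?_ hk
      letI := hcyc.commGroup
      exact Abelianization.commutator_subset_ker (rightHom : D ≀ᵣ Q →* Q)
    obtain ⟨f, rfl⟩ := hβ.isCharacter.exists_hom hlin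
    refine ⟨K, mu * f.comp K.subtype, ?_⟩
    rw [mul_comm, ← indFun_mul_res _ _ hβ.isClassFunction]
    simp
  · have hT : wrBase D Q = inertia θ := (eq_of_le_of_index_prime (by rwa [wrBase_index])
      (le_inertia hθ.isClassFunction) hinv).symm
    obtain ⟨ψ, hψ, rfl, h1⟩ := cliffordCorr_surj hθ hT le_rfl hχ hc
    have h2 : ψ = θ := hψ.eq_of_classInner_ne_zero hθ (h1 ▸ hc)
    let H' := (Subgroup.pi Set.univ H).comap (wrBaseEquiv (D := D) (Q := Q)).toMonoidHom
    let mu : H' →* ℂˣ :=
      { toFun := fun w => ∏ q, lam q ⟨w.1.1.left q, w.2 q trivial⟩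
        map_one' := Finset.prod_eq_one fun q _ => map_one _
        map_mul' := fun a b => by
          rw [← Finset.prod_mul_distrib]
          refine Finset.prod_congr rfl fun q _ => ?_
          rw [← map_mul]
          congr 1
          exact Subtype.ext (congrFun (map_mul wrBaseEquiv a.1 b.1) q) }
    have h3 : ψ = indFun H' fun h => (mu h : ℂ) := by
      rw [h2, eθ, funext hH, ← indFun_pi]
      ext b
      refine (indFun_comp_surjective (wrBaseEquiv (D := D) (Q := Q)).toMonoidHom
        wrBaseEquiv.surjective (fun x => Iff.rfl) ?_ b)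
      rintro t ⟨h, hh⟩ rfl
      simp [mu, wrBaseEquiv_apply]
    refine ⟨H'.map (wrBase D Q).subtype, mu.comp (H'.equivMapOfInjective _
      (wrBase D Q).subtype_injective).symm.toMonoidHom, ?_⟩
    rw [h3, indFun_map_subtype]
    rfl

/-- Dade: every finite solvable group embeds in an M-group. -/
theorem exists_embed_isMGrp (n : ℕ) : ∀ (G : Type u) [Group G] [Finite G] [Group.IsSolvable G],
    Nat.card G = n → ∃ (M : Type u) (_ : Group M) (_ : Fintype M), IsMGrp M ∧
      ∃ f : G →* M, Function.Injective f := by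
  induction n using Nat.strong_induction_on with
  | _ n ih =>
  intro G _ _ _ hn
  rcases subsingleton_or_nontrivial G with h | h
  · letI := Fintype.ofFinite G
    refine ⟨G, inferInstance, inferInstance, fun χ hχ => ?_, MonoidHom.id G, fun _ _ h => h⟩
    obtain ⟨f, rfl⟩ := hχ.isCharacter.exists_hom
      (hχ.apply_one_of_comm fun _ _ => Subsingleton.elim _ _)
    exact ⟨⊤, f.comp (⊤ : Subgroup G).subtype, (indFun_top hχ.isClassFunction).symm⟩
  · obtain ⟨N, hN, hp⟩ := H1.exists_normal_prime_index G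
    have hlt : Nat.card N < n := by
      rw [← hn, ← N.index_mul_card]
      have := hp.one_lt
      have h2 : 0 < Nat.card N := Nat.card_pos
      nlinarith
    obtain ⟨M, _, _, hM, f, hf⟩ := ih _ hlt N rfl
    letI := Fintype.ofFinite (G ⧸ N)
    letI := Fintype.ofFinite (M ≀ᵣ (G ⧸ N))
    exact ⟨M ≀ᵣ (G ⧸ N), inferInstance, inferInstance, isMGrp_wreath hM hp,
      (wrMap f).comp (kkHom N), (wrMap_injective hf).comp (kkHom_injective N)⟩

end H32
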